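import Cfsg.Agent.H30.UWreath.Classify

/-!
An isometry transporting the slots into a small overgroup and mapping some transvection of a slot to such a
transvection is monomial, given the structure of the smaller overgroups.
-/

set_option autoImplicit false
set_option maxHeartbeats 1000000
set_option linter.unusedSectionVars false

universe u

namespace Cfsg.Agent.H30.UWreath

open Matrix Cfsg.Agent.H98.TensorUnit
open scoped Kronecker

variable {F : Type*} [Field F] [StarRing F] [UField F] [Finite F] {k : ℕ}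

/-- The excluded parameters are excluded. -/
structure Good (F : Type*) [Field F] [StarRing F] (k : ℕ) : Prop where
  three : 3 ≤ k
  big : (∃ r : F, r ≠ 0 ∧ r * star r ≠ 1) ∨ 4 ≤ k

variable (F k) in
/-- Small overgroups consist of monomial elements. -/
def AllMono (ι : Type u) [Fintype ι] [DecidableEq ι] : Prop :=
  Nonempty ι → ∀ M : Set (Mt F ι k), Ov M → Small M → ∀ g ∈ M, Mono g

variable {ι : Type u} [Fintype ι] [DecidableEq ι]

theorem sl_zero (a : ι) : sl a (0 : Matrix (Fin k) (Fin k) F) = 0 := by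
  ext x y
  rw [sl, krn_apply]
  exact Finset.prod_eq_zero (Finset.mem_univ a) (by simp)

theorem nd_sq (a : ι) {c : Fin k → F} (hc : ip c c = 0) : nd a c * nd a c = 0 := by
  rw [nd, sl_mul, dy_self_sq hc, sl_zero]

theorem nd_rank_le (a : ι) (c : Fin k → F) : (nd a c).rank ≤ Fintype.card ({i // i ≠ a} → Fin k) := by
  have h := congrArg Matrix.rank (rs_nd a c)
  rw [rs_apply, rank_submatrix] at h
  rw [h]
  exact (rank_mul_le_left _ _).trans (rank_le_card_width _)

/-- A conjugate of a slot transvection is classifiable. -/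
theorem conj_rt_props {g : Mt F ι k} (hg : IsU g) {a : ι} {c : Fin k → F} {l : F} (hc : IsRt c l) :
    (g * sl a (rt c l) * gᴴ - 1) * (g * sl a (rt c l) * gᴴ - 1) = 0 ∧ g * sl a (rt c l) * gᴴ ≠ 1 ∧
      (g * sl a (rt c l) * gᴴ - 1).rank ≤ Fintype.card ({i // i ≠ a} → Fin k) := by
  have e : g * sl a (rt c l) * gᴴ - 1 = g * (l • nd a c) * gᴴ := by
    rw [sl_rt, Matrix.mul_add, Matrix.add_mul, Matrix.mul_one, hg.inv_right, add_sub_cancel_left]
  have hne : l • nd a c ≠ 0 := fun h => by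
    rcases isEmpty_or_nonempty (Fin k) with hk | hk
    · exact hc.ne (funext fun i => (hk.false i).elim)
    have h1 := congrArg (rs a) h
    rw [map_smul, nd, rs_sl_self, map_zero, ← smul_kronecker] at h1
    have h2 : l • dy c c = 0 := kr_left_inj (β := {i // i ≠ a} → Fin k) (by rw [h1, zero_kronecker])
    exact dy_self_ne hc.ne ((smul_eq_zero.1 h2).resolve_left hc.l0)
  refine ⟨?_, fun h => hne ?_, ?_⟩
  · rw [e, ← hg.conj_cancel]
    simp only [Matrix.smul_mul, Matrix.mul_smul, nd_sq a hc.iso, smul_zero, Matrix.mul_zero, Matrix.zero_mul]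
  · have h1 : g * (l • nd a c) * gᴴ = 0 := by rw [← e, h, sub_self]
    have h2 := congrArg (fun Z => gᴴ * Z * g) h1
    simp only [Matrix.mul_assoc, show gᴴ * g = 1 from hg, Matrix.mul_one, Matrix.zero_mul, Matrix.mul_zero] at h2
    rwa [← Matrix.mul_assoc, show gᴴ * g = 1 from hg, Matrix.one_mul] at h2
  · rw [e]
    refine ((rank_mul_le_left _ _).trans (rank_mul_le_right _ _)).trans ?_
    rw [← Matrix.one_mul (nd a c), ← Matrix.smul_mul]
    exact (rank_mul_le_right _ _).trans (nd_rank_le a c)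

section TwoFactors

variable {κ β : Type*} [Fintype κ] [DecidableEq κ] [Fintype β] [DecidableEq β]

theorem block_map {G : Matrix (κ × β) (κ × β) F} (hG : IsU G) {c : κ → F} (hc : c ≠ 0) {ν : F} (hν : ν ≠ 0)
    (hνs : star ν = ν) (h : G * (cb β c * (cb β c)ᴴ) * Gᴴ = ν • (cb β c * (cb β c)ᴴ)) :
    ∃ (x : F) (a : Matrix β β F), x ≠ 0 ∧ IsU a ∧ G * cb β c = x • (cb β c * a) := by
  obtain ⟨e, he⟩ := (hU F κ).exists_one hc
  rw [hU_B] at he
  have hCE : (cb β c)ᴴ * cb β e = 1 := by rw [cbH_cb, ip_symm1 he, one_smul]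
  set a := ν • ((cb β c)ᴴ * G * cb β e) with ha
  have h1 : G * cb β c = cb β c * a := by
    have h2 := congrArg (fun Z => Z * (G * cb β e)) h
    simp only [Matrix.mul_assoc, Matrix.smul_mul] at h2
    rw [← Matrix.mul_assoc Gᴴ G, show Gᴴ * G = 1 from hG, Matrix.one_mul, hCE, Matrix.mul_one] at h2
    rw [h2, ha, Matrix.mul_smul, Matrix.mul_assoc]
  have h2 : a * aᴴ = ν • 1 := by
    rw [show G * (cb β c * (cb β c)ᴴ) * Gᴴ = (G * cb β c) * (G * cb β c)ᴴ by
      rw [conjTranspose_mul]; simp only [Matrix.mul_assoc], h1, conjTranspose_mul, Matrix.mul_assoc,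
      ← Matrix.mul_assoc a, ← Matrix.mul_assoc (cb β c)] at h
    have h3 : (cb β c * (a * aᴴ)) * (cb β c)ᴴ = (cb β c * (ν • (1 : Matrix β β F))) * (cb β c)ᴴ := by
      rw [h, Matrix.mul_smul, Matrix.mul_one, Matrix.smul_mul]
    exact cb_cancel hc (cbH_cancel hc h3)
  obtain ⟨x, hx⟩ := UField.norm ν hνs
  have hx0 : x ≠ 0 := fun e => hν (by rw [← hx, e, zero_mul])
  refine ⟨x, x⁻¹ • a, hx0, ?_, ?_⟩
  · refine mul_eq_one_comm.1 ?_
    rw [conjTranspose_smul, smul_mul_smul_comm, h2, smul_smul, ← hx, star_inv₀,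
      show x⁻¹ * (star x)⁻¹ * (x * star x) = 1 by
        have := star_ne_zero.2 hx0
        field_simp, one_smul]
  · rw [Matrix.mul_smul, smul_smul, mul_inv_cancel₀ hx0, one_smul, h1]

theorem one_kr_cb (B : Matrix β β F) (c : κ → F) : ((1 : Matrix κ κ F) ⊗ₖ B) * cb β c = cb β c * B := by
  rw [kr_cb, one_mulVec]

theorem decompose_of_block [Nonempty β] {M : Set (Matrix (κ × β) (κ × β) F)} (hM : Ov2 M) (hS : Small2 M)
    (hκ : 3 ≤ Fintype.card κ) (hq : (∃ r : F, r ≠ 0 ∧ r * star r ≠ 1) ∨ 4 ≤ Fintype.card κ)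
    {G : Matrix (κ × β) (κ × β) F} (hG : IsU G)
    (hconj : ∀ A : Matrix κ κ F, IsSU A → G * (A ⊗ₖ (1 : Matrix β β F)) * Gᴴ ∈ M) {c : κ → F} (hc0 : c ≠ 0)
    (hc : ip c c = 0) {ν : F} (hν : ν ≠ 0) (hνs : star ν = ν)
    (h : G * (cb β c * (cb β c)ᴴ) * Gᴴ = ν • (cb β c * (cb β c)ᴴ)) : ∃ X Y, IsU X ∧ IsU Y ∧ G = X ⊗ₖ Y := by
  obtain ⟨x, a, hx, ha, hGc⟩ := block_map hG hc0 hν hνs h
  obtain ⟨T, hT, hTc⟩ := exists_torus hκ hc0 hc (inv_ne_zero hx)
  set W := (T ⊗ₖ (1 : Matrix β β F)) with hW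
  set V := ((1 : Matrix κ κ F) ⊗ₖ aᴴ) with hV
  have hWU : IsU W := hT.1.kr isU_one
  have hVU : IsU V := isU_one.kr ha.conjT
  have hfix : W * G * V * cb β c = cb β c := by
    rw [Matrix.mul_assoc, hV, one_kr_cb, Matrix.mul_assoc W, ← Matrix.mul_assoc G, hGc, Matrix.smul_mul,
      Matrix.mul_assoc (cb β c), ha.inv_right, Matrix.mul_one, Matrix.mul_smul, hW, kr_cb, hTc, Matrix.mul_one,
      cb_smul, smul_smul, mul_inv_cancel₀ hx, one_smul]
  obtain ⟨A, hA, hGA⟩ := line hM hS hκ hq ((hWU.mul hG).mul hVU) (fun A hA => by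
    have hc1 : V * (A ⊗ₖ (1 : Matrix β β F)) * Vᴴ = A ⊗ₖ (1 : Matrix β β F) := by
      rw [hV, conjTranspose_kronecker, conjTranspose_conjTranspose, conjTranspose_one, ← mul_kronecker_mul,
        ← mul_kronecker_mul, Matrix.one_mul, Matrix.mul_one, Matrix.mul_one, show aᴴ * a = 1 from ha]
    have := hM.mul _ (hM.mul _ (hM.fst T hT) _ (hconj A hA)) _ (hM.inv _ (hM.fst T hT))
    rw [← hW] at this
    convert this using 1
    conv_rhs => rw [← hc1]
    simp only [conjTranspose_mul, Matrix.mul_assoc]) hc0 hc hfix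
  refine ⟨Tᴴ * A, a, hT.1.conjT.mul hA, ha, ?_⟩
  have h1 : G = Wᴴ * (W * G * V) * Vᴴ := by
    simp only [Matrix.mul_assoc, hVU.inv_right, Matrix.mul_one]
    rw [← Matrix.mul_assoc, show Wᴴ * W = 1 from hWU, Matrix.one_mul]
  rw [h1, hGA, hW, hV, kr_conjT, conjTranspose_kronecker, conjTranspose_conjTranspose, conjTranspose_one,
    ← mul_kronecker_mul, ← mul_kronecker_mul, Matrix.mul_one, Matrix.one_mul, Matrix.one_mul]

end TwoFactors

theorem mono_lift (a : ι) {X : Matrix (Fin k) (Fin k) F} (hX : IsU X) {Y : Mt F {i // i ≠ a} k} (hY : Mono Y) :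
    Mono ((rs a).symm (X ⊗ₖ Y)) := by
  obtain ⟨B, τ, hB, rfl⟩ := hY
  refine ⟨fun i => if h : i = a then X else B ⟨i, h⟩, Equiv.Perm.ofSubtype τ, fun i => ?_, ?_⟩
  · dsimp only
    split_ifs with h
    exacts [hX, hB _]
  · apply (rs a).injective
    rw [AlgEquiv.apply_symm_apply, map_mul, rs_krn, rs_pm, ← mul_kronecker_mul, Matrix.mul_one, dif_pos rfl]
    congr 2
    congr 1
    funext i
    rw [dif_neg i.2]

theorem root_map (n : ℕ) : ∀ (ι : Type u) [Fintype ι] [DecidableEq ι], Fintype.card ι ≤ n → Good F k →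
    (∀ (s : Type u) [Fintype s] [DecidableEq s], Fintype.card s < Fintype.card ι → AllMono F k s) →
    ∀ {M : Set (Mt F ι k)}, Ov M → Small M → ∀ {g : Mt F ι k}, IsU g →
    (∀ (i : ι) (A : Matrix (Fin k) (Fin k) F), IsSU A → g * sl i A * gᴴ ∈ M) →
    ∀ {a b : ι} {c f : Fin k → F} {l m : F}, IsRt c l → IsRt f m →
      g * sl a (rt c l) * gᴴ = sl b (rt f m) → Mono g := by
  induction n with
  | zero =>
    intro ι _ _ hn _ _ M _ _ g _ _ a
    exact absurd (Fintype.card_pos_iff.2 ⟨a⟩) (by omega)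
  | succ n ih =>
    intro ι _ _ hn hG IH M hM hS g hg hconj a b c f l m hc hf hmap
    have h3 := hG.three
    haveI : Nonempty (Fin k) := ⟨⟨0, by omega⟩⟩
    obtain ⟨B, hB, hBf⟩ := exists_move (κ := Fin k) (by simpa using h3) hf.ne hf.iso hc.ne hc.iso
    set u : Mt F ι k := sl a B * pm (Equiv.swap a b) with hu
    have huM : Mono u := (mono_sl a hB.1).mul (mono_pm _)
    have huU := huM.isU
    set M₁ := cset uᴴ M
    have hM₁ : Ov M₁ := hM.cset huU.conjT fun i A hA => hM.mono_slot huM.conjT i hA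
    have hS₁ : Small M₁ := hS.cset huM.conjT
    set g₁ := u * g with hg₁
    have hg₁U : IsU g₁ := huU.mul hg
    have hconj₁ : ∀ (i : ι) (A : Matrix (Fin k) (Fin k) F), IsSU A → g₁ * sl i A * g₁ᴴ ∈ M₁ := fun i A hA => by
      refine ⟨(hg₁U.mul (sl_isU i hA.1)).mul hg₁U.conjT, ?_⟩
      rw [conjTranspose_conjTranspose, hg₁, conjTranspose_mul u g]
      rw [show uᴴ * (u * g * sl i A * (gᴴ * uᴴ)) * u = (uᴴ * u) * (g * sl i A * gᴴ) * (uᴴ * u) by
        simp only [Matrix.mul_assoc], show uᴴ * u = 1 from huU, Matrix.one_mul, Matrix.mul_one]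
      exact hconj i A hA
    have hmap₁ : g₁ * sl a (rt c l) * g₁ᴴ = sl a (rt c m) := by
      rw [hg₁, conjTranspose_mul u g, show u * g * sl a (rt c l) * (gᴴ * uᴴ) = u * (g * sl a (rt c l) * gᴴ) * uᴴ by
        simp only [Matrix.mul_assoc], hmap, hu, sl, mono_conj_sl _ (fun i => ?_), Equiv.swap_apply_right,
        Function.update_self, rt_conj hB.1, hBf, sl]
      rcases eq_or_ne i a with rfl | hi
      · simpa using hB.1
      · simpa [Function.update_of_ne hi] using isU_one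
    -- two factors
    set β := {i // i ≠ a} → Fin k
    have hGU : IsU (rs a g₁) := (rs_isU_iff a).2 hg₁U
    have hν : rs a g₁ * (cb β c * (cb β c)ᴴ) * (rs a g₁)ᴴ = (m / l) • (cb β c * (cb β c)ᴴ) := by
      have h1 := congrArg (rs a) hmap₁
      rw [map_mul, map_mul, rs_conjT, sl_rt, sl_rt, map_add, map_add, map_one, map_smul, map_smul, rs_nd,
        Matrix.mul_add, Matrix.add_mul, Matrix.mul_one, hGU.inv_right, add_right_inj, Matrix.mul_smul,
        Matrix.smul_mul] at h1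
      rw [div_eq_inv_mul, ← smul_smul, ← h1, smul_smul, inv_mul_cancel₀ hc.l0, one_smul]
    obtain ⟨X, Y, hX, hY, hXY⟩ := decompose_of_block (hM₁.fac a) (hS₁.fac a) (by simpa using h3)
      (by simpa using hG.big) hGU (fun A hA => by
        show (rs a).symm _ ∈ M₁
        rw [← rs_sl_self, ← rs_conjT, ← map_mul, ← map_mul, AlgEquiv.symm_apply_apply]
        exact hconj₁ a A hA) hc.ne hc.iso (div_ne_zero hf.l0 hc.l0)
      (by rw [star_div₀, hf.skew, hc.skew, neg_div_neg_eq]) hν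
    suffices hY' : ∃ X' Y', IsU X' ∧ Mono Y' ∧ rs a g₁ = X' ⊗ₖ Y' by
      obtain ⟨X', Y', hX', hY', he⟩ := hY'
      have h1 : Mono g₁ := by
        rw [← (rs a).symm_apply_apply g₁, he]; exact mono_lift a hX' hY'
      have h2 := huM.conjT.mul h1
      rwa [hg₁, ← Matrix.mul_assoc, show uᴴ * u = 1 from huU, Matrix.one_mul] at h2
    rcases isEmpty_or_nonempty {i // i ≠ a} with he | hne
    · obtain ⟨z⟩ : Nonempty β := inferInstance
      have hY1 : Y = Y z z • (1 : Mt F {i // i ≠ a} k) := Matrix.ext fun x y => by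
        rw [Subsingleton.elim x z, Subsingleton.elim y z]; simp
      refine ⟨Y z z • X, 1, ?_, by
        rw [← pm_one]; exact mono_pm _, ?_⟩
      · have h1 : IsU (X ⊗ₖ Y) := hX.kr hY
        rw [hY1, kronecker_smul, ← smul_kronecker, IsU, kr_conjT, kr_left_mul, ← one_kronecker_one] at h1
        exact kr_left_inj h1
      · conv_lhs => rw [hXY, hY1]
        rw [kronecker_smul, smul_kronecker]
    refine ⟨X, Y, hX, ?_, hXY⟩
    obtain ⟨i⟩ := hne
    set M' := sub a M₁
    have hlt : Fintype.card {i // i ≠ a} < Fintype.card ι := Fintype.card_subtype_lt (x := a) (by simp)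
    have hM' : Ov M' := hM₁.sub a
    have hS' : Small M' := hS₁.sub (by omega) a
    have hconj' : ∀ (i : {i // i ≠ a}) (A : Matrix (Fin k) (Fin k) F), IsSU A → Y * sl i A * Yᴴ ∈ M' := by
      intro i A hA
      refine ⟨(hY.mul (sl_isU i hA.1)).mul hY.conjT, ?_⟩
      have h1 := hconj₁ i.1 A hA
      rw [← (rs a).symm_apply_apply (g₁ * sl i.1 A * g₁ᴴ)] at h1
      convert h1 using 2
      rw [map_mul, map_mul, rs_conjT, hXY, rs_sl_ne i.2, conjTranspose_kronecker, ← mul_kronecker_mul,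
        ← mul_kronecker_mul, Matrix.mul_one, hX.inv_right]
    have hmono : ∀ x ∈ M', Mono x := IH _ hlt ⟨i⟩ M' hM' hS'
    obtain ⟨c₀, l₀, hc₀⟩ := exists_rt (F := F) (κ := Fin k) (by simpa using h3)
    obtain ⟨P, Q, hP, hQ, hPQ⟩ := exists_commutator (κ := Fin k) (by simpa using h3) hc₀
    have hz : Y * sl i (rt c₀ l₀) * Yᴴ =
        (Y * sl i P * Yᴴ) * (Y * sl i Q * Yᴴ) * (Y * sl i P * Yᴴ)ᴴ * (Y * sl i Q * Yᴴ)ᴴ := by
      simp only [conjTranspose_mul, conjTranspose_conjTranspose, sl_conjT, ← hPQ, ← sl_mul, Matrix.mul_assoc]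
      simp only [← Matrix.mul_assoc Yᴴ Y, show Yᴴ * Y = 1 from hY, Matrix.one_mul]
    obtain ⟨A1, s1, hA1, e1⟩ := hmono _ (hconj' i P hP)
    obtain ⟨A2, s2, hA2, e2⟩ := hmono _ (hconj' i Q hQ)
    rw [e1, e2, mono_conjT, mono_conjT, mono_mul, mono_mul, mono_mul] at hz
    obtain ⟨h1, h2, h3'⟩ := conj_rt_props hY (a := i) hc₀
    rw [hz] at h1 h2 h3'
    rcases classify h3 (fun l => ((((hA1 _).mul (hA2 _)).mul (hA1 _).conjT).mul (hA2 _).conjT)) h1 h2 i h3' with
      ⟨j, c₁, l₁, hc₁, he⟩ | ⟨-, -, p, q, hpq, hs, -⟩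
    · rw [← hz] at he
      exact ih _ (by omega) hG (fun s _ _ hs => IH s (hs.trans hlt)) hM' hS' hY hconj' hc₀ hc₁ he
    · exfalso
      have := congrArg Equiv.Perm.sign hs
      rw [Equiv.Perm.sign_swap hpq, map_mul, map_mul, map_mul, map_inv, map_inv] at this
      rcases Int.units_eq_one_or (Equiv.Perm.sign s1) with h | h <;>
        rcases Int.units_eq_one_or (Equiv.Perm.sign s2) with h' | h' <;>
          · rw [h, h'] at this; exact absurd this (by decide)

end Cfsg.Agent.H30.UWreath
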