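import Cfsg.Agent.H30.UWreath.Pi
import Cfsg.Agent.H98.TensorUnit.Pair

/-!
Monomial isometries which are unipotent of index two and of small rank: transvections in one slot, or twisted
transpositions in dimension three and characteristic two.
-/

set_option autoImplicit false
set_option maxHeartbeats 1000000
set_option linter.unusedSectionVars false

namespace Cfsg.Agent.H30.UWreath

open Matrix Module
open scoped Kronecker

variable {F : Type*} [Field F] [StarRing F] [UField F] [Finite F] {ι : Type*} [Fintype ι] [DecidableEq ι] {k : ℕ}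

/-- A pure vector. -/
def pv (u : ι → Fin k → F) : (ι → Fin k) → F := fun x => ∏ i, u i (x i)

theorem krn_pv (A : ι → Matrix (Fin k) (Fin k) F) (u : ι → Fin k → F) :
    krn A *ᵥ pv u = pv fun i => A i *ᵥ u i := by
  funext x
  simp only [Matrix.mulVec, dotProduct, krn_apply, pv]
  rw [Fintype.prod_sum]
  exact Finset.sum_congr rfl fun y _ => Finset.prod_mul_distrib.symm

theorem pm_pv (σ : Equiv.Perm ι) (u : ι → Fin k → F) :
    (pm σ : Mt F ι k) *ᵥ pv u = pv fun i => u (σ⁻¹ i) := by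
  funext x
  simp only [Matrix.mulVec, dotProduct, pm_apply, ite_mul, one_mul, zero_mul, Finset.sum_ite_eq', Finset.mem_univ,
    if_true, pv]
  exact Fintype.prod_equiv σ _ _ fun i => by simp

theorem dot_pv (φ u : ι → Fin k → F) : pv φ ⬝ᵥ pv u = ∏ i, φ i ⬝ᵥ u i := by
  simp only [dotProduct, pv]
  rw [Fintype.prod_sum]
  exact Finset.sum_congr rfl fun y _ => Finset.prod_mul_distrib.symm

theorem exists_dot {n : Type*} [Fintype n] [DecidableEq n] {x : n → F} {U : Submodule F (n → F)} (hx : x ∉ U) :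
    ∃ φ : n → F, φ ⬝ᵥ x = 1 ∧ ∀ s ∈ U, φ ⬝ᵥ s = 0 := by
  obtain ⟨f, hfx, hf⟩ := Submodule.exists_dual_map_eq_bot_of_notMem hx inferInstance
  refine ⟨fun i => (f x)⁻¹ * f (Pi.single i 1), ?_, fun s hs => ?_⟩ <;>
    simp only [dotProduct, mul_assoc, ← Finset.mul_sum]
  · rw [show ∑ i, f (Pi.single i 1) * x i = f x by
      conv_rhs => rw [pi_eq_sum_univ' x, map_sum]
      exact Finset.sum_congr rfl fun i _ => by rw [map_smul, smul_eq_mul, mul_comm], inv_mul_cancel₀ hfx]
  · have : f s = 0 := by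
      have h : f s ∈ U.map f := Submodule.mem_map_of_mem hs
      rwa [hf, Submodule.mem_bot] at h
    rw [show ∑ i, f (Pi.single i 1) * s i = f s by
      conv_rhs => rw [pi_eq_sum_univ' s, map_sum]
      exact Finset.sum_congr rfl fun i _ => by rw [map_smul, smul_eq_mul, mul_comm], this, mul_zero]

theorem exists_notMem_pair (hk : 3 ≤ k) (a b : Fin k → F) : ∃ v, v ∉ Submodule.span F ({a, b} : Set (Fin k → F)) := by
  classical
  by_contra h
  push Not at h
  have h1 : Submodule.span F ({a, b} : Set (Fin k → F)) = ⊤ := eq_top_iff.2 fun v _ => h v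
  have h2 : finrank F (Submodule.span F ({a, b} : Set (Fin k → F))) ≤ ({a, b} : Set (Fin k → F)).toFinset.card :=
    finrank_span_le_card _
  rw [h1, finrank_top, finrank_fintype_fun_eq_card, Fintype.card_fin] at h2
  have h3 : ({a, b} : Set (Fin k → F)).toFinset.card ≤ 2 := by
    classical
    rw [Set.toFinset_insert, Set.toFinset_singleton]
    exact Finset.card_le_two
  omega

theorem IsU.mulVec_ne {n : Type*} [Fintype n] [DecidableEq n] {A : Matrix n n F} (hA : IsU A) {x : n → F}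
    (hx : x ≠ 0) : A *ᵥ x ≠ 0 := fun h => hx (by
  have := congrArg (Aᴴ *ᵥ ·) h
  simpa [mulVec_mulVec, show Aᴴ * A = 1 from hA] using this)

theorem mono_mulVec (A : ι → Matrix (Fin k) (Fin k) F) (σ : Equiv.Perm ι) (u : ι → Fin k → F) :
    (krn A * pm σ) *ᵥ pv u = pv fun i => A i *ᵥ u (σ⁻¹ i) := by
  rw [← mulVec_mulVec, pm_pv, krn_pv]

theorem monoH_mulVec (A : ι → Matrix (Fin k) (Fin k) F) (σ : Equiv.Perm ι) (u : ι → Fin k → F) :
    (krn A * pm σ)ᴴ *ᵥ pv u = pv fun i => (A (σ i))ᴴ *ᵥ u (σ i) := by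
  rw [mono_conjT, mono_mulVec, inv_inv]

theorem add_conjT_of_sq {n : Type*} [Fintype n] [DecidableEq n] {z : Matrix n n F} (hz : IsU z)
    (h : (z - 1) * (z - 1) = 0) : z + zᴴ = (2 : F) • 1 := by
  have h1 : z * ((2 : F) • 1 - z) = 1 := by
    rw [Matrix.mul_sub, Matrix.mul_smul, Matrix.mul_one, two_smul]
    rw [Matrix.sub_mul, Matrix.mul_sub, Matrix.one_mul, Matrix.mul_one] at h
    rw [← sub_eq_zero, ← neg_eq_zero, ← h]
    abel
  have h2 : zᴴ = (2 : F) • 1 - z := by
    conv_lhs => rw [← Matrix.mul_one zᴴ, ← h1, ← Matrix.mul_assoc, show zᴴ * z = 1 from hz, Matrix.one_mul]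
  rw [h2]; abel

/-- Only involutions among the permutations. -/
theorem perm_invol (hk : 3 ≤ k) {A : ι → Matrix (Fin k) (Fin k) F} (hA : ∀ i, IsU (A i)) {σ : Equiv.Perm ι}
    (h : krn A * pm σ + (krn A * pm σ)ᴴ = (2 : F) • 1) :
    (∀ i, σ (σ i) = i) ∧ (σ ≠ 1 → (2 : F) = 0) := by
  haveI : Nonempty (Fin k) := ⟨⟨0, by omega⟩⟩
  set e0 : Fin k → F := fun _ => 1 with he0
  have he : e0 ≠ 0 := fun h => one_ne_zero (congrFun h (Classical.arbitrary _))
  have key : ∀ u φ : ι → Fin k → F, (∏ i, φ i ⬝ᵥ A i *ᵥ u (σ⁻¹ i)) + ∏ i, φ i ⬝ᵥ (A (σ i))ᴴ *ᵥ u (σ i) =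
      2 * ∏ i, φ i ⬝ᵥ u i := by
    intro u φ
    rw [← dot_pv, ← dot_pv, ← dot_pv, ← mono_mulVec, ← monoH_mulVec, ← dotProduct_add, ← add_mulVec, h,
      smul_mulVec, one_mulVec, dotProduct_smul, smul_eq_mul]
  have hdual : ∀ w : Fin k → F, w ≠ 0 → ∃ φ : Fin k → F, φ ⬝ᵥ w = 1 := fun w hw => by
    obtain ⟨φ, h1, -⟩ := exists_dot (x := w) (U := ⊥) (by simpa using hw)
    exact ⟨φ, h1⟩
  constructor
  · intro i
    by_contra hne
    have h1 : σ i ≠ i := fun e => hne (by rw [e, e])
    have h2 : σ (σ i) ≠ σ i := fun e => h1 (σ.injective e)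
    set j := σ i with hj
    obtain ⟨v, hv⟩ := exists_notMem_pair hk e0 ((A (σ j))ᴴ *ᵥ e0)
    have hv0 : v ≠ 0 := fun e => hv (by rw [e]; exact Submodule.zero_mem _)
    set u : ι → Fin k → F := Function.update (fun _ => e0) i ((A j)ᴴ *ᵥ v) with hu
    have hu0 : ∀ l, u l ≠ 0 := fun l => by
      rcases eq_or_ne l i with rfl | hl
      · rw [hu, Function.update_self]; exact (hA _).conjT.mulVec_ne hv0
      · rw [hu, Function.update_of_ne hl]; exact he
    choose φ hφ using fun l => hdual _ ((hA l).mulVec_ne (hu0 (σ⁻¹ l)))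
    obtain ⟨ψ, hψ1, hψ⟩ := exists_dot hv
    have hk' := key u (Function.update φ j ψ)
    rw [Finset.prod_eq_one (s := Finset.univ) (fun l _ => ?_), Finset.prod_eq_zero (Finset.mem_univ j) ?_,
      Finset.prod_eq_zero (Finset.mem_univ j) ?_] at hk'
    · simp at hk'
    · rw [Function.update_self, hu, Function.update_of_ne h1]
      exact hψ _ (Submodule.subset_span (by simp))
    · rw [Function.update_self, hu, Function.update_of_ne hne]
      exact hψ _ (Submodule.subset_span (by simp))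
    · rcases eq_or_ne l j with rfl | hl
      · rw [Function.update_self, show σ⁻¹ j = i by simp [hj], hu, Function.update_self, mulVec_mulVec,
          (hA j).inv_right, one_mulVec, hψ1]
      · rw [Function.update_of_ne hl, hφ]
  · intro hσ
    obtain ⟨i, hi⟩ : ∃ i, σ i ≠ i := by
      by_contra hh
      push Not at hh
      exact hσ (Equiv.ext hh)
    set j := σ i with hj
    obtain ⟨v, hv⟩ := exists_notMem_pair hk (A i *ᵥ e0) ((A j)ᴴ *ᵥ e0)
    have hv0 : v ≠ 0 := fun e => hv (by rw [e]; exact Submodule.zero_mem _)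
    set u : ι → Fin k → F := Function.update (fun _ => e0) i v with hu
    obtain ⟨ψ, hψ1, hψ⟩ := exists_dot hv
    obtain ⟨φ0, hφ0⟩ := hdual e0 he
    by_contra h20
    have hk' := key u (Function.update (fun _ => φ0) i ψ)
    have hii : σ⁻¹ i ≠ i := fun e => hi (show σ i = i by conv_lhs => rw [← e]; simp)
    have h3 : ∏ l, Function.update (fun _ => φ0) i ψ l ⬝ᵥ u l = 1 := Finset.prod_eq_one fun l _ => by
      rcases eq_or_ne l i with rfl | hl
      · rw [Function.update_self, hu, Function.update_self, hψ1]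
      · rw [Function.update_of_ne hl, hu, Function.update_of_ne hl, hφ0]
    rw [h3, mul_one, Finset.prod_eq_zero (Finset.mem_univ i) ?_, Finset.prod_eq_zero (Finset.mem_univ i) ?_] at hk'
    · exact h20 (by simpa using hk'.symm)
    · rw [Function.update_self, hu, Function.update_of_ne hi]
      exact hψ _ (Submodule.subset_span (by simp [hj]))
    · rw [Function.update_self, hu, Function.update_of_ne hii]
      exact hψ _ (Submodule.subset_span (by simp))

theorem perm_eq (hk : 2 ≤ k) {A : ι → Matrix (Fin k) (Fin k) F} {σ τ : Equiv.Perm ι}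
    (h : krn A * pm σ = (pm τ : Mt F ι k)) : σ = τ := by
  have e : ∀ x y : ι → Fin k, ∏ l, A l (x l) (y l) = if y ∘ σ = x ∘ τ then 1 else 0 := fun x y => by
    have h1 := congrFun (congrFun h x) (y ∘ σ)
    rw [mul_pm_apply, pm_apply, krn_apply] at h1
    simpa [Function.comp_def] using h1
  by_contra hne
  obtain ⟨i, hi⟩ : ∃ i, τ i ≠ σ i := by
    by_contra hh
    push Not at hh
    exact hne (Equiv.ext fun l => (hh l).symm)
  set l := σ i with hl
  set m := τ i with hm
  have hne' : ∀ a b : Fin k, A l a b ≠ 0 := by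
    intro a b hab
    set x : ι → Fin k := Function.update (Function.update (fun _ => a) m b) l a with hx
    have h1 := e x (fun p => x (τ (σ.symm p)))
    rw [if_pos (by funext p; simp), Finset.prod_eq_zero (Finset.mem_univ l) ?_] at h1
    · exact zero_ne_one h1
    · rw [hx, Function.update_self, show τ (σ.symm l) = m by simp [hl, hm], Function.update_of_ne hi,
        Function.update_self, hab]
  set z : Fin k := ⟨0, by omega⟩
  set w : Fin k := ⟨1, by omega⟩
  have h1 := e (fun _ => z) (fun _ => z)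
  simp only [Function.comp_def, if_true] at h1
  have h2 := e (fun _ => z) (Function.update (fun _ => z) l w)
  rw [if_neg (fun hh => by
    have := congrFun hh i
    simp [← hl, z, w, Fin.ext_iff] at this)] at h2
  obtain ⟨p, -, hp⟩ := Finset.prod_eq_zero_iff.1 h2
  rcases eq_or_ne p l with rfl | hpl
  · exact hne' _ _ hp
  · rw [Function.update_of_ne hpl] at hp
    rw [Finset.prod_eq_zero (Finset.mem_univ p) hp] at h1
    exact zero_ne_one h1

theorem rank_sub_le {n μ : Type*} [Fintype n] [DecidableEq n] [Fintype μ] [DecidableEq μ] (X : Matrix n n F)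
    (f g : μ → n) : (X.submatrix f g).rank ≤ X.rank := by
  have : X.submatrix f g = ((1 : Matrix n n F).submatrix f id) * X * ((1 : Matrix n n F).submatrix id g) := by
    ext i j
    simp [Matrix.mul_apply, Matrix.one_apply]
  rw [this]
  exact (rank_mul_le_left _ _).trans (rank_mul_le_right _ _)

theorem card_le_rank {n μ : Type*} [Fintype n] [DecidableEq n] [Fintype μ] (X : Matrix n n F) {V : Type*}
    [AddCommGroup V] [Module F V] [FiniteDimensional F V] (L : V →ₗ[F] n → F)
    (hL : ∀ v, X *ᵥ L v = 0 → v = 0) : finrank F V ≤ X.rank := by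
  have h : Function.Injective (X.mulVecLin ∘ₗ L) := (injective_iff_map_eq_zero _).2 hL
  rw [Matrix.rank]
  refine le_trans (le_of_eq (LinearMap.finrank_range_of_inj h).symm) (Submodule.finrank_mono ?_)
  exact LinearMap.range_comp_le_range _ _

section TwoFactors

variable {κ β : Type*} [Fintype κ] [DecidableEq κ] [Fintype β] [DecidableEq β]

theorem cb_mulVec (v : κ → F) (y : β → F) (p : κ × β) : (cb β v *ᵥ y) p = v p.1 * y p.2 := by
  simp [Matrix.mulVec, dotProduct, cb_apply, mul_assoc, Matrix.one_apply]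

theorem cb_mulVec_zero {v : κ → F} {y : β → F} (hy : y ≠ 0) (h : cb β v *ᵥ y = 0) : v = 0 := by
  obtain ⟨b, hb⟩ := Function.ne_iff.1 hy
  funext i
  have h1 := congrFun h (i, b)
  rw [cb_mulVec] at h1
  exact (mul_eq_zero.1 h1).resolve_right hb

theorem exists_fixed {B : Matrix β β F} {n : ℕ} (h : (B - 1) ^ n = 0) {y : β → F} (hy : y ≠ 0) :
    ∃ y' : β → F, y' ≠ 0 ∧ B *ᵥ y' = y' := by
  induction n generalizing y with
  | zero => rw [pow_zero] at h; exact absurd (by simpa using congrArg (· *ᵥ y) h) hy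
  | succ m ih =>
    by_cases h1 : (B - 1) ^ m *ᵥ y = 0
    · by_cases h2 : (B - 1) ^ m = 0
      · exact ih h2 hy
      · obtain ⟨x, hx⟩ : ∃ x, (B - 1) ^ m *ᵥ x ≠ 0 := by
          by_contra hh
          push Not at hh
          exact h2 (Matrix.ext_iff_mulVec.2 fun x => by rw [hh, zero_mulVec])
        refine ⟨_, hx, sub_eq_zero.1 ?_⟩
        rw [show B *ᵥ ((B - 1) ^ m *ᵥ x) - (B - 1) ^ m *ᵥ x = (B - 1) *ᵥ ((B - 1) ^ m *ᵥ x) by
          rw [sub_mulVec, one_mulVec], mulVec_mulVec, ← pow_succ', h, zero_mulVec]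
    · refine ⟨_, h1, sub_eq_zero.1 ?_⟩
      rw [show B *ᵥ ((B - 1) ^ m *ᵥ y) - (B - 1) ^ m *ᵥ y = (B - 1) *ᵥ ((B - 1) ^ m *ᵥ y) by
        rw [sub_mulVec, one_mulVec], mulVec_mulVec, ← pow_succ', h, zero_mulVec]

/-- A decomposable element, non-scalar in the first factor, which is unipotent of index two and small rank. -/
theorem factor_root [Nonempty β] (hκ : 3 ≤ Fintype.card κ) {A : Matrix κ κ F} {B : Matrix β β F} (hA : IsU A)
    (hB : IsU B) (hns : ∀ r : F, A ≠ r • 1) (hsq : (A ⊗ₖ B - 1) * (A ⊗ₖ B - 1) = 0)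
    (hrk : (A ⊗ₖ B - 1).rank ≤ Fintype.card β) : ∃ c l, IsRt c l ∧ A ⊗ₖ B = rt c l ⊗ₖ (1 : Matrix β β F) := by
  obtain ⟨p, hp⟩ := CharP.exists F
  haveI := hp
  haveI hpp : Fact p.Prime := ⟨(CharP.char_is_prime_or_zero F p).resolve_right (CharP.char_ne_zero_of_finite F p)⟩
  haveI : Nonempty κ := Fintype.card_pos_iff.1 (by omega)
  have hz : (A ⊗ₖ B) ^ p = 1 := by
    rw [← sub_eq_zero]
    calc (A ⊗ₖ B) ^ p - 1 = (A ⊗ₖ B - 1) ^ p := by rw [sub_pow_char_of_commute p (Commute.one_right _), one_pow]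
      _ = 0 := pow_eq_zero_of_le hpp.out.two_le (by rw [pow_two]; exact hsq)
  have hpow : ∀ (A : Matrix κ κ F) (B : Matrix β β F) (n : ℕ), (A ⊗ₖ B) ^ n = (A ^ n) ⊗ₖ (B ^ n) := fun A B n => by
    induction n with
    | zero => simp
    | succ m ih => rw [pow_succ, pow_succ, pow_succ, ih, mul_kronecker_mul]
  rw [hpow] at hz
  obtain ⟨b0⟩ := ‹Nonempty β›
  set m := (B ^ p) b0 b0
  have hAp : m • A ^ p = 1 := by
    ext i j
    have h1 := congrFun (congrFun hz (i, b0)) (j, b0)
    rw [kroneckerMap_apply, ← one_kronecker_one, kroneckerMap_apply] at h1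
    rw [Matrix.smul_apply, smul_eq_mul, mul_comm]
    simpa using h1
  have hm0 : m ≠ 0 := fun h => by
    rw [h, zero_smul] at hAp
    exact zero_ne_one hAp
  obtain ⟨r, hr⟩ := (Finite.injective_iff_surjective.1 (frobenius F p).injective) m
  rw [frobenius_def] at hr
  have hr0 : r ≠ 0 := fun h => hm0 (by rw [← hr, h, zero_pow hpp.out.ne_zero])
  have hAU : IsU (A ^ p) := by
    clear hz hAp
    induction p with
    | zero => simpa using isU_one
    | succ q ih => rw [pow_succ]; exact (show IsU (A ^ q) from Nat.rec (by simpa using isU_one) (fun q h => by rw [pow_succ]; exact h.mul hA) q).mul hA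
  have hrr : star r * r = 1 := by
    have h1 : (m • A ^ p)ᴴ * (m • A ^ p) = 1 := by rw [hAp, conjTranspose_one, Matrix.one_mul]
    rw [conjTranspose_smul, smul_mul_smul_comm, show (A ^ p)ᴴ * A ^ p = 1 from hAU] at h1
    obtain ⟨i⟩ := ‹Nonempty κ›
    have h2 : star m * m = 1 := by simpa using congrFun (congrFun h1 i) i
    apply (frobenius F p).injective
    rw [frobenius_def, frobenius_def, mul_pow, ← star_pow, hr, h2, one_pow]
  obtain ⟨A', hA'⟩ : ∃ A', A' = r • A := ⟨_, rfl⟩
  obtain ⟨B', hB'⟩ : ∃ B', B' = r⁻¹ • B := ⟨_, rfl⟩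
  have hA'U : IsU A' := hA' ▸ hA.smul hrr
  have hz' : A ⊗ₖ B = A' ⊗ₖ B' := by
    rw [hA', hB', smul_kronecker, kronecker_smul, smul_smul, mul_inv_cancel₀ hr0, one_smul]
  have hAp' : A' ^ p = 1 := by rw [hA', smul_pow, hr, hAp]
  have hBp' : B' ^ p = 1 := by
    refine kr_right_inj (κ := κ) ?_
    rw [← hAp', ← hpow, ← hz', hpow, hz, hAp', one_kronecker_one]
  have hns' : ∀ s : F, A' ≠ s • 1 := fun s h => hns (r⁻¹ * s) (by
    rw [← smul_smul, ← h, hA', smul_smul, inv_mul_cancel₀ hr0, one_smul])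
  rw [hz'] at hsq hrk ⊢
  set Q := A' - 1 with hQ
  have hAx : ∀ x, A' *ᵥ x = x + Q *ᵥ x := fun x => by rw [hQ, sub_mulVec, one_mulVec]; abel
  have hzc : ∀ (x : κ → F) (y : β → F), (A' ⊗ₖ B' - 1) *ᵥ (cb β x *ᵥ y) =
      cb β (A' *ᵥ x) *ᵥ (B' *ᵥ y) - cb β x *ᵥ y := fun x y => by
    rw [sub_mulVec, one_mulVec, mulVec_mulVec, kr_cb, ← mulVec_mulVec]
  have hBn : (B' - 1) ^ p = 0 := by
    rw [sub_pow_char_of_commute p (Commute.one_right _), one_pow, hBp', sub_self]
  obtain ⟨y1, hy1, hy1'⟩ := exists_fixed hBn (y := fun _ => 1) (fun h => one_ne_zero (congrFun h b0))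
  have hQ2 : ∀ x, Q *ᵥ (Q *ᵥ x) = 0 := by
    intro x
    refine cb_mulVec_zero hy1 ?_
    have h1 : ∀ x, (A' ⊗ₖ B' - 1) *ᵥ (cb β x *ᵥ y1) = cb β (Q *ᵥ x) *ᵥ y1 := fun x => by
      rw [hzc, hy1', ← sub_mulVec, ← cb_sub, hAx, add_sub_cancel_left]
    rw [← h1, ← h1, mulVec_mulVec, hsq, zero_mulVec]
  obtain ⟨u, hu⟩ : ∃ u, Q *ᵥ u ≠ 0 := by
    by_contra hh
    push Not at hh
    refine hns' 1 ?_
    rw [one_smul, ← sub_eq_zero, ← hQ]
    exact Matrix.ext_iff_mulVec.2 fun x => by rw [hh, zero_mulVec]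
  set c := Q *ᵥ u with hc
  have hAu : A' *ᵥ u = u + c := hAx u
  -- the second factor is trivial
  have hB1 : B' = 1 := by
    by_contra hB1
    obtain ⟨y0, hy0⟩ : ∃ y0, B' *ᵥ y0 ≠ y0 := by
      by_contra hh
      push Not at hh
      exact hB1 (Matrix.ext_iff_mulVec.2 fun x => by rw [hh, one_mulVec])
    obtain ⟨w, hQw, hw⟩ : ∃ w, Q *ᵥ w = 0 ∧ w ∉ Submodule.span F ({c} : Set (κ → F)) := by
      have h1 := LinearMap.finrank_range_add_finrank_ker Q.mulVecLin
      have h2 : LinearMap.range Q.mulVecLin ≤ LinearMap.ker Q.mulVecLin := by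
        rintro _ ⟨x, rfl⟩; exact hQ2 x
      have h3 := Submodule.finrank_mono h2
      rw [finrank_fintype_fun_eq_card] at h1
      by_contra hh
      push Not at hh
      have h4 : LinearMap.ker Q.mulVecLin ≤ Submodule.span F {c} := fun w hw => hh w hw
      have h5 := (Submodule.finrank_mono h4).trans (finrank_span_singleton hu).le
      omega
    have hw' : w ∉ Submodule.span F ({u, c} : Set (κ → F)) := fun hm => by
      obtain ⟨a, b, hab⟩ := Submodule.mem_span_pair.1 hm
      have h1 : Q *ᵥ w = a • c := by rw [← hab, mulVec_add, mulVec_smul, mulVec_smul, ← hc, hQ2, smul_zero, add_zero]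
      rw [hQw] at h1
      rw [(smul_eq_zero.1 h1.symm).resolve_right hu, zero_smul, zero_add] at hab
      exact hw (Submodule.mem_span_singleton.2 ⟨b, hab⟩)
    obtain ⟨ψ, hψw, hψ⟩ := exists_dot hw'
    obtain ⟨φ, hφc, hφ⟩ := exists_dot (x := c) (U := Submodule.span F {u}) (fun hm => by
      obtain ⟨a, ha⟩ := Submodule.mem_span_singleton.1 hm
      have h1 := congrArg (Q *ᵥ ·) ha
      simp only [mulVec_smul, ← hc] at h1
      rw [hQ2 u] at h1
      rw [(smul_eq_zero.1 h1).resolve_right hu, zero_smul] at ha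
      exact hu ha.symm)
    let L : ((β → F) × F) →ₗ[F] κ × β → F :=
      (cb β u).mulVecLin ∘ₗ LinearMap.fst F (β → F) F +
        (LinearMap.snd F (β → F) F).smulRight (cb β w *ᵥ y0)
    have h := card_le_rank (A' ⊗ₖ B' - 1) (μ := β) L ?_
    · rw [finrank_prod, finrank_self, finrank_fintype_fun_eq_card] at h
      omega
    rintro ⟨y, s⟩ hys
    change (A' ⊗ₖ B' - 1) *ᵥ (cb β u *ᵥ y + s • (cb β w *ᵥ y0)) = 0 at hys
    rw [mulVec_add, mulVec_smul, hzc, hzc, hAu, show A' *ᵥ w = w by rw [hAx, hQw, add_zero]] at hys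
    have hap : ∀ (χ : κ → F) (b : β), (χ ⬝ᵥ (u + c)) * (B' *ᵥ y) b - (χ ⬝ᵥ u) * y b +
        s * ((χ ⬝ᵥ w) * (B' *ᵥ y0) b - (χ ⬝ᵥ w) * y0 b) = 0 := by
      intro χ b
      have h1 := congrArg (fun v : κ × β → F => ∑ i, χ i * v (i, b)) hys
      simp only [Pi.add_apply, Pi.sub_apply, Pi.smul_apply, Pi.zero_apply, cb_mulVec, smul_eq_mul, mul_zero,
        Finset.sum_const_zero] at h1
      rw [← h1]
      simp only [dotProduct, Pi.add_apply, Finset.sum_mul, ← Finset.sum_sub_distrib, Finset.mul_sum,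
        ← Finset.sum_add_distrib]
      exact Finset.sum_congr rfl fun i _ => by ring
    have hs : s = 0 := by
      obtain ⟨b, hb⟩ := Function.ne_iff.1 hy0
      have h1 := hap ψ b
      rw [hψ u (Submodule.subset_span (by simp)), hψw, dotProduct_add, hψ u (Submodule.subset_span (by simp)),
        hψ c (Submodule.subset_span (by simp))] at h1
      exact (mul_eq_zero.1 (show s * ((B' *ᵥ y0) b - y0 b) = 0 by linear_combination h1)).resolve_right
        (sub_ne_zero.2 hb)
    have hBy : B' *ᵥ y = 0 := funext fun b => by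
      have h1 := hap φ b
      rw [dotProduct_add, hφc, hφ u (Submodule.mem_span_singleton_self u), hs] at h1
      simpa using h1
    have hy : y = 0 := by
      have h1 := congrArg (B' ^ (p - 1) *ᵥ ·) hBy
      simp only [mulVec_mulVec, mulVec_zero] at h1
      rwa [← pow_succ, show p - 1 + 1 = p from Nat.succ_pred_eq_of_pos hpp.out.pos, hBp', one_mulVec] at h1
    rw [hy, hs]; rfl
  rw [hB1] at hzc hrk hsq ⊢
  have hline : ∀ x, ∃ a : F, Q *ᵥ x = a • c := by
    intro x
    by_contra hh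
    push Not at hh
    have hli : LinearIndependent F ![c, Q *ᵥ x] := (LinearIndependent.pair_iff' hu).2 fun a e => hh a e.symm
    let L : ((β → F) × (β → F)) →ₗ[F] κ × β → F :=
      (cb β u).mulVecLin.coprod (cb β x).mulVecLin
    have h := card_le_rank (A' ⊗ₖ (1 : Matrix β β F) - 1) (μ := β) L ?_
    · rw [finrank_prod, finrank_fintype_fun_eq_card] at h
      have : 0 < Fintype.card β := Fintype.card_pos
      omega
    rintro ⟨y, y'⟩ hyy
    change (A' ⊗ₖ (1 : Matrix β β F) - 1) *ᵥ (cb β u *ᵥ y + cb β x *ᵥ y') = 0 at hyy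
    rw [mulVec_add, hzc, hzc, one_mulVec, one_mulVec, ← sub_mulVec, ← sub_mulVec, ← cb_sub, ← cb_sub, hAx, hAx,
      add_sub_cancel_left, add_sub_cancel_left, ← hc] at hyy
    have h1 : ∀ b, y b = 0 ∧ y' b = 0 := fun b => LinearIndependent.pair_iff.1 hli _ _ (funext fun i => by
      have h2 := congrFun hyy (i, b)
      rw [Pi.add_apply, cb_mulVec, cb_mulVec, Pi.zero_apply] at h2
      simp only [Pi.add_apply, Pi.smul_apply, smul_eq_mul, Pi.zero_apply]
      linear_combination h2)
    exact Prod.ext (funext fun b => (h1 b).1) (funext fun b => (h1 b).2)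
  have hQH : Qᴴ = -Q := by
    have hQQ : (A' - 1) * (A' - 1) = 0 :=
      Matrix.ext_iff_mulVec.2 fun x => by rw [← hQ, ← mulVec_mulVec, hQ2, zero_mulVec]
    have h1 := add_conjT_of_sq hA'U hQQ
    rw [hQ, conjTranspose_sub, conjTranspose_one, neg_sub, sub_eq_sub_iff_add_eq_add, add_comm, h1, two_smul]
  have hskew : ∀ x y, ip (Q *ᵥ x) y = -ip x (Q *ᵥ y) := fun x y => by
    rw [ip_adj, hQH, neg_mulVec, ip_neg_right]
  obtain ⟨e, he⟩ := (hU F κ).exists_one hu
  rw [hU_B] at he
  obtain ⟨a, ha⟩ := hline e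
  set l := -star a with hl
  have hQx : ∀ x, Q *ᵥ x = (l * ip x c) • c := fun x => by
    obtain ⟨b, hb⟩ := hline x
    have h1 := hskew x e
    rw [hb, ha, ip_smul_left, ip_smul_right, he, mul_one] at h1
    rw [hb, hl, h1, neg_mul]
  have hec := ip_symm1 he
  refine ⟨c, l, ⟨hu, ?_, ?_, ?_⟩, ?_⟩
  · have h1 := hskew u c
    rw [← hc, show Q *ᵥ c = 0 from hQ2 u, ip_zero_right, neg_zero] at h1
    exact h1
  · intro h0
    rw [h0] at hQx
    exact hu (by rw [hc, hQx, zero_mul, zero_smul])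
  · have h1 : a • c = (l * ip e c) • c := by rw [← ha, hQx]
    rw [hec, mul_one] at h1
    have h2 : a = l := by
      have h3 := congrArg (ip · e) h1
      simpa [ip_smul_left, he] using h3
    rw [hl, star_neg, star_star, neg_neg]
    rw [hl] at h2
    linear_combination -h2
  · congr 1
    refine Matrix.ext_iff_mulVec.2 fun x => ?_
    rw [rt_mulVec, ← hQx, hAx]

end TwoFactors

theorem krn_eq_smul_one {A : ι → Matrix (Fin k) (Fin k) F} {s : ι → F} (h : ∀ i, A i = s i • 1) :
    krn A = (∏ i, s i) • 1 := by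
  rw [← krn_one]
  ext x y
  simp [krn_apply, h, Finset.prod_mul_distrib]

theorem card_rest (a b : ι) :
    Fintype.card ({l // l ≠ a} → Fin k) = Fintype.card ({l // l ≠ b} → Fin k) := by
  rw [Fintype.card_fun, Fintype.card_fun, Fintype.card_subtype_compl, Fintype.card_subtype_compl]
  simp

theorem smul_of_eigen {n : Type*} [Fintype n] [DecidableEq n] {X : Matrix n n F}
    (h : ∀ x, ∃ s : F, X *ᵥ x = s • x) : ∃ s : F, X = s • 1 := by
  obtain ⟨s, hs⟩ := (hU F n).scalar_of_eigen (A := X.mulVecLin) h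
  exact ⟨s, Matrix.ext_iff_mulVec.2 fun x => by
    rw [smul_mulVec, one_mulVec]; exact LinearMap.congr_fun hs x⟩

/-- Monomial elements unipotent of index two and of small rank. -/
theorem classify (hk : 3 ≤ k) {A : ι → Matrix (Fin k) (Fin k) F} (hA : ∀ i, IsU (A i)) {σ : Equiv.Perm ι}
    (hsq : (krn A * pm σ - 1) * (krn A * pm σ - 1) = 0) (hne : krn A * pm σ ≠ 1) (a : ι)
    (hrk : (krn A * pm σ - 1).rank ≤ Fintype.card ({l // l ≠ a} → Fin k)) :
    (∃ i c l, IsRt c l ∧ krn A * pm σ = sl i (rt c l)) ∨ ((2 : F) = 0 ∧ k = 3 ∧ ∃ i j, i ≠ j ∧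
      σ = Equiv.swap i j ∧ ∃ X, IsU X ∧ krn A * pm σ = sl i X * pm (Equiv.swap i j) * (sl i X)ᴴ) := by
  haveI : Nonempty (Fin k) := ⟨⟨0, by omega⟩⟩
  have hzU : IsU (krn A * pm σ) := (IsU.krn hA).mul (isU_pm σ)
  have hadd := add_conjT_of_sq hzU hsq
  obtain ⟨hinv, htwo⟩ := perm_invol hk hA hadd
  by_cases hσ : σ = 1
  · left
    subst hσ
    rw [pm_one, Matrix.mul_one] at hsq hne hrk ⊢
    obtain ⟨i, hi⟩ : ∃ i, ∀ r : F, A i ≠ r • 1 := by
      by_contra hh
      push Not at hh
      choose s hs using hh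
      rw [krn_eq_smul_one hs] at hsq hne
      refine hne ?_
      have h1 : (((∏ i, s i) - 1) * ((∏ i, s i) - 1)) • (1 : Mt F ι k) = 0 := by
        rw [← hsq, ← Matrix.one_mul (1 : Mt F ι k), ← smul_mul_smul_comm, sub_smul, one_smul, Matrix.one_mul]
      rw [sub_eq_zero.1 (mul_self_eq_zero.1 ((smul_eq_zero.1 h1).resolve_right one_ne_zero)), one_smul]
    have hi' := hA i
    set B := krn fun l : {l // l ≠ i} => A l
    obtain ⟨c, l, hcl, he⟩ := factor_root (β := {l // l ≠ i} → Fin k) (by simpa using hk) hi' (IsU.krn fun l => hA _) hi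
      (by rw [← rs_krn, ← map_one (rs i), ← map_sub, ← map_mul, hsq, map_zero])
      (by
        rw [← rs_krn, ← map_one (rs i), ← map_sub, rs_apply, rank_submatrix, card_rest i a]
        exact hrk)
    exact ⟨i, c, l, hcl, (rs i).injective (by rw [rs_krn, he, rs_sl_self])⟩
  right
  have h20 := htwo hσ
  obtain ⟨i, hi⟩ : ∃ i, σ i ≠ i := by
    by_contra hh
    push Not at hh
    exact hσ (Equiv.ext hh)
  set j := σ i with hj
  have hji : σ j = i := hinv i
  have hinv' : σ⁻¹ = σ := Equiv.ext fun l => by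
    rw [Equiv.Perm.inv_eq_iff_eq, hinv]
  -- the square is the identity
  have hzz : (krn A * pm σ) * (krn A * pm σ) = 1 := by
    have h1 : (krn A * pm σ)ᴴ = krn A * pm σ := by
      rw [h20, zero_smul] at hadd
      rw [eq_neg_of_add_eq_zero_right hadd, neg_eq_iff_add_eq_zero, ← two_smul F, h20, zero_smul]
    conv_lhs => arg 1; rw [← h1]
    exact hzU
  obtain ⟨ν, hν⟩ : ∃ ν : F, A i * A j = ν • 1 := by
    refine smul_of_eigen fun x => ?_
    rcases eq_or_ne x 0 with rfl | hx
    · exact ⟨0, by simp⟩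
    by_contra hh
    push Not at hh
    obtain ⟨ψ, hψ1, hψ⟩ := exists_dot (x := (A i * A j) *ᵥ x) (U := Submodule.span F {x}) (fun hm => by
      obtain ⟨s, hs⟩ := Submodule.mem_span_singleton.1 hm
      exact hh s hs.symm)
    set e0 : Fin k → F := fun _ => 1
    have he : e0 ≠ 0 := fun h => one_ne_zero (congrFun h (Classical.arbitrary _))
    set u : ι → Fin k → F := Function.update (fun _ => e0) i x with hu
    have hu0 : ∀ l, u l ≠ 0 := fun l => by
      rcases eq_or_ne l i with rfl | hl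
      · rw [hu, Function.update_self]; exact hx
      · rw [hu, Function.update_of_ne hl]; exact he
    choose φ hφ using fun l => exists_dot (x := (A l * A (σ⁻¹ l)) *ᵥ u l) (U := ⊥)
      (by simpa using ((hA _).mul (hA _)).mulVec_ne (hu0 l))
    have h1 := congrArg (fun Z : Mt F ι k => pv (Function.update φ i ψ) ⬝ᵥ Z *ᵥ pv u) hzz
    simp only [one_mulVec, ← mulVec_mulVec, pm_pv, krn_pv, dot_pv] at h1
    rw [Finset.prod_eq_one fun l _ => ?_, Finset.prod_eq_zero (Finset.mem_univ i) ?_] at h1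
    · exact one_ne_zero h1
    · rw [Function.update_self, hu, Function.update_self]
      exact hψ x (Submodule.mem_span_singleton_self x)
    · rw [show σ⁻¹ (σ⁻¹ l) = l by simp [hinv', hinv], mulVec_mulVec]
      rcases eq_or_ne l i with hl | hl
      · rw [hl, Function.update_self, show u i = x by simp [hu], show σ⁻¹ i = j by rw [hinv', hj], hψ1]
      · rw [Function.update_of_ne hl]; exact (hφ l).1
  set g : Mt F ι k := sl j (A j)ᴴ with hg
  set A' : ι → Matrix (Fin k) (Fin k) F := fun l => if l = j then 1 else if l = i then ν • 1 else A l with hA'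
  have hgz : g * (krn A * pm σ) * gᴴ = krn A' * pm σ := by
    rw [hg, sl_conjT, conjTranspose_conjTranspose, Matrix.mul_assoc, Matrix.mul_assoc (krn A), pm_sl, hji, sl, sl,
      ← Matrix.mul_assoc (krn A), krn_mul, ← Matrix.mul_assoc, krn_mul]
    congr 2
    funext l
    rcases eq_or_ne l j with rfl | hlj
    · simp [hA', Function.update_of_ne hi, show (A j)ᴴ * A j = 1 from hA j]
    rcases eq_or_ne l i with rfl | hli
    · simp [hA', hν, hlj, Function.update_of_ne hlj]
    · simp [hA', hlj, hli, Function.update_of_ne hlj, Function.update_of_ne hli]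
  have hrk' : (krn A' * pm σ - 1).rank ≤ Fintype.card ({l // l ≠ i} → Fin k) := by
    rw [← hgz, card_rest i a]
    have hgU : IsU g := sl_isU j (hA j).conjT
    rw [show g * (krn A * pm σ) * gᴴ - 1 = g * (krn A * pm σ - 1) * gᴴ by
      rw [Matrix.mul_sub, Matrix.sub_mul, Matrix.mul_one, hgU.inv_right]]
    exact ((rank_mul_le_left _ _).trans (rank_mul_le_right _ _)).trans hrk
  -- coordinates
  let W := {l // l ≠ i ∧ l ≠ j} → Fin k
  let bld : Fin k × Fin k → W → ι → Fin k := fun q w l =>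
    if hli : l = i then q.1 else if hlj : l = j then q.2 else w ⟨l, hli, hlj⟩
  have bld_i : ∀ q w, bld q w i = q.1 := fun q w => dif_pos rfl
  have bld_j : ∀ q w, bld q w j = q.2 := fun q w => by simp [bld, hi]
  have hbld : ∀ q q' w w', bld q w = bld q' w' → q = q' ∧ w = w' := fun q q' w w' e => by
    refine ⟨Prod.ext ?_ ?_, funext fun ⟨l, hli, hlj⟩ => ?_⟩
    · simpa [bld_i] using congrFun e i
    · simpa [bld_j] using congrFun e j
    · simpa [bld, hli, hlj] using congrFun e l
  have hrest : Fintype.card ({l // l ≠ i} → Fin k) = k * Fintype.card W := by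
    have e1 : Fintype.card {l // l ≠ i} = Fintype.card {l // l ≠ i ∧ l ≠ j} + 1 := by
      rw [Fintype.card_subtype, Fintype.card_subtype,
        show (Finset.univ.filter fun l => l ≠ i ∧ l ≠ j) = (Finset.univ.filter fun l => l ≠ i).erase j by
          ext l; simp [and_comm], Finset.card_erase_of_mem (by simp [hi])]
      have : 0 < (Finset.univ.filter fun l => l ≠ i).card := Finset.card_pos.2 ⟨j, by simp [hi]⟩
      omega
    rw [Fintype.card_fun, Fintype.card_fun, Fintype.card_fin, e1, pow_succ, mul_comm]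
  have hent : ∀ x y : ι → Fin k, (krn A' * pm σ : Mt F ι k) x y =
      if x j = y i ∧ x i = y j then ν * ∏ l ∈ (Finset.univ.erase j).erase i, A l (x l) (y (σ l)) else 0 := by
    intro x y
    rw [mul_pm_apply, krn_apply, ← Finset.mul_prod_erase _ _ (Finset.mem_univ j),
      ← Finset.mul_prod_erase _ _ (Finset.mem_erase.2 ⟨Ne.symm hi, Finset.mem_univ i⟩),
      show (y ∘ σ.symm) = y ∘ σ from by rw [← Equiv.Perm.inv_def, hinv']]
    simp only [Function.comp_apply, hji, ← hj, hA', if_true, if_neg (Ne.symm hi)]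
    rw [Finset.prod_congr rfl (fun l hl => by
      obtain ⟨hli, hl'⟩ := Finset.mem_erase.1 hl
      rw [if_neg (Finset.ne_of_mem_erase hl'), if_neg hli])]
    by_cases h1 : x j = y i <;> by_cases h2 : x i = y j <;> simp [h1, h2, Matrix.one_apply]
  have hS : ∀ (q q' : {q : Fin k × Fin k // q.1 < q.2}) (w w' : W),
      (krn A' * pm σ - 1 : Mt F ι k) (bld q.1 w) (bld q'.1 w') = if (q, w) = (q', w') then -1 else 0 := by
    intro q q' w w'
    rw [Matrix.sub_apply, hent, bld_i, bld_i, bld_j, bld_j,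
      if_neg (fun hh => absurd q.2 (by rw [hh.2, hh.1]; exact lt_asymm q'.2)), Matrix.one_apply, zero_sub,
      apply_ite Neg.neg, neg_zero]
    refine if_congr ⟨fun e => ?_, fun e => ?_⟩ rfl rfl
    · obtain ⟨h1, h2⟩ := hbld _ _ _ _ e; exact Prod.ext (Subtype.ext h1) h2
    · obtain ⟨rfl, rfl⟩ : q = q' ∧ w = w' := Prod.ext_iff.1 e
      rfl
  have hPcard : Fintype.card {q : Fin k × Fin k // q.1 < q.2} * Fintype.card W ≤ k * Fintype.card W := by
    rw [← hrest, ← Fintype.card_prod]
    refine le_trans (le_of_eq ?_) ((rank_sub_le _ (fun p : {q : Fin k × Fin k // q.1 < q.2} × W => bld p.1.1 p.2) (fun p : {q : Fin k × Fin k // q.1 < q.2} × W => bld p.1.1 p.2)).trans hrk')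
    rw [show (krn A' * pm σ - 1 : Mt F ι k).submatrix (fun p : {q : Fin k × Fin k // q.1 < q.2} × W => bld p.1.1 p.2) (fun p : {q : Fin k × Fin k // q.1 < q.2} × W => bld p.1.1 p.2) =
      -(1 : Matrix ({q : Fin k × Fin k // q.1 < q.2} × W) _ F) from Matrix.ext fun p p' => by
        rw [submatrix_apply, hS, Matrix.neg_apply, Matrix.one_apply, apply_ite Neg.neg, neg_zero],
      rank_of_isUnit _ (isUnit_one (M := Matrix ({q : Fin k × Fin k // q.1 < q.2} × W) ({q : Fin k × Fin k // q.1 < q.2} × W) F)).neg]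
  have hW : 0 < Fintype.card W := Fintype.card_pos
  have hk3 : k = 3 := by
    by_contra hk4
    have h4 : 4 ≤ k := by omega
    let f : Fin (k + 1) → {q : Fin k × Fin k // q.1 < q.2} := fun n =>
      if h : (n : ℕ) < k - 1 then ⟨(⟨0, by omega⟩, ⟨n + 1, by omega⟩), Nat.succ_pos _⟩
      else ⟨(⟨1, by omega⟩, ⟨n - (k - 3), by omega⟩), by
        show 1 < (n : ℕ) - (k - 3); omega⟩
    have hf : Function.Injective f := by
      intro n m e
      have hn := n.2
      have hm := m.2
      simp only [f] at e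
      split_ifs at e with h1 h2 h2 <;> simp [Subtype.ext_iff, Prod.ext_iff, Fin.ext_iff] at e <;>
        (apply Fin.ext; omega)
    have h5 := Fintype.card_le_of_injective f hf
    rw [Fintype.card_fin] at h5
    have h6 := Nat.le_of_mul_le_mul_right hPcard hW
    omega
  subst hk3
  have hdiag : ∀ (w w' : W), ν * ∏ l ∈ (Finset.univ.erase j).erase i,
      A l (bld (0, 0) w l) (bld (0, 0) w' (σ l)) = if w = w' then 1 else 0 := by
    intro w w'
    by_contra hne'
    have hx : (krn A' * pm σ - 1 : Mt F ι 3) (bld (0, 0) w) (bld (0, 0) w') ≠ 0 := by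
      rw [Matrix.sub_apply, hent, bld_i, bld_i, bld_j, bld_j, if_pos ⟨rfl, rfl⟩, sub_ne_zero, Matrix.one_apply]
      refine fun e => hne' (e.trans (if_congr ⟨fun e => (hbld _ _ _ _ e).2, fun e => by rw [e]⟩ rfl rfl))
    let rowf : ({q : Fin 3 × Fin 3 // q.1 < q.2} × W) ⊕ Unit → ι → Fin 3 :=
      Sum.elim (fun p => bld p.1.1 p.2) fun _ => (bld (0, 0) w)
    let colf : ({q : Fin 3 × Fin 3 // q.1 < q.2} × W) ⊕ Unit → ι → Fin 3 :=
      Sum.elim (fun p => bld p.1.1 p.2) fun _ => (bld (0, 0) w')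
    have hz0 : ∀ (q : {q : Fin 3 × Fin 3 // q.1 < q.2}) (w1 w2 : W),
        (krn A' * pm σ - 1 : Mt F ι 3) (bld q.1 w1) (bld (0, 0) w2) = 0 ∧ (krn A' * pm σ - 1 : Mt F ι 3) (bld (0, 0) w2) (bld q.1 w1) = 0 := by
      intro q w1 w2
      have hq := ne_of_lt q.2
      constructor <;>
      · rw [Matrix.sub_apply, hent, bld_i, bld_i, bld_j, bld_j, if_neg (fun hh => hq (by
          rcases hh with ⟨h1, h2⟩
          first | exact h2.trans h1.symm | exact h1.symm.trans h2)),
          Matrix.one_apply_ne (fun e => hq (by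
            have h1 := (hbld _ _ _ _ e).1
            first | rw [h1] | rw [← h1])), sub_zero]
    have hblk : (krn A' * pm σ - 1 : Mt F ι 3).submatrix rowf colf =
        fromBlocks (-1) 0 0 (Matrix.of fun _ _ => (krn A' * pm σ - 1 : Mt F ι 3) (bld (0, 0) w) (bld (0, 0) w')) := Matrix.ext fun p p' => by
      rcases p with p | p <;> rcases p' with p' | p' <;>
        simp only [submatrix_apply, rowf, colf, Sum.elim_inl, Sum.elim_inr, fromBlocks_apply₁₁, fromBlocks_apply₁₂,
          fromBlocks_apply₂₁, fromBlocks_apply₂₂]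
      · rw [hS, Matrix.neg_apply, Matrix.one_apply, apply_ite Neg.neg, neg_zero]
      · exact (hz0 _ _ _).1
      · exact (hz0 _ _ _).2
      · rfl
    have hunit : IsUnit ((krn A' * pm σ - 1 : Mt F ι 3).submatrix rowf colf) := by
      rw [hblk, isUnit_iff_isUnit_det, det_fromBlocks_zero₁₂, det_neg, det_one, det_unique, isUnit_iff_ne_zero]
      exact mul_ne_zero (by simp) hx
    have h1 := (rank_sub_le (krn A' * pm σ - 1 : Mt F ι 3) rowf colf).trans hrk'
    rw [rank_of_isUnit _ hunit, hrest, Fintype.card_sum, Fintype.card_prod, Fintype.card_unit,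
      show Fintype.card {q : Fin 3 × Fin 3 // q.1 < q.2} = 3 by decide] at h1
    omega
  have hfin : krn A' * pm σ = pm (Equiv.swap i j) := by
    ext x y
    rw [hent, pm_apply]
    set w : W := fun l => x l.1
    set w' : W := fun l => y l.1
    have hσl : ∀ l, l ≠ i → l ≠ j → σ l ≠ i ∧ σ l ≠ j := fun l h1 h2 =>
      ⟨fun e => h2 (σ.injective (e.trans hji.symm)), fun e => h1 (σ.injective e)⟩
    have h1 : ν * ∏ l ∈ (Finset.univ.erase j).erase i, A l (x l) (y (σ l)) = if w = w' then 1 else 0 := by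
      rw [← hdiag]
      congr 1
      refine Finset.prod_congr rfl fun l hl => ?_
      obtain ⟨hli, hl'⟩ := Finset.mem_erase.1 hl
      have hlj := Finset.ne_of_mem_erase hl'
      simp [bld, hli, hlj, (hσl l hli hlj).1, (hσl l hli hlj).2, w, w']
    rw [h1]
    by_cases hc : y = x ∘ Equiv.swap i j
    · rw [if_pos hc, if_pos ⟨by rw [hc]; simp, by rw [hc]; simp⟩, if_pos]
      funext l
      simp [w, w', hc, Equiv.swap_apply_of_ne_of_ne l.2.1 l.2.2]
    · rw [if_neg hc]
      refine ite_eq_right_iff.2 fun ⟨ha, hb⟩ => if_neg fun hw => hc (funext fun l => ?_)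
      rw [Function.comp_apply]
      rcases eq_or_ne l i with rfl | hli
      · rw [Equiv.swap_apply_left, ha]
      rcases eq_or_ne l j with rfl | hlj
      · rw [Equiv.swap_apply_right, hb]
      · rw [Equiv.swap_apply_of_ne_of_ne hli hlj]
        exact (congrFun hw ⟨l, hli, hlj⟩).symm
  have hσsw : σ = Equiv.swap i j := perm_eq (by omega) hfin
  refine ⟨h20, rfl, j, i, hi, hσsw.trans (Equiv.swap_comm i j), A j, hA j, ?_⟩
  have hgU : IsU g := sl_isU j (hA j).conjT
  have h1 : krn A * pm σ = gᴴ * (g * (krn A * pm σ) * gᴴ) * g := by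
    simp only [Matrix.mul_assoc, show gᴴ * g = 1 from hgU, Matrix.mul_one]
    rw [← Matrix.mul_assoc, show gᴴ * g = 1 from hgU, Matrix.one_mul]
  rw [h1, hgz, hfin, Equiv.swap_comm i j, hg, sl_conjT, conjTranspose_conjTranspose, sl_conjT]

end Cfsg.Agent.H30.UWreath
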