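import Cfsg.Agent.H30.UWreath.Link

/-!
A non-scalar translation at singular vectors of some slots gives a non-zero one at singular vectors of more
slots.
-/

set_option autoImplicit false
set_option maxHeartbeats 1000000
set_option linter.unusedSectionVars false
set_option linter.style.haveILetI false

universe u

namespace Cfsg.Agent.H30.UWreath

open Matrix Module Cfsg.Agent.H98.TensorUnit
open scoped Kronecker

variable {F : Type*} [Field F] [StarRing F] [UField F] [Finite F] {k : ℕ} {ι : Type u} [Fintype ι] [DecidableEq ι]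

theorem krn_eq_zero {A : ι → Matrix (Fin k) (Fin k) F} (a : ι) (h : A a = 0) : krn A = 0 := by
  ext x y
  rw [krn_apply, Matrix.zero_apply]
  exact Finset.prod_eq_zero (Finset.mem_univ a) (by rw [h, Matrix.zero_apply])

theorem krn_update_smul (A : ι → Matrix (Fin k) (Fin k) F) (a : ι) (r : F) :
    krn (Function.update A a (r • A a)) = r • krn A := by
  ext x y
  simp only [krn_apply, Matrix.smul_apply, smul_eq_mul]
  rw [← Finset.mul_prod_erase _ _ (Finset.mem_univ a), ← Finset.mul_prod_erase _ _ (Finset.mem_univ a),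
    Function.update_self, Matrix.smul_apply, smul_eq_mul, mul_assoc]
  congr 2
  exact Finset.prod_congr rfl fun i hi => by rw [Function.update_of_ne (Finset.mem_erase.1 hi).1]

/-- The tensor product of the dyads of `v` over `T`. -/
def NT (T : Finset ι) (v : ι → Fin k → F) : Mt F ι k := krn fun i => if i ∈ T then dy (v i) (v i) else 1

/-- Non-zero singular vectors. -/
def Sing (T : Finset ι) (v : ι → Fin k → F) : Prop := ∀ i ∈ T, v i ≠ 0 ∧ ip (v i) (v i) = 0

/-- The translations at `v` over `T` in an overgroup. -/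
def In (M : Set (Mt F ι k)) (T : Finset ι) (v : ι → Fin k → F) (X : Mt F ι k) : Prop :=
  1 + X ∈ M ∧ ∃ Y, X = NT T v * Y * NT T v

theorem NT_conjT (T : Finset ι) (v : ι → Fin k → F) : (NT T v)ᴴ = NT T v := by
  rw [NT, krn_conjT]
  congr 1
  funext i
  split_ifs
  · rw [dy_conjT]
  · rw [conjTranspose_one]

theorem NT_comm_sl {T : Finset ι} (v : ι → Fin k → F) {b : ι} (hb : b ∉ T) (Q : Matrix (Fin k) (Fin k) F) :
    Commute (NT T v) (sl b Q) := by
  show _ = _
  rw [NT, sl, krn_mul, krn_mul]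
  congr 1
  funext i
  rcases eq_or_ne i b with rfl | hi
  · rw [if_neg hb, Matrix.one_mul, Matrix.mul_one]
  · rw [Function.update_of_ne hi, Matrix.one_mul, Matrix.mul_one]

theorem NT_insert (T : Finset ι) (v : ι → Fin k → F) {b : ι} (hb : b ∉ T) (u : Fin k → F) :
    NT (insert b T) (Function.update v b u) = NT T v * nd b u := by
  rw [NT, NT, nd, sl, krn_mul]
  congr 1
  funext i
  rcases eq_or_ne i b with rfl | hi
  · simp [hb]
  · simp [hi, Function.update_of_ne hi]

theorem NT_singleton (a : ι) (v : ι → Fin k → F) : NT {a} v = nd a (v a) := by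
  rw [NT, nd, sl]
  congr 1
  funext i
  rcases eq_or_ne i a with rfl | hi
  · simp
  · simp [hi]

theorem NT_sq {T : Finset ι} {v : ι → Fin k → F} (hT : T.Nonempty) (hv : Sing T v) : NT T v * NT T v = 0 := by
  obtain ⟨a, ha⟩ := hT
  rw [NT, krn_mul]
  refine krn_eq_zero a ?_
  rw [if_pos ha, dy_self_sq (hv a ha).2]

theorem exists_NT_mid (T : Finset ι) {v : ι → Fin k → F} (hv : Sing T v) :
    ∃ e : ι → Fin k → F, NT T v * NT T e * NT T v = NT T v := by
  have : ∀ i, ∃ e : Fin k → F, i ∈ T → ip e (v i) = 1 ∧ ip (v i) e = 1 := fun i => by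
    by_cases hi : i ∈ T
    · obtain ⟨y, hy⟩ := (hU F (Fin k)).exists_one (hv i hi).1
      rw [hU_B] at hy
      exact ⟨y, fun _ => ⟨ip_symm1 hy, hy⟩⟩
    · exact ⟨0, fun h => absurd h hi⟩
  choose e he using this
  refine ⟨e, ?_⟩
  rw [NT, NT, krn_mul, krn_mul]
  congr 1
  funext i
  split_ifs with hi
  · rw [dy_mul, Matrix.smul_mul, dy_mul, (he i hi).1, (he i hi).2, one_smul, one_smul]
  · rw [Matrix.one_mul, Matrix.one_mul]

variable {M : Set (Mt F ι k)} {T : Finset ι} {v : ι → Fin k → F}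

theorem In.mul_zero' (hT : T.Nonempty) (hv : Sing T v) {X X' : Mt F ι k} {Y Y' : Mt F ι k}
    (h : X = NT T v * Y * NT T v) (h' : X' = NT T v * Y' * NT T v) : X * X' = 0 := by
  rw [h, h', show NT T v * Y * NT T v * (NT T v * Y' * NT T v) = NT T v * Y * (NT T v * NT T v) * Y' * NT T v by
    simp only [Matrix.mul_assoc], NT_sq hT hv]
  simp

theorem In.skew (hM : Ov M) (hT : T.Nonempty) (hv : Sing T v) {X : Mt F ι k} (hX : In M T v X) : Xᴴ = -X := by
  obtain ⟨h1, Y, hY⟩ := hX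
  have h2 := hM.isU _ h1
  have h3 : Xᴴ * X = 0 := In.mul_zero' hT hv (Y := Yᴴ)
    (by rw [hY, conjTranspose_mul, conjTranspose_mul, NT_conjT, Matrix.mul_assoc]) hY
  rw [IsU, conjTranspose_add, conjTranspose_one, Matrix.add_mul, Matrix.mul_add, Matrix.mul_add, h3,
    Matrix.one_mul, Matrix.one_mul, Matrix.mul_one, add_zero, add_assoc, add_eq_left] at h2
  exact eq_neg_of_add_eq_zero_right h2

theorem In.add (hM : Ov M) (hT : T.Nonempty) (hv : Sing T v) {X X' : Mt F ι k} (hX : In M T v X)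
    (hX' : In M T v X') : In M T v (X + X') := by
  obtain ⟨h1, Y, hY⟩ := hX
  obtain ⟨h1', Y', hY'⟩ := hX'
  refine ⟨?_, Y + Y', by rw [hY, hY', Matrix.mul_add, Matrix.add_mul]⟩
  have h := hM.mul _ h1 _ h1'
  rw [Matrix.add_mul, Matrix.mul_add, Matrix.mul_add, In.mul_zero' hT hv hY hY', Matrix.one_mul, Matrix.one_mul,
    Matrix.mul_one, add_zero] at h
  convert h using 1
  abel

theorem In.neg (hM : Ov M) (hT : T.Nonempty) (hv : Sing T v) {X : Mt F ι k} (hX : In M T v X) : In M T v (-X) := by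
  have h := hX.skew hM hT hv
  obtain ⟨h1, Y, hY⟩ := hX
  refine ⟨?_, -Y, by rw [hY, Matrix.mul_neg, Matrix.neg_mul]⟩
  rw [← h, ← conjTranspose_one (α := F), ← conjTranspose_add]
  exact hM.inv _ h1

theorem In.sub (hM : Ov M) (hT : T.Nonempty) (hv : Sing T v) {X X' : Mt F ι k} (hX : In M T v X)
    (hX' : In M T v X') : In M T v (X - X') := by
  rw [sub_eq_add_neg]; exact hX.add hM hT hv (hX'.neg hM hT hv)

theorem In.conj (hM : Ov M) {X : Mt F ι k} (hX : In M T v X) {b : ι} (hb : b ∉ T)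
    {Q : Matrix (Fin k) (Fin k) F} (hQ : IsSU Q) : In M T v (sl b Q * X * (sl b Q)ᴴ) := by
  obtain ⟨h1, Y, hY⟩ := hX
  refine ⟨?_, sl b Q * Y * (sl b Q)ᴴ, ?_⟩
  · have h := hM.mul _ (hM.mul _ (hM.slot b Q hQ) _ h1) _ (hM.inv _ (hM.slot b Q hQ))
    rwa [Matrix.mul_add, Matrix.add_mul, Matrix.mul_one, (sl_isU b hQ.1).inv_right] at h
  · rw [hY, sl_conjT, ← Matrix.mul_assoc, ← Matrix.mul_assoc, ← (NT_comm_sl v hb Q).eq, Matrix.mul_assoc _ (NT T v),
      (NT_comm_sl v hb Qᴴ).eq]
    simp only [Matrix.mul_assoc]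

theorem In.real (hG : Good F k) (hM : Ov M) (hT : T.Nonempty) (hv : Sing T v) {X : Mt F ι k} (hX : In M T v X)
    {r : F} (hr : star r = r) : In M T v (r • X) := by
  by_cases hr0 : r = 0
  · subst hr0
    rw [zero_smul]
    exact ⟨by rw [add_zero]; exact hM.one hT.choose, 0, by simp⟩
  obtain ⟨a, ha⟩ := hT
  obtain ⟨x, hx⟩ := UField.norm r hr
  have hx0 : x ≠ 0 := fun e => hr0 (by rw [← hx, e, zero_mul])
  obtain ⟨D, hD, hDc⟩ := exists_torus (κ := Fin k) (by simpa using hG.three) (hv a ha).1 (hv a ha).2 hx0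
  have hgN : sl a D * NT T v = x • NT T v := by
    rw [NT, sl, krn_mul, ← krn_update_smul _ a]
    congr 1
    funext i
    rcases eq_or_ne i a with rfl | hi
    · simp only [Function.update_self, if_pos ha]
      rw [← dy_smul_left, ← hDc]
      refine Matrix.ext_iff_mulVec.2 fun z => ?_
      rw [← mulVec_mulVec, dy_mulVec, dy_mulVec, mulVec_smul]
    · simp only [Function.update_of_ne hi, Matrix.one_mul]
  have hNg : NT T v * (sl a D)ᴴ = star x • NT T v := by
    have := congrArg conjTranspose hgN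
    rwa [conjTranspose_mul, conjTranspose_smul, NT_conjT] at this
  obtain ⟨h1, Y, hY⟩ := hX
  have e : sl a D * X * (sl a D)ᴴ = r • X := by
    rw [hY, ← Matrix.mul_assoc, ← Matrix.mul_assoc, hgN, Matrix.mul_assoc, hNg]
    simp only [Matrix.smul_mul, Matrix.mul_smul, smul_smul, ← hx, mul_comm x]
  refine ⟨?_, r • Y, by rw [hY, Matrix.mul_smul, Matrix.smul_mul]⟩
  have h := hM.mul _ (hM.mul _ (hM.slot a D hD) _ h1) _ (hM.inv _ (hM.slot a D hD))
  rwa [Matrix.mul_add, Matrix.add_mul, Matrix.mul_one, (sl_isU a hD.1).inv_right, e] at h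

theorem In.grow (hv : Sing T v) {X : Mt F ι k} (hX : In M T v X) {b : ι} (hb : b ∉ T) {u : Fin k → F}
    {W : Mt F ι k} (hW : X = nd b u * W * nd b u) : In M (insert b T) (Function.update v b u) X := by
  obtain ⟨h1, Y, hY⟩ := hX
  obtain ⟨e, he⟩ := exists_NT_mid T hv
  refine ⟨h1, NT T e * W * NT T e, ?_⟩
  have hX' : X = NT T v * NT T e * X * (NT T e * NT T v) := by
    conv_rhs => rw [hY]
    calc X = NT T v * Y * NT T v := hY
      _ = (NT T v * NT T e * NT T v) * Y * (NT T v * NT T e * NT T v) := by rw [he]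
      _ = _ := by simp only [Matrix.mul_assoc]
  rw [NT_insert T v hb]
  conv_lhs => rw [hX', hW]
  have c2 : Commute (NT T e) (nd b u) := NT_comm_sl e hb _
  have c1 : Commute (NT T v) (nd b u) := NT_comm_sl v hb _
  calc NT T v * NT T e * (nd b u * W * nd b u) * (NT T e * NT T v)
      = NT T v * (NT T e * nd b u) * W * ((nd b u * NT T e) * NT T v) := by simp only [Matrix.mul_assoc]
    _ = NT T v * (nd b u * NT T e) * W * ((NT T e * nd b u) * NT T v) := by rw [c2.eq]
    _ = NT T v * (nd b u * NT T e) * W * (NT T e * (nd b u * NT T v)) := by simp only [Matrix.mul_assoc]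
    _ = NT T v * (nd b u * NT T e) * W * (NT T e * (NT T v * nd b u)) := by rw [c1.eq]
    _ = _ := by simp only [Matrix.mul_assoc]

theorem rs_sandwich (a : ι) {u : Fin k → F} (hu : u ≠ 0)
    (C : Matrix ({i // i ≠ a} → Fin k) ({i // i ≠ a} → Fin k) F) :
    ∃ W : Mt F ι k, rs a (nd a u * W * nd a u) =
      cb ({i // i ≠ a} → Fin k) u * C * (cb ({i // i ≠ a} → Fin k) u)ᴴ := by
  obtain ⟨e, he⟩ := (hU F (Fin k)).exists_one hu
  rw [hU_B] at he
  refine ⟨(rs a).symm (cb ({i // i ≠ a} → Fin k) e * C * (cb ({i // i ≠ a} → Fin k) e)ᴴ), ?_⟩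
  have h1 : ((cb ({i // i ≠ a} → Fin k) u)ᴴ * cb ({i // i ≠ a} → Fin k) e) = 1 := by
    rw [cbH_cb, ip_symm1 he, one_smul]
  have h2 : ((cb ({i // i ≠ a} → Fin k) e)ᴴ * cb ({i // i ≠ a} → Fin k) u) = 1 := by rw [cbH_cb, he, one_smul]
  rw [map_mul, map_mul, rs_nd, AlgEquiv.apply_symm_apply]
  simp only [Matrix.mul_assoc]
  rw [← Matrix.mul_assoc (cb ({i // i ≠ a} → Fin k) u)ᴴ (cb ({i // i ≠ a} → Fin k) e), h1, Matrix.one_mul,
    ← Matrix.mul_assoc (cb ({i // i ≠ a} → Fin k) e)ᴴ (cb ({i // i ≠ a} → Fin k) u), h2, Matrix.one_mul]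

theorem scalar_of_diag {A : Matrix (Fin k) (Fin k) F} (hk : 2 ≤ k)
    (h : ∀ v, ip v v = 0 → ip (A *ᵥ v) v = 0) : ∃ r : F, A = r • 1 := by
  have key : ∀ B : Matrix (Fin k) (Fin k) F, Bᴴ = -B → (∀ v, ip v v = 0 → ip (B *ᵥ v) v = 0) →
      ∃ r : F, B = r • 1 := by
    intro B hB hv
    obtain ⟨r, hr⟩ := (hU F (Fin k)).scalar_of_iso (A := B.mulVecLin)
      (by rw [finrank_fintype_fun_eq_card, Fintype.card_fin]; exact hk)
      (fun x y => by
        show ip (B *ᵥ x) y + ip x (B *ᵥ y) = 0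
        rw [ip_adj, hB, neg_mulVec, ip_neg_right, neg_add_cancel]) hv
    refine ⟨r, Matrix.ext_iff_mulVec.2 fun x => ?_⟩
    rw [smul_mulVec, one_mulVec]
    exact LinearMap.congr_fun hr x
  have hH : ∀ v, ip v v = 0 → ip (Aᴴ *ᵥ v) v = 0 := fun v hv => by
    rw [ip_adj, conjTranspose_conjTranspose, ← ip_conj, h v hv, star_zero]
  obtain ⟨a, ha⟩ := UField.ne (F := F)
  obtain ⟨r1, h1⟩ := key (A - Aᴴ) (by rw [conjTranspose_sub, conjTranspose_conjTranspose, neg_sub]) fun v hv => by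
    rw [sub_mulVec, ip_sub_left, h v hv, hH v hv, sub_zero]
  obtain ⟨r2, h2⟩ := key (a • A - star a • Aᴴ) (by
      rw [conjTranspose_sub, conjTranspose_smul, conjTranspose_smul, conjTranspose_conjTranspose, star_star,
        neg_sub]) fun v hv => by
    rw [sub_mulVec, smul_mulVec, smul_mulVec, ip_sub_left, ip_smul_left, ip_smul_left, h v hv, hH v hv]; ring
  refine ⟨(a - star a)⁻¹ * (r2 - star a * r1), ?_⟩
  rw [← smul_smul, eq_inv_smul_iff₀ (sub_ne_zero.2 (Ne.symm ha)), sub_smul r2, ← smul_smul, ← h1, ← h2]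
  module

theorem kr_one_of_diag {β : Type*} [Fintype β] [DecidableEq β] (hk : 2 ≤ k)
    {G : Matrix (Fin k × β) (Fin k × β) F}
    (h : ∀ v : Fin k → F, v ≠ 0 → ip v v = 0 → (cb β v)ᴴ * G * cb β v = 0) :
    ∃ C : Matrix β β F, G = (1 : Matrix (Fin k) (Fin k) F) ⊗ₖ C := by
  have hs : ∀ z z' : β, ∃ r : F, (Matrix.of fun p q => G (p, z) (q, z')) = r • (1 : Matrix (Fin k) (Fin k) F) := fun z z' => by
    refine scalar_of_diag hk fun v hv => ?_
    by_cases hv0 : v = 0
    · rw [hv0, ip_zero_right]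
    have h1 := congrFun (congrFun (h v hv0 hv) z) z'
    simp only [Matrix.mul_apply, conjTranspose_apply, cb_apply, Fintype.sum_prod_type, Matrix.one_apply, mul_ite,
      mul_one, mul_zero, ite_mul, zero_mul, apply_ite star, star_zero, Finset.sum_ite_eq', Finset.sum_ite_eq,
      Finset.mem_univ, if_true, Matrix.zero_apply, Finset.sum_mul] at h1
    rw [← h1]
    simp only [ip, dotProduct, mulVec, Finset.sum_mul, Pi.star_apply]
    rw [Finset.sum_comm]
    exact Finset.sum_congr rfl fun i _ => Finset.sum_congr rfl fun j _ => by rw [Matrix.of_apply]; ring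
  choose C hC using hs
  refine ⟨Matrix.of C, Matrix.ext fun ⟨p, z⟩ ⟨q, z'⟩ => ?_⟩
  have h1 : G (p, z) (q, z') = C z z' * (1 : Matrix (Fin k) (Fin k) F) p q := congrFun (congrFun (hC z z') p) q
  rw [kroneckerMap_apply, Matrix.of_apply, mul_comm]
  exact h1

theorem trans_sub {N X : Mt F ι k} {l : F} (hl : star l = -l) (hNH : Nᴴ = N) :
    (1 + l • N) * X * (1 + l • N)ᴴ - X = l • (N * X - X * N) - (l * l) • (N * X * N) := by
  rw [conjTranspose_add, conjTranspose_one, conjTranspose_smul, hNH, hl]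
  simp only [Matrix.add_mul, Matrix.mul_add, Matrix.one_mul, Matrix.mul_one, Matrix.smul_mul, Matrix.mul_smul]
  module

theorem double_diff {N N' X : Mt F ι k} (h : N * N' = 0) (h' : N' * N = 0) (a a2 : F) :
    a • (N * (a • (N' * X - X * N') - a2 • (N' * X * N')) - (a • (N' * X - X * N') - a2 • (N' * X * N')) * N) -
        a2 • (N * (a • (N' * X - X * N') - a2 • (N' * X * N')) * N) =
      -(a * a) • (N * X * N' + N' * X * N) := by
  have q1 : ∀ Y : Mt F ι k, N * (N' * Y) = 0 := fun Y => by rw [← Matrix.mul_assoc, h, Matrix.zero_mul]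
  simp only [Matrix.mul_sub, Matrix.sub_mul, Matrix.mul_smul, Matrix.smul_mul, Matrix.mul_assoc, h', q1,
    Matrix.mul_zero, smul_zero, sub_zero, smul_sub, smul_smul]
  rw [Matrix.zero_mul, smul_zero, sub_zero]; module

theorem exists_sgm_move {v1 v2 : Fin k → F} (h1 : ip v1 v1 = 0) (h12 : ip v2 v1 = 0)
    (hind : ∀ r : F, v2 ≠ r • v1) (μ : F) :
    ∃ Q, IsSU Q ∧ Q *ᵥ v1 = v1 ∧ Q *ᵥ v2 = v2 + μ • v1 := by
  obtain ⟨φ, hφ2, hφ1⟩ := exists_dot (x := v2) (U := Submodule.span F {v1}) (fun h => by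
    obtain ⟨r, hr⟩ := Submodule.mem_span_singleton.1 h
    exact hind r hr.symm)
  have hv1 := hφ1 v1 (Submodule.mem_span_singleton_self _)
  set f := star (-μ) • star φ with hf
  have e2 : ip v2 f = -μ := by
    rw [hf, ip_smul_right, ip, star_star, star_star, dotProduct_comm, hφ2, mul_one]
  have e1 : ip f v1 = 0 := by
    refine ip_symm0 ?_
    rw [hf, ip_smul_right, ip, star_star, star_star, dotProduct_comm, hv1, mul_zero]
  obtain ⟨r, hr⟩ := (hU F (Fin k)).exists_trace (-ip f f) (by rw [map_neg, starRingAut_apply, ip_conj])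
  rw [starRingAut_apply] at hr
  refine ⟨sgm v1 f r, sgm_isSU h1 e1 hr, ?_, ?_⟩
  · simp only [sgm, add_mulVec, sub_mulVec, one_mulVec, smul_mulVec, dy_mulVec, h1, ip_symm0 e1, zero_smul,
      smul_zero, add_zero, sub_zero]
  · simp only [sgm, add_mulVec, sub_mulVec, one_mulVec, smul_mulVec, dy_mulVec, h12, e2, zero_smul,
      smul_zero, add_zero, zero_sub, neg_smul, neg_neg]

/-- A translation not commuting with a slot gives one at a singular vector of that slot. -/
theorem In.step (hG : Good F k) (hM : Ov M) (hT : T.Nonempty) (hv : Sing T v) {X : Mt F ι k} (hX : In M T v X)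
    {b : ι} (hb : b ∉ T) (hC : ¬ ∃ C, rs b X = (1 : Matrix (Fin k) (Fin k) F) ⊗ₖ C) :
    ∃ (u : Fin k → F) (Z : Mt F ι k), u ≠ 0 ∧ ip u u = 0 ∧ Z ≠ 0 ∧ In M (insert b T) (Function.update v b u) Z ∧
      ∀ P : Mt F ι k, (∀ Q, Commute P (sl b Q)) → P * X = X → P * Z = Z := by
  have hk := hG.three
  have hNH : ∀ u : Fin k → F, (nd b u)ᴴ = nd b u := fun u => by rw [nd, sl_conjT, dy_conjT]
  have hP : ∀ {P : Mt F ι k}, (∀ Q, Commute P (sl b Q)) → ∀ (A B W : Mt F ι k), Commute P A → P * W = W →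
      P * (A * W * B) = A * W * B := fun {P} _ A B W hA hW => by
    rw [← Matrix.mul_assoc, ← Matrix.mul_assoc, hA.eq, Matrix.mul_assoc A P, hW]
  rcases hG.big with ⟨r₀, hr₀, hr₁⟩ | hk4
  · obtain ⟨u, hu0, hu, hne⟩ : ∃ u : Fin k → F, u ≠ 0 ∧ ip u u = 0 ∧ (cb ({i // i ≠ b} → Fin k) u)ᴴ * rs b X * cb ({i // i ≠ b} → Fin k) u ≠ 0 := by
      by_contra hh
      push Not at hh
      exact hC (kr_one_of_diag (by omega) hh)
    obtain ⟨δ, hδ, hδ'⟩ := (hU F (Fin k)).exists_skew
    rw [starRingAut_apply] at hδ'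
    set r := r₀ * star r₀ with hr
    have hrs : star r = r := by rw [hr, star_mul', star_star, mul_comm]
    have hr0 : r ≠ 0 := mul_ne_zero hr₀ (star_ne_zero.2 hr₀)
    set Z := nd b u * X * nd b u with hZ
    have hD : ∀ l : F, star l = -l → In M T v (l • (nd b u * X - X * nd b u) - (l * l) • Z) := fun l hl => by
      have h1 := (hX.conj hM hb (rt_isSU hu hl)).sub hM hT hv hX
      rwa [sl_rt, trans_sub hl (hNH u)] at h1
    have hZin : In M T v Z := by
      have h1 := (hD (r * δ) (by rw [star_mul', hrs, hδ', mul_neg])).sub hM hT hv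
        ((hD δ hδ').real hG hM hT hv hrs)
      have hs : (r * δ * (r * δ) - r * (δ * δ)) ≠ 0 := by
        rw [show r * δ * (r * δ) - r * (δ * δ) = r * (r - 1) * (δ * δ) by ring]
        exact mul_ne_zero (mul_ne_zero hr0 (sub_ne_zero.2 hr₁)) (mul_ne_zero hδ hδ)
      have h2 := h1.real hG hM hT hv (r := -(r * δ * (r * δ) - r * (δ * δ))⁻¹)
        (by simp only [star_neg, star_inv₀, star_sub, star_mul', hrs, hδ']; ring)
      convert h2 using 1
      rw [show ((r * δ) • (nd b u * X - X * nd b u) - (r * δ * (r * δ)) • Z) -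
          r • (δ • (nd b u * X - X * nd b u) - (δ * δ) • Z) = (-(r * δ * (r * δ) - r * (δ * δ))) • Z by module,
        smul_smul, neg_mul_neg, inv_mul_cancel₀ hs, one_smul]
    refine ⟨u, Z, hu0, hu, fun h0 => hne ?_, hZin.grow hv hb rfl, fun P hP' hPX => hP hP' _ _ _ (hP' _) hPX⟩
    have h1 := congrArg (rs b) h0
    rw [hZ, map_mul, map_mul, rs_nd, map_zero] at h1
    refine cb_cancel hu0 (cbH_cancel hu0 (?_ : cb ({i // i ≠ b} → Fin k) u * ((cb ({i // i ≠ b} → Fin k) u)ᴴ * rs b X * cb ({i // i ≠ b} → Fin k) u) * (cb ({i // i ≠ b} → Fin k) u)ᴴ =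
      cb ({i // i ≠ b} → Fin k) u * (0 : Matrix ({i // i ≠ b} → Fin k) ({i // i ≠ b} → Fin k) F) * (cb ({i // i ≠ b} → Fin k) u)ᴴ))
    rw [Matrix.mul_zero, Matrix.zero_mul, ← h1]
    simp only [Matrix.mul_assoc]
  · obtain ⟨v1, v2, hv10, hv20, h11, h22, h12, hind, hne⟩ : ∃ v1 v2 : Fin k → F, v1 ≠ 0 ∧ v2 ≠ 0 ∧ ip v1 v1 = 0 ∧
        ip v2 v2 = 0 ∧ ip v2 v1 = 0 ∧ (∀ r : F, v2 ≠ r • v1) ∧ (cb ({i // i ≠ b} → Fin k) v1)ᴴ * rs b X * cb ({i // i ≠ b} → Fin k) v2 ≠ 0 := by
      by_contra hh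
      push Not at hh
      refine hC (kr_one_of_diag (by omega) fun w hw0 hw => ?_)
      obtain ⟨e, hee, hwe⟩ := (hU F (Fin k)).exists_partner hw0 hw
      have h2 := (hU F (Fin k)).finrank_mid w e
      rw [finrank_fintype_fun_eq_card, Fintype.card_fin] at h2
      obtain ⟨g, hg, hg0, hgg⟩ := (hU F (Fin k)).exists_iso_mem (U := (hU F (Fin k)).mid w e) (by omega)
      obtain ⟨hgw, hge⟩ := (hU F (Fin k)).mem_mid.1 hg
      simp only [hU_B] at hgw hge hgg hwe
      have hind : ∀ (s r : F), g + s • w ≠ r • w := fun s r h => hg0 (by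
        have h3 := congrArg (fun z => ip z e) h
        simp only [ip_add_left, ip_smul_left, hge, hwe, mul_one, zero_add] at h3
        rwa [h3, add_eq_right] at h)
      have key : ∀ s : F, (cb ({i // i ≠ b} → Fin k) w)ᴴ * rs b X * cb ({i // i ≠ b} → Fin k) (g + s • w) = 0 := fun s =>
        hh w (g + s • w) hw0 (fun h => hind s 0 (by rw [h, zero_smul])) hw
          (by simp [ip_add_left, ip_add_right, ip_smul_left, ip_smul_right, hgg, hw, hgw, ip_symm0 hgw])
          (by simp [ip_add_left, ip_smul_left, hgw, hw]) (hind s)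
      have k1 := key 1
      have k0 := key 0
      rw [one_smul, cb_add, Matrix.mul_add] at k1
      rw [zero_smul, add_zero] at k0
      rwa [k0, zero_add] at k1
    obtain ⟨δ, hδ, hδ'⟩ := (hU F (Fin k)).exists_skew
    rw [starRingAut_apply] at hδ'
    set N1 := nd b v1
    set N2 := nd b v2
    set D := N1 * X * N2 + N2 * X * N1 with hD
    have p1 : N1 * N2 = 0 := by simp only [N1, N2, nd]; rw [sl_mul, dy_mul, h12, zero_smul, sl_zero]
    have p2 : N2 * N1 = 0 := by simp only [N1, N2, nd]; rw [sl_mul, dy_mul, ip_symm0 h12, zero_smul, sl_zero]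
    have hDin : In M T v D := by
      have e1 := (hX.conj hM hb (rt_isSU h22 hδ')).sub hM hT hv hX
      have e2 := (e1.conj hM hb (rt_isSU h11 hδ')).sub hM hT hv e1
      rw [sl_rt, sl_rt, trans_sub hδ' (hNH v1), trans_sub hδ' (hNH v2)] at e2
      have e3 := e2.real hG hM hT hv (r := -(δ * δ)⁻¹)
        (by simp only [star_neg, star_inv₀, star_mul', hδ']; ring)
      rwa [double_diff p1 p2, smul_smul, neg_mul_neg, inv_mul_cancel₀ (mul_ne_zero hδ hδ), one_smul] at e3
    set C := (cb ({i // i ≠ b} → Fin k) v1)ᴴ * rs b X * cb ({i // i ≠ b} → Fin k) v2 with hCdef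
    set C' := (cb ({i // i ≠ b} → Fin k) v2)ᴴ * rs b X * cb ({i // i ≠ b} → Fin k) v1 with hC'def
    obtain ⟨μ, hμ⟩ : ∃ μ : F, star μ • C + μ • C' ≠ 0 := by
      obtain ⟨a, ha⟩ := UField.ne (F := F)
      by_contra hh
      push Not at hh
      have e1 := hh 1
      rw [star_one, one_smul, one_smul, add_eq_zero_iff_neg_eq] at e1
      have e2 := hh a
      rw [← e1, smul_neg, ← sub_eq_add_neg, ← sub_smul] at e2
      exact hne ((smul_eq_zero.1 e2).resolve_left (sub_ne_zero.2 ha))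
    obtain ⟨Q, hQ, hQ1, hQ2⟩ := exists_sgm_move h11 h12 hind μ
    set Z := sl b Q * D * (sl b Q)ᴴ - D with hZ
    have hrsD : rs b D = cb ({i // i ≠ b} → Fin k) v1 * C * (cb ({i // i ≠ b} → Fin k) v2)ᴴ + cb ({i // i ≠ b} → Fin k) v2 * C' * (cb ({i // i ≠ b} → Fin k) v1)ᴴ := by
      rw [hD, map_add, map_mul, map_mul, map_mul, map_mul, rs_nd, rs_nd, hCdef, hC'def]
      simp only [Matrix.mul_assoc]
    have hQcb : ∀ w : Fin k → F, (Q ⊗ₖ (1 : Matrix ({i // i ≠ b} → Fin k) ({i // i ≠ b} → Fin k) F)) * cb ({i // i ≠ b} → Fin k) w = cb ({i // i ≠ b} → Fin k) (Q *ᵥ w) := fun w => by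
      rw [kr_cb, Matrix.mul_one]
    have hrsZ : rs b Z = cb ({i // i ≠ b} → Fin k) v1 * (star μ • C + μ • C') * (cb ({i // i ≠ b} → Fin k) v1)ᴴ := by
      rw [hZ, map_sub, map_mul, map_mul, rs_conjT, rs_sl_self, hrsD, Matrix.mul_add, Matrix.add_mul]
      simp only [← Matrix.mul_assoc, hQcb]
      rw [Matrix.mul_assoc _ (cb ({i // i ≠ b} → Fin k) v2)ᴴ, Matrix.mul_assoc _ (cb ({i // i ≠ b} → Fin k) v1)ᴴ (Q ⊗ₖ (1 : Matrix ({i // i ≠ b} → Fin k) ({i // i ≠ b} → Fin k) F))ᴴ,
        ← conjTranspose_mul, ← conjTranspose_mul, hQcb, hQcb, hQ1, hQ2, cb_add, cb_smul, conjTranspose_add,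
        conjTranspose_smul]
      simp only [Matrix.mul_add, Matrix.add_mul, Matrix.mul_smul, Matrix.smul_mul]
      abel
    have hZin : In M T v Z := (hDin.conj hM hb hQ).sub hM hT hv hDin
    obtain ⟨W, hW⟩ := rs_sandwich b hv10 (star μ • C + μ • C')
    refine ⟨v1, Z, hv10, h11, fun h0 => hμ ?_, hZin.grow hv hb (W := W) ((rs b).injective (hrsZ.trans hW.symm)),
      fun P hP' hPX => ?_⟩
    · rw [h0, map_zero] at hrsZ
      refine cb_cancel hv10 (cbH_cancel hv10 ?_)
      rw [← hrsZ, Matrix.mul_zero, Matrix.zero_mul]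
    · have hPD : P * D = D := by
        rw [hD, Matrix.mul_add, hP hP' N1 N2 X (hP' _) hPX, hP hP' N2 N1 X (hP' _) hPX]
      rw [hZ, Matrix.mul_sub, hP hP' (sl b Q) ((sl b Q)ᴴ) D (hP' _) hPD, hPD]

/-- A translation commuting with all other slots is scalar. -/
theorem eq_smul_NT (hk : 0 < k) (hv : Sing T v) {X Y : Mt F ι k} (hX : X = NT T v * Y * NT T v)
    (h : ∀ b ∉ T, ∃ C, rs b X = (1 : Matrix (Fin k) (Fin k) F) ⊗ₖ C) : ∃ μ : F, X = μ • NT T v := by
  haveI : Nonempty (Fin k) := ⟨⟨0, hk⟩⟩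
  have hdiag : ∀ b ∉ T, ∀ x y : ι → Fin k, (x b ≠ y b → X x y = 0) ∧
      (x b = y b → ∀ s, X (Function.update x b s) (Function.update y b s) = X x y) := by
    intro b hb x y
    obtain ⟨C, hC⟩ := h b hb
    have key : ∀ x y : ι → Fin k, X x y = (1 : Matrix (Fin k) (Fin k) F) (x b) (y b) *
        C (fun i => x i) (fun i => y i) := fun x y => by
      have h1 := congrFun (congrFun hC (spl b x)) (spl b y)
      rw [rs_apply, submatrix_apply, Equiv.symm_apply_apply, Equiv.symm_apply_apply] at h1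
      exact h1
    refine ⟨fun hne => by rw [key, Matrix.one_apply_ne hne, zero_mul], fun heq s => ?_⟩
    have e : ∀ x : ι → Fin k, (fun i : {i // i ≠ b} => Function.update x b s i) = fun i : {i // i ≠ b} => x i :=
      fun x => funext fun i => Function.update_of_ne i.2 _ _
    rw [key, key x y, Function.update_self, Function.update_self, heq, Matrix.one_apply_eq, e, e,
      Matrix.one_apply_eq]
  choose p hp using fun i => (show ∃ p : Fin k, i ∈ T → v i p ≠ 0 from by
    by_cases hi : i ∈ T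
    · obtain ⟨p, hp⟩ := Function.ne_iff.1 (hv i hi).1
      exact ⟨p, fun _ => hp⟩
    · exact ⟨⟨0, hk⟩, fun h => absurd h hi⟩)
  -- independence of the coordinates in `T` up to the dyads
  set cT : (ι → Fin k) → F := fun x => ∏ i ∈ T, v i (x i)
  set mx : (ι → Fin k) → (ι → Fin k) := fun x i => if i ∈ T then p i else x i with hmx
  have hNT : ∀ x w, NT T v x w = cT x * ((∏ i ∈ T, star (v i (w i))) *
      ∏ i ∈ Finset.univ \ T, (1 : Matrix (Fin k) (Fin k) F) (x i) (w i)) := fun x w => by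
    rw [NT, krn_apply, ← Finset.prod_sdiff (Finset.subset_univ T), mul_comm, ← mul_assoc,
      show cT x = ∏ i ∈ T, v i (x i) from rfl, ← Finset.prod_mul_distrib]
    congr 1
    · exact Finset.prod_congr rfl fun i hi => by rw [if_pos hi, dy, vecMulVec_apply, Pi.star_apply]
    · exact Finset.prod_congr rfl fun i hi => by rw [if_neg (Finset.mem_sdiff.1 hi).2]
  have hcp : ∀ x, cT (mx x) = cT p := fun x => Finset.prod_congr rfl fun i hi => by simp only [hmx, hi, if_true]
  have hcp0 : cT p ≠ 0 := Finset.prod_ne_zero_iff.2 fun i hi => hp i hi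
  have hrow : ∀ x w, cT p * NT T v x w = cT x * NT T v (mx x) w := fun x w => by
    rw [hNT, hNT, hcp, show ∏ i ∈ Finset.univ \ T, (1 : Matrix (Fin k) (Fin k) F) (mx x i) (w i) =
      ∏ i ∈ Finset.univ \ T, (1 : Matrix (Fin k) (Fin k) F) (x i) (w i) from
      Finset.prod_congr rfl fun i hi => by
        show (1 : Matrix (Fin k) (Fin k) F) (if i ∈ T then p i else x i) _ = _
        rw [if_neg (Finset.mem_sdiff.1 hi).2]]
    ring
  have hcol : ∀ w y, star (cT p) * NT T v w y = star (cT y) * NT T v w (mx y) := fun w y => by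
    have h1 := congrArg star (hrow y w)
    have e : ∀ a b, star (NT T v a b) = NT T v b a := fun a b => by
      rw [← conjTranspose_apply, NT_conjT]
    rwa [star_mul', star_mul', e, e] at h1
  have hfac : ∀ x y, cT p * star (cT p) * X x y = cT x * star (cT y) * X (mx x) (mx y) := fun x y => by
    rw [hX]
    simp only [Matrix.mul_apply, Finset.mul_sum, Finset.sum_mul]
    refine Finset.sum_congr rfl fun w _ => Finset.sum_congr rfl fun u _ => ?_
    linear_combination (star (cT p) * Y u w * NT T v w y) * hrow x u + (cT x * NT T v (mx x) u * Y u w) * hcol w y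
  -- the coordinates outside `T`
  have hout : ∀ (S : Finset ι), (∀ i ∈ S, i ∉ T) → ∀ x y : ι → Fin k,
      X x y = (∏ i ∈ S, (1 : Matrix (Fin k) (Fin k) F) (x i) (y i)) *
        X (fun i => if i ∈ S then p i else x i) (fun i => if i ∈ S then p i else y i) := by
    intro S
    induction S using Finset.induction with
    | empty => intro _ x y; simp
    | insert b S hb ih =>
      intro hS x y
      rw [ih (fun i hi => hS i (Finset.mem_insert_of_mem hi)) x y, Finset.prod_insert hb]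
      have hbT := hS b (Finset.mem_insert_self _ _)
      set x' := fun i => if i ∈ S then p i else x i with hx'
      set y' := fun i => if i ∈ S then p i else y i with hy'
      have e : ∀ (z : ι → Fin k), (fun i => if i ∈ insert b S then p i else z i) =
          Function.update (fun i => if i ∈ S then p i else z i) b (p b) := fun z => funext fun i => by
        rcases eq_or_ne i b with rfl | hi
        · simp
        · simp [hi, Function.update_of_ne hi]
      rw [e, e]
      rcases eq_or_ne (x b) (y b) with hxy | hxy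
      · rw [hxy, Matrix.one_apply_eq, one_mul, (hdiag b hbT x' y').2 (by simp [hx', hy', hb, hxy]) (p b)]
      · rw [Matrix.one_apply_ne hxy, zero_mul, zero_mul, (hdiag b hbT x' y').1 (by simpa [hx', hy', hb] using hxy),
          mul_zero]
  refine ⟨(cT p * star (cT p))⁻¹ * X p p, Matrix.ext fun x y => ?_⟩
  have hne := mul_ne_zero hcp0 (star_ne_zero.2 hcp0)
  rw [Matrix.smul_apply, smul_eq_mul, mul_assoc, eq_inv_mul_iff_mul_eq₀ hne, hfac,
    hout (Finset.univ \ T) (fun i hi => (Finset.mem_sdiff.1 hi).2), hNT]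
  have e : ∀ z : ι → Fin k, (fun i => if i ∈ Finset.univ \ T then p i else mx z i) = p := fun z => funext fun i => by
    by_cases hi : i ∈ T
    · simp [hmx, hi]
    · simp [hi]
  rw [e, e, show ∏ i ∈ Finset.univ \ T, (1 : Matrix (Fin k) (Fin k) F) (mx x i) (mx y i) =
      ∏ i ∈ Finset.univ \ T, (1 : Matrix (Fin k) (Fin k) F) (x i) (y i) from
      Finset.prod_congr rfl fun i hi => by
        show (1 : Matrix (Fin k) (Fin k) F) (if i ∈ T then p i else x i) (if i ∈ T then p i else y i) = _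
        rw [if_neg (Finset.mem_sdiff.1 hi).2, if_neg (Finset.mem_sdiff.1 hi).2],
    show star (cT y) = ∏ i ∈ T, star (v i (y i)) from star_prod T _]
  ring

theorem kr_slot_inj (hk : 0 < k) {A A' : ι → Matrix (Fin k) (Fin k) F} (d : ι) (hA : ∀ i ≠ d, A i = A' i)
    (h0 : krn A ≠ 0) (h : krn A = krn A') : A d = A' d := by
  haveI : Nonempty (Fin k) := ⟨⟨0, hk⟩⟩
  have h1 := congrArg (rs d) h
  rw [rs_krn, rs_krn, show (fun i : {i // i ≠ d} => A' i) = fun i : {i // i ≠ d} => A i from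
    funext fun i => (hA i i.2).symm] at h1
  obtain ⟨z, z', hzz⟩ : ∃ z z', (krn fun i : {i // i ≠ d} => A i) z z' ≠ 0 := by
    by_contra hh
    push Not at hh
    refine h0 ((rs d).injective ?_)
    rw [rs_krn, map_zero, show (krn fun i : {i // i ≠ d} => A i) = 0 from Matrix.ext hh, kronecker_zero]
  ext i j
  have h2 := congrFun (congrFun h1 (i, z)) (j, z')
  exact mul_right_cancel₀ hzz h2

theorem NT_ne_zero (hk : 0 < k) (hv : Sing T v) : NT T v ≠ 0 := by
  haveI : Nonempty (Fin k) := ⟨⟨0, hk⟩⟩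
  choose p hp using fun i => (show ∃ p : Fin k, i ∈ T → v i p ≠ 0 from by
    by_cases hi : i ∈ T
    · obtain ⟨p, hp⟩ := Function.ne_iff.1 (hv i hi).1
      exact ⟨p, fun _ => hp⟩
    · exact ⟨⟨0, hk⟩, fun h => absurd h hi⟩)
  intro h0
  have h1 := congrFun (congrFun h0 p) p
  rw [NT, krn_apply, Matrix.zero_apply, Finset.prod_eq_zero_iff] at h1
  obtain ⟨i, -, hi⟩ := h1
  by_cases hiT : i ∈ T
  · rw [if_pos hiT, dy, vecMulVec_apply, Pi.star_apply] at hi
    exact mul_ne_zero (hp i hiT) (star_ne_zero.2 (hp i hiT)) hi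
  · rw [if_neg hiT, Matrix.one_apply_eq] at hi
    exact one_ne_zero hi

/-- A non-zero translation ends in a scalar one over the slots it meets. -/
theorem In.finish (hG : Good F k) (hM : Ov M) (n : ℕ) : ∀ {T : Finset ι} {v : ι → Fin k → F} {X : Mt F ι k},
    (Finset.univ \ T).card ≤ n → T.Nonempty → Sing T v → In M T v X → X ≠ 0 →
    ∃ (T' : Finset ι) (v' : ι → Fin k → F) (γ : F), T ⊆ T' ∧ Sing T' v' ∧ γ ≠ 0 ∧ 1 + γ • NT T' v' ∈ M ∧
      ∀ d ∉ T, ∀ π : Matrix (Fin k) (Fin k) F, π ≠ 1 → sl d π * X = X → d ∈ T' := by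
  induction n with
  | zero =>
    intro T v X hn _ hv hX hX0
    obtain ⟨h1, Y, hY⟩ := hX
    have hT : ∀ b, b ∈ T := fun b => by
      by_contra hb
      have := Finset.card_pos.2 ⟨b, Finset.mem_sdiff.2 ⟨Finset.mem_univ b, hb⟩⟩
      omega
    obtain ⟨μ, rfl⟩ := eq_smul_NT (by have := hG.three; omega) hv hY fun b hb => absurd (hT b) hb
    exact ⟨T, v, μ, le_rfl, hv, fun e => hX0 (by rw [e, zero_smul]), h1, fun d hd => absurd (hT d) hd⟩
  | succ n ih =>
    intro T v X hn hT hv hX hX0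
    by_cases hall : ∀ b ∉ T, ∃ C, rs b X = (1 : Matrix (Fin k) (Fin k) F) ⊗ₖ C
    · obtain ⟨h1, Y, hY⟩ := hX
      have hk := hG.three
      obtain ⟨μ, rfl⟩ := eq_smul_NT (by omega) hv hY hall
      have hμ : μ ≠ 0 := fun e => hX0 (by rw [e, zero_smul])
      refine ⟨T, v, μ, le_rfl, hv, hμ, h1, fun d hd π hπ he => absurd ?_ hπ⟩
      rw [Matrix.mul_smul] at he
      have he' := smul_right_injective (Mt F ι k) hμ he
      rw [sl, NT, krn_mul] at he'
      have h2 := kr_slot_inj (by omega) d (fun i hi => by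
        simp [Function.update_of_ne hi]) (by rw [he']; exact NT_ne_zero (by omega) hv) he'
      simpa [hd] using h2
    push Not at hall
    obtain ⟨b, hb, hC⟩ := hall
    obtain ⟨u, Z, hu0, hu, hZ0, hZ, hPZ⟩ := hX.step hG hM hT hv hb (fun ⟨C, h⟩ => hC C h)
    have hcard : (Finset.univ \ insert b T).card ≤ n := by
      have h1 : (Finset.univ \ insert b T).card < (Finset.univ \ T).card := Finset.card_lt_card
        ⟨Finset.sdiff_subset_sdiff le_rfl (Finset.subset_insert _ _), fun h => by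
          have := h (Finset.mem_sdiff.2 ⟨Finset.mem_univ b, hb⟩)
          simp at this⟩
      omega
    obtain ⟨T', v', γ, hsub, hv', hγ, hmem, hfix⟩ := ih hcard (Finset.insert_nonempty _ _) (fun i hi => by
      rcases eq_or_ne i b with rfl | hib
      · simp [hu0, hu]
      · rw [Function.update_of_ne hib]; exact hv i ((Finset.mem_insert.1 hi).resolve_left hib)) hZ hZ0
    refine ⟨T', v', γ, (Finset.subset_insert _ _).trans hsub, hv', hγ, hmem, fun d hd π hπ he => ?_⟩
    rcases eq_or_ne d b with rfl | hdb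
    · exact hsub (Finset.mem_insert_self _ _)
    · exact hfix d (by simp [hd, hdb]) π hπ (hPZ _ (fun Q => sl_comm hdb π Q) he)

theorem exists_big_root (hG : Good F k) (hM : Ov M) (hS : ¬ Small M) :
    ∃ (T : Finset ι) (v : ι → Fin k → F) (γ : F), 2 ≤ T.card ∧ Sing T v ∧ γ ≠ 0 ∧ 1 + γ • NT T v ∈ M := by
  simp only [Small, not_forall] at hS
  obtain ⟨a, c, hc0, hc, Y, hY, hns⟩ := hS
  set v : ι → Fin k → F := fun _ => c
  have hv : Sing {a} v := fun i _ => ⟨hc0, hc⟩
  have hX : In M {a} v (nd a c * Y * nd a c) := ⟨hY, Y, by rw [NT_singleton]⟩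
  by_cases hall : ∀ b ∉ ({a} : Finset ι), ∃ C, rs b (nd a c * Y * nd a c) = (1 : Matrix (Fin k) (Fin k) F) ⊗ₖ C
  · obtain ⟨μ, hμ⟩ := eq_smul_NT (by have := hG.three; omega) hv (Y := Y) (by rw [NT_singleton]) hall
    rw [NT_singleton] at hμ
    exact absurd ⟨μ, hμ⟩ hns
  push Not at hall
  obtain ⟨b, hb, hC⟩ := hall
  obtain ⟨u, Z, hu0, hu, hZ0, hZ, -⟩ := hX.step hG hM (Finset.singleton_nonempty a) hv hb (fun ⟨C, h⟩ => hC C h)
  obtain ⟨T', v', γ, hsub, hv', hγ, hmem, -⟩ := In.finish hG hM _ le_rfl (Finset.insert_nonempty _ _)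
    (fun i hi => by
      rcases eq_or_ne i b with rfl | hib
      · simp [hu0, hu]
      · rw [Function.update_of_ne hib]; exact hv i ((Finset.mem_insert.1 hi).resolve_left hib)) hZ hZ0
  refine ⟨T', v', γ, le_trans ?_ (Finset.card_le_card hsub), hv', hγ, hmem⟩
  rw [Finset.card_insert_of_notMem hb, Finset.card_singleton]

end Cfsg.Agent.H30.UWreath
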