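import Cfsg.Agent.H30.UWreath.Link

/-!
In characteristic two small overgroups consist of monomial elements: involutions, dihedral groups, centralisers
of products of transvections.
-/

set_option autoImplicit false
set_option maxHeartbeats 1000000
set_option linter.unusedSectionVars false

universe u

namespace Cfsg.Agent.H30.UWreath

open Matrix Module Cfsg.Agent.H98.TensorUnit
open scoped Kronecker

variable {F : Type*} [Field F] [StarRing F] [UField F] [Finite F] {k : ℕ} {ι : Type u} [Fintype ι] [DecidableEq ι]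

theorem dihedral_split_group {G : Type*} [Group G] [Finite G] {d z : G} (hd : d * d = 1) (hz : z * z = 1) :
    (∃ n : ℕ, z = (d * z) ^ n * d * (z * d) ^ n) ∨ ∃ n e : ℕ, 0 < e ∧
      d * (d * z) ^ (2 * n + 1) = (z * d) ^ n * z * (d * z) ^ n ∧ ((d * z) ^ (2 * n + 1)) ^ 2 ^ e = 1 ∧
      ((d * z) ^ (2 * n + 1)) ^ 2 ^ (e - 1) ≠ 1 := by
  have hinv : z * d = (d * z)⁻¹ := by
    rw [_root_.mul_inv_rev, inv_eq_of_mul_eq_one_right hd, inv_eq_of_mul_eq_one_right hz]
  have hdconj : ∀ m : ℕ, d * (d * z) ^ m = (z * d) ^ m * d := fun m =>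
    (SemiconjBy.pow_right (show SemiconjBy d (d * z) (z * d) from by
      show d * (d * z) = z * d * d
      rw [← mul_assoc, hd, one_mul, mul_assoc, hd, mul_one]) m).eq
  have hzconj : ∀ m : ℕ, (z * d) ^ m * z = z * (d * z) ^ m := fun m =>
    (SemiconjBy.pow_right (show SemiconjBy z (d * z) (z * d) from by
      show z * (d * z) = z * d * z
      rw [mul_assoc]) m).eq.symm
  obtain ⟨e, o, ⟨n, ho⟩, hN⟩ := Nat.exists_eq_two_pow_mul_odd (n := orderOf (d * z)) (orderOf_pos _).ne'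
  subst ho
  rcases Nat.eq_zero_or_pos e with rfl | he
  · left
    rw [pow_zero, one_mul] at hN
    refine ⟨n, ?_⟩
    have h1 : (d * z) ^ n * (d * z) ^ n = z * d := by
      rw [hinv, ← pow_add]
      exact eq_inv_of_mul_eq_one_left (by rw [← pow_succ, ← two_mul, ← hN, pow_orderOf_eq_one])
    rw [show (z * d) ^ n = ((d * z) ^ n)⁻¹ by rw [hinv, inv_pow], eq_mul_inv_iff_mul_eq]
    have h2 : z * (d * z) ^ n = ((d * z) ^ n)⁻¹ * z := by rw [← hzconj, hinv, inv_pow]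
    rw [h2, inv_mul_eq_iff_eq_mul, ← mul_assoc, h1, mul_assoc, hd, mul_one]
  · right
    refine ⟨n, e, he, ?_, ?_, ?_⟩
    · rw [hzconj, mul_assoc, ← pow_add, pow_succ', ← mul_assoc d, ← mul_assoc d d z, hd, one_mul, two_mul]
    · rw [← pow_mul, mul_comm, ← hN, pow_orderOf_eq_one]
    · rw [← pow_mul]
      refine pow_ne_one_of_lt_orderOf (by positivity) ?_
      have : (2 : ℕ) ^ (e - 1) < 2 ^ e := Nat.pow_lt_pow_right (by norm_num) (by omega)
      rw [hN, mul_comm]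
      exact Nat.mul_lt_mul_of_pos_right this (by omega)

theorem dihedral_split {n : Type*} [Fintype n] [DecidableEq n] {d z : Matrix n n F} (hd : d * d = 1)
    (hz : z * z = 1) :
    (∃ m : ℕ, z = (d * z) ^ m * d * (z * d) ^ m) ∨ ∃ m e : ℕ, 0 < e ∧
      d * (d * z) ^ (2 * m + 1) = (z * d) ^ m * z * (d * z) ^ m ∧ ((d * z) ^ (2 * m + 1)) ^ 2 ^ e = 1 ∧
      ((d * z) ^ (2 * m + 1)) ^ 2 ^ (e - 1) ≠ 1 := by
  let du : (Matrix n n F)ˣ := ⟨d, d, hd, hd⟩
  let zu : (Matrix n n F)ˣ := ⟨z, z, hz, hz⟩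
  rcases dihedral_split_group (d := du) (z := zu) (Units.ext hd) (Units.ext hz) with
    ⟨m, h⟩ | ⟨m, e, he, h1, h2, h3⟩
  · exact Or.inl ⟨m, by simpa [du, zu] using congrArg Units.val h⟩
  · refine Or.inr ⟨m, e, he, by simpa [du, zu] using congrArg Units.val h1,
      by simpa [du, zu] using congrArg Units.val h2, fun h => h3 (Units.ext (by simpa [du, zu] using h))⟩

theorem sl_inj (hk : 0 < k) (a : ι) {X Y : Matrix (Fin k) (Fin k) F} (h : sl a X = sl a Y) : X = Y := by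
  haveI : Nonempty (Fin k) := ⟨⟨0, hk⟩⟩
  have h1 := congrArg (rs a) h
  rw [rs_sl_self, rs_sl_self] at h1
  exact kr_left_inj h1

theorem kr_prop {κ β : Type*} [Fintype κ] [DecidableEq κ] [Fintype β] [DecidableEq β] [Nonempty β]
    {A A' : Matrix κ κ F} {B B' : Matrix β β F} (hB : IsU B) (h : A ⊗ₖ B = A' ⊗ₖ B') :
    ∃ s : F, A = s • A' := by
  obtain ⟨u, v, hu⟩ : ∃ u v, B u v ≠ 0 := by
    by_contra hh
    push Not at hh
    rw [IsU, show B = 0 from Matrix.ext hh, Matrix.mul_zero] at hB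
    exact zero_ne_one hB
  refine ⟨(B u v)⁻¹ * B' u v, Matrix.ext fun i j => ?_⟩
  have h1 := congrFun (congrFun h (i, u)) (j, v)
  rw [kroneckerMap_apply, kroneckerMap_apply] at h1
  rw [Matrix.smul_apply, smul_eq_mul, mul_assoc, mul_comm (B' u v), ← h1, mul_comm (A i j), ← mul_assoc,
    inv_mul_cancel₀ hu, one_mul]

theorem rt_prop_eq {κ : Type*} [Fintype κ] [DecidableEq κ] (hκ : 3 ≤ Fintype.card κ) {c f : κ → F} {l m s : F}
    (h : rt f m = s • rt c l) : rt f m = rt c l := by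
  obtain ⟨x, hx, hx0⟩ := Submodule.exists_mem_ne_zero_of_ne_bot
    (p := LinearMap.ker (((hU F κ).lin c).prod ((hU F κ).lin f))) (LinearMap.ker_ne_bot_of_finrank_lt (by
      rw [finrank_prod, finrank_self, finrank_fintype_fun_eq_card]; omega))
  obtain ⟨hxc, hxf⟩ := Prod.ext_iff.1 (LinearMap.mem_ker.1 hx)
  replace hxc : ip x c = 0 := hxc
  replace hxf : ip x f = 0 := hxf
  have h1 := congrArg (· *ᵥ x) h
  simp only [rt_mulVec, smul_mulVec, hxc, hxf, mul_zero, zero_smul, add_zero] at h1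
  have h2 : (s - 1) • x = 0 := by rw [sub_smul, one_smul, ← h1, sub_self]
  rw [h, sub_eq_zero.1 ((smul_eq_zero.1 h2).resolve_right hx0), one_smul]

/-- The slots of a product of two transvections are determined. -/
theorem slot_pair (hk : 3 ≤ k) {p q a b : ι} (hpq : p ≠ q) (hab : a ≠ b) {x y c f : Fin k → F} {lx ly l m : F}
    (hx : IsRt x lx) (_hy : IsRt y ly) (hc : IsRt c l) (hf : IsRt f m)
    (h : sl p (rt x lx) * sl q (rt y ly) = sl a (rt c l) * sl b (rt f m)) :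
    (p = a ∧ rt x lx = rt c l) ∨ (p = b ∧ rt x lx = rt f m) := by
  haveI : Nonempty (Fin k) := ⟨⟨0, by omega⟩⟩
  have hU' : IsU (sl (⟨q, hpq.symm⟩ : {i // i ≠ p}) (rt y ly)) := sl_isU _ (rt_isSU _hy.iso _hy.skew).1
  have h1 := congrArg (rs p) h
  rw [map_mul, rs_sl_self, rs_sl_ne hpq.symm, ← mul_kronecker_mul, Matrix.one_mul, Matrix.mul_one] at h1
  have h3 : (3 : ℕ) ≤ Fintype.card (Fin k) := by simpa using hk
  rcases eq_or_ne p a with rfl | hpa
  · rw [map_mul, rs_sl_self, rs_sl_ne hab.symm, ← mul_kronecker_mul, Matrix.one_mul, Matrix.mul_one] at h1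
    obtain ⟨s, hs⟩ := kr_prop hU' h1
    exact Or.inl ⟨rfl, rt_prop_eq h3 hs⟩
  rcases eq_or_ne p b with rfl | hpb
  · rw [map_mul, rs_sl_ne hab, rs_sl_self, ← mul_kronecker_mul, Matrix.one_mul, Matrix.mul_one] at h1
    obtain ⟨s, hs⟩ := kr_prop hU' h1
    exact Or.inr ⟨rfl, rt_prop_eq h3 hs⟩
  · rw [map_mul, rs_sl_ne hpa.symm, rs_sl_ne hpb.symm, ← mul_kronecker_mul, Matrix.one_mul] at h1
    obtain ⟨s, hs⟩ := kr_prop hU' h1
    exact absurd hs (rt_ne_scalar hx s)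

/-- Conjugates of transvections of the slots under the overgroup. -/
def RC (M : Set (Mt F ι k)) (z : Mt F ι k) : Prop :=
  ∃ g ∈ M, ∃ (a : ι) (c : Fin k → F) (l : F), IsRt c l ∧ z = g * sl a (rt c l) * gᴴ

variable {M : Set (Mt F ι k)}

theorem RC.mem (hC : Ctx M) {z : Mt F ι k} (hz : RC M z) : z ∈ M := by
  obtain ⟨g, hg, a, c, l, hc, rfl⟩ := hz
  exact hC.ov.mul _ (hC.ov.mul _ hg _ (hC.ov.slot a _ (rt_isSU hc.iso hc.skew))) _ (hC.ov.inv _ hg)

theorem RC.sq0 (hC : Ctx M) {z : Mt F ι k} (hz : RC M z) : (z - 1) * (z - 1) = 0 := by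
  obtain ⟨g, hg, a, c, l, hc, rfl⟩ := hz
  exact (conj_rt_props (hC.ov.isU _ hg) hc).1

theorem sq_one_of_sq0 (h20 : (2 : F) = 0) {n : Type*} [Fintype n] [DecidableEq n] {z : Matrix n n F}
    (h : (z - 1) * (z - 1) = 0) : z * z = 1 := by
  have e : z * z - 1 = (z - 1) * (z - 1) + (2 : F) • (z - 1) := by
    rw [two_smul, Matrix.sub_mul, Matrix.mul_sub, Matrix.one_mul, Matrix.mul_one]; abel
  rw [← sub_eq_zero, e, h, h20, zero_smul, add_zero]

theorem RC.conj (hC : Ctx M) {z : Mt F ι k} (hz : RC M z) {y : Mt F ι k} (hy : y ∈ M) : RC M (y * z * yᴴ) := by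
  obtain ⟨g, hg, a, c, l, hc, rfl⟩ := hz
  exact ⟨y * g, hC.ov.mul _ hy _ hg, a, c, l, hc, by simp [Matrix.mul_assoc]⟩

theorem RC.root (hC : Ctx M) {z : Mt F ι k} (hz : RC M z) (hm : Mono z) :
    ∃ (b : ι) (f : Fin k → F) (m : F), IsRt f m ∧ z = sl b (rt f m) := by
  obtain ⟨g, hg, a, c, l, hc, rfl⟩ := hz
  obtain ⟨A, σ, hA, rfl⟩ := hC.mono_of_image hg hc hm
  exact ⟨σ a, A (σ a) *ᵥ c, l, ⟨(hA _).mulVec_ne hc.ne, by rw [(hA _).ip_map, hc.iso], hc.l0, hc.skew⟩,
    by rw [mono_conj_sl A hA, rt_conj (hA _)]⟩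

/-- A product of `d z` of two power order makes `z` monomial. -/
theorem Ctx.nilp_two (hC : Ctx M) (h20 : (2 : F) = 0) {z : Mt F ι k} (hz : z ∈ M)
    (hsq : (z - 1) * (z - 1) = 0) {a : ι} {c : Fin k → F} {l : F} (hc : IsRt c l) {e : ℕ}
    (he : (sl a (rt c l) * z) ^ 2 ^ e = 1) : Mono z := by
  obtain ⟨p, hp⟩ := CharP.exists F
  haveI : Fact p.Prime := ⟨(CharP.char_is_prime_or_zero F p).resolve_right (CharP.char_ne_zero_of_finite F p)⟩
  have hp2 : p = 2 := by
    have : ((2 : ℕ) : F) = 0 := by exact_mod_cast h20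
    exact (Nat.prime_dvd_prime_iff_eq Fact.out Nat.prime_two).1 ((CharP.cast_eq_zero_iff F p 2).1 this)
  subst hp2
  haveI : Nonempty (Fin k) := ⟨⟨0, by have := hC.good.three; omega⟩⟩
  set d := sl a (rt c l) with hd
  set u := d * z with hu
  set u' := z * d with hu'
  set X := z - 1 with hX
  set T := nd a c * X + X * nd a c with hT
  have hdd : d * d = 1 := by rw [hd, sl_mul, rt_sq h20 hc.iso, sl_one]
  have hzz := sq_one_of_sq0 h20 hsq
  have h2m : ∀ Z : Mt F ι k, Z + Z = 0 := fun Z => by rw [← two_smul F, h20, zero_smul]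
  have hsum : u + u' = l • T := by
    rw [hu, hu', hd, sl_rt, show z = 1 + X by rw [hX]; abel, hT, smul_add]
    simp only [Matrix.add_mul, Matrix.mul_add, Matrix.one_mul, Matrix.mul_one, Matrix.smul_mul, Matrix.mul_smul, smul_add]
    linear_combination (norm := abel) h2m (1 + X + l • nd a c)
  have huu' : u * u' = 1 := by rw [hu, hu', ← Matrix.mul_assoc, Matrix.mul_assoc d, hzz, Matrix.mul_one, hdd]
  have hu'u : u' * u = 1 := by rw [hu, hu', ← Matrix.mul_assoc, Matrix.mul_assoc z, hdd, Matrix.mul_one, hzz]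
  have hcomm : Commute u u' := huu'.trans hu'u.symm
  have hT' : T = l⁻¹ • (u' * (u - 1) ^ 2) := by
    have e1 : u' * (u - 1) ^ 2 = u + u' := by
      rw [pow_two, show (u - 1) * (u - 1) = u * u + 1 - (u + u) by noncomm_ring, h2m, sub_zero, Matrix.mul_add,
        ← Matrix.mul_assoc, hu'u, Matrix.one_mul, Matrix.mul_one]
    rw [e1, hsum, smul_smul, inv_mul_cancel₀ hc.l0, one_smul]
  haveI : CharP (Mt F ι k) 2 := Matrix.charP 2
  have hTn : T ^ 2 ^ e = 0 := by
    rw [hT', smul_pow, (Commute.pow_right (Commute.sub_right hcomm.symm (Commute.one_right _)) 2).mul_pow, ← pow_mul,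
      mul_comm 2 (2 ^ e), pow_mul, sub_pow_char_pow_of_commute 2 e (Commute.one_right _), one_pow, he, sub_self,
      zero_pow two_ne_zero, Matrix.mul_zero, smul_zero]
  have hTC : rs a T * cb ({i // i ≠ a} → Fin k) c = cb ({i // i ≠ a} → Fin k) c * lk a c z := by
    rw [hT, map_add, map_mul, map_mul, rs_nd, Matrix.add_mul,
      show rs a X * (cb ({i // i ≠ a} → Fin k) c * (cb ({i // i ≠ a} → Fin k) c)ᴴ) * cb ({i // i ≠ a} → Fin k) c = rs a X * cb ({i // i ≠ a} → Fin k) c * ((cb ({i // i ≠ a} → Fin k) c)ᴴ * cb ({i // i ≠ a} → Fin k) c) by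
        simp only [Matrix.mul_assoc], cbH_cb, hc.iso, zero_smul, Matrix.mul_zero, add_zero, lk, ← hX]
    simp only [Matrix.mul_assoc]
  have hpow : ∀ m : ℕ, rs a (T ^ m) * cb ({i // i ≠ a} → Fin k) c = cb ({i // i ≠ a} → Fin k) c * lk a c z ^ m := fun m => by
    induction m with
    | zero => simp
    | succ m ih => rw [pow_succ, map_mul, Matrix.mul_assoc, hTC, ← Matrix.mul_assoc, ih, Matrix.mul_assoc, ← pow_succ]
  refine hC.nilp e hz hsq (a := a) hc (cb_cancel hc.ne (?_ : cb ({i // i ≠ a} → Fin k) c * lk a c z ^ 2 ^ e =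
    cb ({i // i ≠ a} → Fin k) c * (0 : Matrix ({i // i ≠ a} → Fin k) ({i // i ≠ a} → Fin k) F)))
  rw [← hpow, hTn, map_zero, Matrix.zero_mul, Matrix.mul_zero]

/-- A unipotent of index two commuting with an involution of a slot is monomial. -/
theorem Ctx.comm_slot (hC : Ctx M) (h20 : (2 : F) = 0) {z : Mt F ι k} (hz : z ∈ M) (hsq : (z - 1) * (z - 1) = 0)
    {a : ι} {q : Matrix (Fin k) (Fin k) F} (hq : IsU q) (hqq : q * q = 1) (hq1 : q ≠ 1)
    (hcom : Commute z (sl a q)) : Mono z := by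
  set Q := q - 1 with hQ
  have hQQ : Q * Q = 0 := by
    rw [hQ, Matrix.sub_mul, Matrix.mul_sub, Matrix.one_mul, Matrix.mul_one, hqq,
      show (1 : Matrix (Fin k) (Fin k) F) - q - (q - 1) = (2 : F) • (1 - q) by rw [two_smul]; abel, h20, zero_smul]
  have hQH : Qᴴ = Q := by
    rw [hQ, conjTranspose_sub, conjTranspose_one, ← Matrix.mul_one qᴴ, ← hqq, ← Matrix.mul_assoc,
      show qᴴ * q = 1 from hq, Matrix.one_mul]
  obtain ⟨v, hv⟩ : ∃ v, Q *ᵥ v ≠ 0 := by
    by_contra hh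
    push Not at hh
    exact hq1 (sub_eq_zero.1 (Matrix.ext_iff_mulVec.2 fun x => by rw [← hQ, hh, zero_mulVec]))
  have hiso : ip (Q *ᵥ v) (Q *ᵥ v) = 0 := by rw [ip_adj, hQH, mulVec_mulVec, hQQ, zero_mulVec, ip_zero_right]
  obtain ⟨l, hl, hl'⟩ := (hU F (Fin k)).exists_skew
  refine hC.nilp 0 hz hsq (a := a) (c := Q *ᵥ v) (l := l) ⟨hv, hiso, hl, hl'⟩ ?_
  rw [pow_zero, pow_one, lk]
  have hQt : cb ({i // i ≠ a} → Fin k) (Q *ᵥ v) = (Q ⊗ₖ (1 : Matrix ({i // i ≠ a} → Fin k) ({i // i ≠ a} → Fin k) F)) * cb ({i // i ≠ a} → Fin k) v := by rw [kr_cb, Matrix.mul_one]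
  have hc' : (Q ⊗ₖ (1 : Matrix ({i // i ≠ a} → Fin k) ({i // i ≠ a} → Fin k) F)) * rs a (z - 1) = rs a (z - 1) * (Q ⊗ₖ (1 : Matrix ({i // i ≠ a} → Fin k) ({i // i ≠ a} → Fin k) F)) := by
    rw [show Q ⊗ₖ (1 : Matrix ({i // i ≠ a} → Fin k) ({i // i ≠ a} → Fin k) F) = rs a (sl a q - 1) by
      rw [map_sub, map_one, rs_sl_self, hQ]
      exact Matrix.ext fun _ _ => by simp [Matrix.one_apply, Prod.ext_iff]; split_ifs <;> simp_all,
      ← map_mul, ← map_mul]
    exact congrArg _ (((hcom.symm.sub_right (Commute.one_right _)).sub_left ((Commute.one_left _)))).eq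
  rw [hQt, conjTranspose_mul, kr_conjT, hQH,
    show (cb ({i // i ≠ a} → Fin k) v)ᴴ * (Q ⊗ₖ (1 : Matrix ({i // i ≠ a} → Fin k) ({i // i ≠ a} → Fin k) F)) * rs a (z - 1) * ((Q ⊗ₖ (1 : Matrix ({i // i ≠ a} → Fin k) ({i // i ≠ a} → Fin k) F)) * cb ({i // i ≠ a} → Fin k) v) =
      (cb ({i // i ≠ a} → Fin k) v)ᴴ * ((Q ⊗ₖ (1 : Matrix ({i // i ≠ a} → Fin k) ({i // i ≠ a} → Fin k) F)) * rs a (z - 1)) * (Q ⊗ₖ (1 : Matrix ({i // i ≠ a} → Fin k) ({i // i ≠ a} → Fin k) F)) * cb ({i // i ≠ a} → Fin k) v by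
      simp only [Matrix.mul_assoc], hc']
  rw [Matrix.mul_assoc ((cb ({i // i ≠ a} → Fin k) v)ᴴ), Matrix.mul_assoc (rs a (z - 1)), kr_left_mul, hQQ, zero_kronecker, Matrix.mul_zero,
    Matrix.mul_zero, Matrix.zero_mul]

theorem exists_second (hG : Good F k) {c : Fin k → F} {l : F} (hc : IsRt c l) :
    ∃ c2 l2, IsRt c2 l2 ∧ rt c2 l2 ≠ rt c l ∧ Commute (rt c2 l2) (rt c l) := by
  rcases hG.big with ⟨r, hr0, hr1⟩ | h4
  · refine ⟨c, r * star r * l, ⟨hc.ne, hc.iso, mul_ne_zero (mul_ne_zero hr0 (star_ne_zero.2 hr0)) hc.l0,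
      by rw [star_mul', star_mul', star_star, hc.skew]; ring⟩, fun h => ?_, ?_⟩
    · rw [rt, rt, add_right_inj] at h
      have h1 : (r * star r * l - l) • dy c c = 0 := by rw [sub_smul, h, sub_self]
      exact hr1 (mul_right_cancel₀ hc.l0 ((sub_eq_zero.1 ((smul_eq_zero.1 h1).resolve_right (dy_self_ne hc.ne))).trans
        (one_mul l).symm))
    · show _ = _
      rw [rt_mul hc.iso, rt_mul hc.iso, add_comm]
  · obtain ⟨e, -, hce⟩ := (hU F (Fin k)).exists_partner hc.ne hc.iso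
    rw [hU_B] at hce
    have h2 := (hU F (Fin k)).finrank_mid c e
    rw [finrank_fintype_fun_eq_card, Fintype.card_fin] at h2
    obtain ⟨v, hv, hv0, hvv⟩ := (hU F (Fin k)).exists_iso_mem (U := (hU F (Fin k)).mid c e) (by omega)
    obtain ⟨hvc, hve⟩ := (hU F (Fin k)).mem_mid.1 hv
    simp only [hU_B] at hvc hve hvv
    refine ⟨v, l, ⟨hv0, hvv, hc.l0, hc.skew⟩, fun h => ?_, ?_⟩
    · have h1 := congrArg (· *ᵥ e) h
      simp only [rt_mulVec, ip_symm0 hve, ip_symm1 hce, mul_zero, mul_one, zero_smul, add_zero, left_eq_add,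
        smul_eq_zero] at h1
      exact h1.elim hc.l0 hc.ne
    · show _ = _
      simp only [rt, Matrix.add_mul, Matrix.mul_add, Matrix.one_mul, Matrix.mul_one, Matrix.smul_mul, Matrix.mul_smul,
        dy_mul, hvc, ip_symm0 hvc, zero_smul, smul_zero, add_zero]
      abel

theorem pow_induction_isU {n : Type*} [Fintype n] [DecidableEq n] {A : Matrix n n F} (h : IsU A) (m : ℕ) :
    IsU (A ^ m) := by
  induction m with
  | zero => simpa using isU_one
  | succ j ih => rw [pow_succ]; exact ih.mul h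

/-- Powers of `d z` fix what fixes both. -/
def Fix (d z y : Mt F ι k) : Prop := ∀ r : Mt F ι k, Commute r d → Commute r z → Commute r y

theorem Ctx.split_even (hC : Ctx M) (h20 : (2 : F) = 0) {z : Mt F ι k} (hz : RC M z) (hne : ¬ Mono z) {a : ι}
    {c : Fin k → F} {l : F} (hc : IsRt c l) :
    (∃ y ∈ M, Fix (sl a (rt c l)) z y ∧ y * sl a (rt c l) * yᴴ = z) ∨
    (∃ y ∈ M, Fix (sl a (rt c l)) z y ∧ ∃ (b : ι) (f : Fin k → F) (m : F), b ≠ a ∧ IsRt f m ∧
      y * z * yᴴ = sl b (rt f m) ∧ Commute z (sl a (rt c l) * sl b (rt f m))) := by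
  set d := sl a (rt c l) with hd
  have hdM : d ∈ M := hC.ov.slot a _ (rt_isSU hc.iso hc.skew)
  have hzM := hz.mem hC
  have hdd : d * d = 1 := by rw [hd, sl_mul, rt_sq h20 hc.iso, sl_one]
  have hzz := sq_one_of_sq0 h20 (hz.sq0 hC)
  have hzH : zᴴ = z := by
    rw [← Matrix.mul_one zᴴ, ← hzz, ← Matrix.mul_assoc, show zᴴ * z = 1 from hC.ov.isU _ hzM, Matrix.one_mul]
  have hdH : dᴴ = d := by
    rw [← Matrix.mul_one dᴴ, ← hdd, ← Matrix.mul_assoc, show dᴴ * d = 1 from hC.ov.isU _ hdM, Matrix.one_mul]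
  have hT : ∀ m : ℕ, ((d * z) ^ m)ᴴ = (z * d) ^ m := fun m => by rw [conjTranspose_pow, conjTranspose_mul, hzH, hdH]
  have hT' : ∀ m : ℕ, ((z * d) ^ m)ᴴ = (d * z) ^ m := fun m => by rw [conjTranspose_pow, conjTranspose_mul, hzH, hdH]
  rcases dihedral_split hdd hzz with ⟨m, hm⟩ | ⟨m, e, he, h1, h2, h3⟩
  · refine Or.inl ⟨(d * z) ^ m, hC.ov.pow a (hC.ov.mul _ hdM _ hzM) m, fun r h h' => (h.mul_right h').pow_right m, ?_⟩
    rw [hT]; exact hm.symm
  right
  set y := (z * d) ^ m with hy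
  have hyM : y ∈ M := hC.ov.pow a (hC.ov.mul _ hzM _ hdM) m
  set u := (d * z) ^ (2 * m + 1) with hu
  have hs : d * u = y * z * yᴴ := by rw [hy, hT']; exact h1
  have hs' := hz.conj hC hyM
  have hmono : Mono (y * z * yᴴ) := hC.nilp_two h20 (hs'.mem hC) (hs'.sq0 hC) hc (e := e) (by
    rw [← hs, ← Matrix.mul_assoc, ← hd, hdd, Matrix.one_mul]; exact h2)
  obtain ⟨b, f, n, hf, hbf⟩ := hs'.root hC hmono
  have hu' : u = d * sl b (rt f n) := by rw [← hbf, ← hs, ← Matrix.mul_assoc, hdd, Matrix.one_mul]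
  set w := u ^ 2 ^ (e - 1) with hw
  have hw2 : w * w = 1 := by
    rw [hw, ← pow_add, ← two_mul, ← pow_succ', Nat.sub_add_cancel he]; exact h2
  have hwz : Commute z w := by
    have e1 : z * (d * z) = z * d * z := (Matrix.mul_assoc _ _ _).symm
    have e2 : SemiconjBy z w (wᴴ) := by
      have h := SemiconjBy.pow_right (SemiconjBy.pow_right (show SemiconjBy z (d * z) (z * d) from e1) (2 * m + 1))
        (2 ^ (e - 1))
      rwa [← hT, ← conjTranspose_pow, ← hu, ← hw] at h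
    have e3 : wᴴ = w := by
      have hwM : w ∈ M := hC.ov.pow a (hC.ov.pow a (hC.ov.mul _ hdM _ hzM) _) _
      rw [← Matrix.mul_one wᴴ, ← hw2, ← Matrix.mul_assoc, show wᴴ * w = 1 from hC.ov.isU _ hwM, Matrix.one_mul]
    rw [e3] at e2
    exact e2
  have hba : b ≠ a := by
    rintro rfl
    have hq : w = sl b ((rt c l * rt f n) ^ 2 ^ (e - 1)) := by
      rw [hw, hu', hd, sl_mul]
      induction 2 ^ (e - 1) with
      | zero => simp [sl_one]
      | succ j ih => rw [pow_succ, pow_succ, ih, sl_mul]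
    refine hne (hC.comm_slot h20 hzM (hz.sq0 hC) (a := b) ?_ ?_ ?_ (hq ▸ hwz))
    · exact pow_induction_isU ((rt_isSU hc.iso hc.skew).1.mul (rt_isSU hf.iso hf.skew).1) _
    · refine sl_inj (by have := hC.good.three; omega) b ?_
      rw [← sl_mul, sl_one, ← hq, hw2]
    · intro h
      rw [h, sl_one] at hq
      exact h3 hq
  refine ⟨y, hyM, fun r h h' => (h'.mul_right h).pow_right m, b, f, n, hba, hf, hbf, ?_⟩
  have hu2 : u * u = 1 := by
    rw [hu', Matrix.mul_assoc, ← Matrix.mul_assoc (sl b _) d, hd, sl_comm hba, Matrix.mul_assoc, ← Matrix.mul_assoc,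
      sl_mul, sl_mul, rt_sq h20 hc.iso, rt_sq h20 hf.iso, sl_one, sl_one, Matrix.mul_one]
  have he1 : e - 1 = 0 := by
    by_contra h0
    refine h3 ?_
    rw [hw, ← Nat.sub_add_cancel (Nat.one_le_iff_ne_zero.2 h0), pow_succ', pow_mul, pow_two, hu2, one_pow]
  rw [← hu']
  rw [hw, he1, pow_zero, pow_one] at hwz
  exact hwz

/-- Every transvection of a slot is conjugate to a non-monomial conjugate within the group they generate. -/
theorem Ctx.partner (hC : Ctx M) (h20 : (2 : F) = 0) {z : Mt F ι k} (hz : RC M z) (hne : ¬ Mono z) {a : ι}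
    {c : Fin k → F} {l : F} (hc : IsRt c l) :
    ∃ y ∈ M, Fix (sl a (rt c l)) z y ∧ y * sl a (rt c l) * yᴴ = z := by
  refine (hC.split_even h20 hz hne hc).resolve_right ?_
  rintro ⟨y, hy, hyfix, b, f, m, hba, hf, hys, hzw⟩
  have hk3 := hC.good.three
  obtain ⟨c2, l2, hc2, hne2, hcomm⟩ := exists_second hC.good hc
  set w := sl a (rt c l) * sl b (rt f m) with hw
  have hwd : Commute w (sl a (rt c l)) := (Commute.refl _).mul_left (sl_comm hba _ _)
  have hwd2 : Commute w (sl a (rt c2 l2)) := Commute.mul_left (by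
    show _ = _
    rw [sl_mul, sl_mul, hcomm.symm.eq]) (sl_comm hba _ _)
  have hyw : Commute w y := hyfix w hwd hzw.symm
  have hyU := hC.ov.isU _ hy
  obtain ⟨y2, hy2, hy2fix, q, x, n, hx, hmap, halt⟩ : ∃ y2 ∈ M, Fix (sl a (rt c2 l2)) z y2 ∧
      ∃ (q : ι) (x : Fin k → F) (n : F), IsRt x n ∧ y2 * z * y2ᴴ = sl q (rt x n) ∧
      (sl q (rt x n) = sl a (rt c2 l2) ∨ (q ≠ a ∧ Commute z (sl a (rt c2 l2) * sl q (rt x n)))) := by
    rcases hC.split_even h20 hz hne hc2 with ⟨y2, hy2, hfix, h⟩ | ⟨y2, hy2, hfix, q, x, n, hqa, hx, h, hcz⟩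
    · refine ⟨y2ᴴ, hC.ov.inv _ hy2, fun r h1 h2 => ?_, a, c2, l2, hc2, ?_, Or.inl rfl⟩
      · have h3 := hfix r h1 h2
        refine commute_of_conj_eq ?_ ?_ |>.symm
        · exact (hC.ov.isU _ hy2).conjT
        · rw [conjTranspose_conjTranspose, Matrix.mul_assoc, h3.eq, ← Matrix.mul_assoc,
            show y2ᴴ * y2 = 1 from hC.ov.isU _ hy2, Matrix.one_mul]
      · rw [← h, conjTranspose_conjTranspose]
        simp only [Matrix.mul_assoc, show y2ᴴ * y2 = 1 from hC.ov.isU _ hy2, Matrix.mul_one]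
        rw [← Matrix.mul_assoc, show y2ᴴ * y2 = 1 from hC.ov.isU _ hy2, Matrix.one_mul]
    · exact ⟨y2, hy2, hfix, q, x, n, hx, h, Or.inr ⟨hqa, hcz⟩⟩
  set h := y2 * yᴴ with hh
  have hhM : h ∈ M := hC.ov.mul _ hy2 _ (hC.ov.inv _ hy)
  have hhU := hC.ov.isU _ hhM
  have hhmap : h * sl b (rt f m) * hᴴ = sl q (rt x n) := by
    rw [hh, ← hys, conjTranspose_mul, conjTranspose_conjTranspose, ← hmap]
    simp only [Matrix.mul_assoc]
    rw [← Matrix.mul_assoc yᴴ y, show yᴴ * y = 1 from hyU, Matrix.one_mul, ← Matrix.mul_assoc yᴴ y,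
      show yᴴ * y = 1 from hyU, Matrix.one_mul]
  have hwyH : Commute w yᴴ := by
    refine commute_of_conj_eq hyU.conjT ?_ |>.symm
    rw [conjTranspose_conjTranspose, Matrix.mul_assoc, hyw.eq, ← Matrix.mul_assoc, show yᴴ * y = 1 from hyU,
      Matrix.one_mul]
  have hwh : h * w * hᴴ = w := conj_eq_of_commute hhU ((hy2fix w hwd2 hzw.symm).mul_right hwyH).symm
  obtain ⟨A, σ, hA, hrep⟩ := hC.map_root hhM hf hx hhmap
  rw [hw, hhU.conj_cancel, hhmap, hrep, mono_conj_sl A hA, rt_conj (hA _)] at hwh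
  set a' := σ a
  set xa := A a' *ᵥ c
  have hxa : IsRt xa l := ⟨(hA _).mulVec_ne hc.ne, by rw [(hA _).ip_map, hc.iso], hc.l0, hc.skew⟩
  have hqa' : q ≠ a' := by
    intro e
    have h1 := hhmap
    rw [hrep, mono_conj_sl A hA, rt_conj (hA _)] at h1
    have h2 := sl_inj_slot (by omega) (c := A (σ b) *ᵥ f) (l := m)
      ⟨(hA _).mulVec_ne hf.ne, by rw [(hA _).ip_map, hf.iso], hf.l0, hf.skew⟩ h1
    exact hba (σ.injective (h2.trans e))
  rw [sl_comm hqa'.symm] at hwh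
  rcases slot_pair hk3 hqa' hba.symm hx hxa hc hf hwh with ⟨hqa, he⟩ | ⟨hqb, he⟩
  · rcases halt with h1 | ⟨hqne, -⟩
    · rw [hqa, he] at h1
      exact hne2 (sl_inj (by omega) a h1).symm
    · exact hqne hqa
  · rcases halt with h1 | ⟨hqne, hz2⟩
    · rw [hqb, he] at h1
      exact hba (sl_inj_slot (by omega) hf h1)
    · rw [hqb, he] at hz2
      refine hne (hC.comm_slot h20 (hz.mem hC) (hz.sq0 hC) (a := a) (q := rt c l * rt c2 l2) ?_ ?_ ?_ ?_)
      · exact (rt_isSU hc.iso hc.skew).1.mul (rt_isSU hc2.iso hc2.skew).1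
      · rw [Matrix.mul_assoc, ← Matrix.mul_assoc (rt c2 l2), hcomm.eq, Matrix.mul_assoc (rt c l) (rt c2 l2),
          rt_sq h20 hc2.iso, Matrix.mul_one, rt_sq h20 hc.iso]
      · intro h0
        refine hne2 ?_
        rw [← Matrix.one_mul (rt c2 l2), ← rt_sq h20 hc.iso l, Matrix.mul_assoc, h0, Matrix.mul_one]
      · have h2 := hzw.mul_right hz2
        rw [hw, Matrix.mul_assoc, ← Matrix.mul_assoc (sl b _), sl_comm hba, Matrix.mul_assoc (sl a (rt c2 l2)),
          sl_mul b, rt_sq h20 hf.iso, sl_one, Matrix.mul_one, sl_mul] at h2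
        exact h2

theorem krn_comm {A B : ι → Matrix (Fin k) (Fin k) F} (h : ∀ i, Commute (A i) (B i)) : Commute (krn A) (krn B) := by
  show _ = _
  rw [krn_mul, krn_mul]
  congr 1
  exact funext fun i => (h i).eq

/-- Commuting with a tensor product having a transvection as a factor. -/
theorem Ctx.cen (hC : Ctx M) (h20 : (2 : F) = 0) {z : Mt F ι k} (hz : RC M z)
    {A : ι → Matrix (Fin k) (Fin k) F} (hA : ∀ i, IsU (A i)) {b : ι} {c : Fin k → F} {l : F} (hc : IsRt c l)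
    (hb : A b = rt c l) (hcom : Commute z (krn A)) : Mono z := by
  by_contra hne
  have hk3 := hC.good.three
  haveI : Nonempty (Fin k) := ⟨⟨0, by omega⟩⟩
  obtain ⟨c2, l2, hc2, hne2, hcomm⟩ := exists_second hC.good hc
  have hslc : ∀ X : Matrix (Fin k) (Fin k) F, Commute X (rt c l) → Commute (krn A) (sl b X) := fun X hX =>
    krn_comm fun i => by
      rcases eq_or_ne i b with rfl | hi
      · rw [Function.update_self, hb]; exact hX.symm
      · rw [Function.update_of_ne hi]; exact Commute.one_right _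
  obtain ⟨y, hy, hyfix, hyd⟩ := hC.partner h20 hz hne (a := b) hc
  obtain ⟨y2, hy2, hy2fix, hy2d⟩ := hC.partner h20 hz hne (a := b) hc2
  have c1 := hyfix (krn A) (hslc _ (Commute.refl _)) hcom.symm
  have c2' := hy2fix (krn A) (hslc _ hcomm) hcom.symm
  have hy2U := hC.ov.isU _ hy2
  set h := y2ᴴ * y with hh
  have hhM : h ∈ M := hC.ov.mul _ (hC.ov.inv _ hy2) _ hy
  have hhU := hC.ov.isU _ hhM
  have hmap : h * sl b (rt c l) * hᴴ = sl b (rt c2 l2) := by
    rw [hh, conjTranspose_mul, conjTranspose_conjTranspose,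
      show y2ᴴ * y * sl b (rt c l) * (yᴴ * y2) = y2ᴴ * (y * sl b (rt c l) * yᴴ) * y2 by simp only [Matrix.mul_assoc],
      hyd, ← hy2d]
    simp only [Matrix.mul_assoc, show y2ᴴ * y2 = 1 from hy2U, Matrix.mul_one]
    rw [← Matrix.mul_assoc, show y2ᴴ * y2 = 1 from hy2U, Matrix.one_mul]
  have hfixA : h * krn A * hᴴ = krn A := by
    refine conj_eq_of_commute hhU (Commute.symm (Commute.mul_right ?_ c1))
    refine commute_of_conj_eq hy2U.conjT ?_ |>.symm
    rw [conjTranspose_conjTranspose, Matrix.mul_assoc, c2'.eq, ← Matrix.mul_assoc, show y2ᴴ * y2 = 1 from hy2U,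
      Matrix.one_mul]
  obtain ⟨B, σ, hB, hrep⟩ := hC.map_root hhM hc hc2 hmap
  rw [hrep, mono_conj_sl B hB] at hmap
  rw [rt_conj (hB _)] at hmap
  have hσ : σ b = b := sl_inj_slot (by omega)
    (c := B (σ b) *ᵥ c) (l := l) ⟨(hB _).mulVec_ne hc.ne, by rw [(hB _).ip_map, hc.iso], hc.l0, hc.skew⟩ hmap
  rw [hσ] at hmap
  have hrt := sl_inj (by omega) b hmap
  rw [hrep, mono_conjT, ← Matrix.mul_one (krn A), ← pm_one, mono_mul, mono_mul, mul_one, mul_inv_cancel, pm_one,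
    Matrix.mul_one, Matrix.mul_one] at hfixA
  have h1 := congrArg (rs b) hfixA
  rw [rs_krn, rs_krn] at h1
  have hσi : σ⁻¹ b = b := by conv_lhs => rw [← hσ]; simp
  simp only [hσi, hσ, hb, rt_conj (hB b), hrt] at h1
  obtain ⟨s, hs⟩ := kr_prop (IsU.krn fun i => ((hB _).mul (hA _)).mul (hB _).conjT) h1
  exact hne2 (rt_prop_eq (by simpa using hk3) hs)

theorem two_roots_eq_krn {a b : ι} (hab : a ≠ b) (P Q : Matrix (Fin k) (Fin k) F) :
    sl a P * sl b Q = krn fun i => if i = a then P else if i = b then Q else 1 := by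
  rw [sl, sl, krn_mul]
  congr 1
  funext i
  rcases eq_or_ne i a with rfl | hia
  · simp [Function.update_of_ne hab]
  rcases eq_or_ne i b with rfl | hib
  · simp [Function.update_of_ne hia, hia]
  · simp [Function.update_of_ne hia, Function.update_of_ne hib, hia, hib]

/-- The centraliser of a product of two transvections. -/
theorem Ctx.centJ (hC : Ctx M) (h20 : (2 : F) = 0) {g : Mt F ι k} (hg : g ∈ M) {a b : ι} (hab : a ≠ b)
    {c f : Fin k → F} {l m : F} (hc : IsRt c l) (hf : IsRt f m)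
    (h : Commute g (sl a (rt c l) * sl b (rt f m))) : Mono g := by
  have hgU := hC.ov.isU _ hg
  refine hC.mono_of_image hg (a := a) hc (hC.cen h20 ⟨g, hg, a, c, l, hc, rfl⟩
    (A := fun i => if i = a then rt c l else if i = b then rt f m else 1) (fun i => ?_) (b := a) hc (if_pos rfl) ?_)
  · split_ifs
    exacts [(rt_isSU hc.iso hc.skew).1, (rt_isSU hf.iso hf.skew).1, isU_one]
  · rw [← two_roots_eq_krn hab]
    have h1 := commute_conj hgU (show Commute (sl a (rt c l)) (sl a (rt c l) * sl b (rt f m)) from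
      (Commute.refl _).mul_right (sl_comm hab _ _))
    rwa [conj_eq_of_commute hgU h] at h1

theorem sqrt_scale (h20 : (2 : F) = 0) {B : Matrix (Fin k) (Fin k) F} (hk : 0 < k) (hB : IsU B) {m : F}
    (h : B * B = m • 1) : ∃ s : F, star s * s = 1 ∧ (s • B) * (s • B) = 1 := by
  haveI : Nonempty (Fin k) := ⟨⟨0, hk⟩⟩
  obtain ⟨p, hp⟩ := CharP.exists F
  haveI : Fact p.Prime := ⟨(CharP.char_is_prime_or_zero F p).resolve_right (CharP.char_ne_zero_of_finite F p)⟩
  have hp2 : p = 2 := by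
    have : ((2 : ℕ) : F) = 0 := by exact_mod_cast h20
    exact (Nat.prime_dvd_prime_iff_eq Fact.out Nat.prime_two).1 ((CharP.cast_eq_zero_iff F p 2).1 this)
  subst hp2
  have hU2 : IsU (m • (1 : Matrix (Fin k) (Fin k) F)) := h ▸ hB.mul hB
  rw [IsU, conjTranspose_smul, conjTranspose_one, smul_mul_smul_comm, Matrix.one_mul] at hU2
  have hmm : star m * m = 1 := smul_one_inj (β := Fin k) (hU2.trans (one_smul F _).symm)
  have hm0 : m ≠ 0 := right_ne_zero_of_mul_eq_one hmm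
  obtain ⟨s, hs⟩ := (Finite.injective_iff_surjective.1 (frobenius F 2).injective) m⁻¹
  rw [frobenius_def] at hs
  refine ⟨s, ?_, by rw [smul_mul_smul_comm, h, smul_smul, ← pow_two, hs, inv_mul_cancel₀ hm0, one_smul]⟩
  apply (frobenius F 2).injective
  rw [frobenius_def, frobenius_def, mul_pow, ← star_pow, hs, one_pow, star_inv₀, ← _root_.mul_inv_rev,
    mul_comm, hmm, inv_one]

theorem mono_sq_fix (hk : 2 ≤ k) {A : ι → Matrix (Fin k) (Fin k) F} (hA : ∀ i, IsU (A i)) {σ : Equiv.Perm ι}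
    (h : (krn A * pm σ) * (krn A * pm σ) = 1) :
    (∀ i, σ (σ i) = i) ∧ ∀ i, σ i = i → ∃ m : F, A i * A i = m • 1 := by
  haveI : Nonempty (Fin k) := ⟨⟨0, by omega⟩⟩
  rw [mono_mul] at h
  have hs : σ * σ = 1 := rep_perm hk (B := fun _ => 1) (fun _ => isU_one)
    (by rw [h, krn_one, Matrix.one_mul, pm_one])
  refine ⟨fun i => Equiv.congr_fun hs i, fun i hi => ?_⟩
  rw [hs, pm_one, Matrix.mul_one, ← krn_one] at h
  have h1 := congrArg (rs i) h
  rw [rs_krn, rs_krn, show σ⁻¹ i = i by conv_lhs => rw [← hi]; simp] at h1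
  exact kr_prop (IsU.krn fun j => (hA _).mul (hA _)) h1

/-- Images of products of two transvections with a fixed slot. -/
theorem Ctx.imageJ_fix (hC : Ctx M) (h20 : (2 : F) = 0) {g : Mt F ι k} (hg : g ∈ M) {a b : ι} (hab : a ≠ b)
    {c f : Fin k → F} {l m : F} (hc : IsRt c l) (hf : IsRt f m) {A : ι → Matrix (Fin k) (Fin k) F}
    (hA : ∀ i, IsU (A i)) {σ : Equiv.Perm ι}
    (hz : g * (sl a (rt c l) * sl b (rt f m)) * gᴴ = krn A * pm σ) {p : ι} (hp : σ p = p) : Mono g := by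
  have hk3 := hC.good.three
  have hgU := hC.ov.isU _ hg
  set j := sl a (rt c l) * sl b (rt f m) with hj
  have hjj : j * j = 1 := by
    rw [hj, Matrix.mul_assoc, ← Matrix.mul_assoc (sl b _), sl_comm hab.symm, Matrix.mul_assoc, sl_mul b,
      ← Matrix.mul_assoc, sl_mul, rt_sq h20 hc.iso, rt_sq h20 hf.iso, sl_one, sl_one, Matrix.one_mul]
  have hzz : (krn A * pm σ) * (krn A * pm σ) = 1 := by
    rw [← hz, ← hgU.conj_cancel, hjj, Matrix.mul_one, hgU.inv_right]
  obtain ⟨m', hm'⟩ := (mono_sq_fix (by omega) hA hzz).2 p hp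
  obtain ⟨s, hs, hss⟩ := sqrt_scale h20 (by omega) (hA p) hm'
  set q := s • A p with hq
  obtain ⟨x, n, hx, hqx⟩ : ∃ (x : Fin k → F) (n : F), IsRt x n ∧ q *ᵥ x = x := by
    by_cases hq1 : q = 1
    · obtain ⟨x, n, hx⟩ := exists_rt (F := F) (κ := Fin k) (by simpa using hk3)
      exact ⟨x, n, hx, by rw [hq1, one_mulVec]⟩
    obtain ⟨v, hv⟩ : ∃ v, q *ᵥ v ≠ v := by
      by_contra hh
      push Not at hh
      exact hq1 (Matrix.ext_iff_mulVec.2 fun x => by rw [hh, one_mulVec])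
    obtain ⟨n, hn, hn'⟩ := (hU F (Fin k)).exists_skew
    refine ⟨q *ᵥ v - v, n, ⟨sub_ne_zero.2 hv, ?_, hn, hn'⟩, ?_⟩
    · have e : ip v (q *ᵥ v) = ip (q *ᵥ v) v := by
        have h1 := ((hA p).smul hs).ip_map v (q *ᵥ v)
        rw [← hq, mulVec_mulVec, hss, one_mulVec] at h1
        exact h1.symm
      rw [ip_sub_left, ip_sub_right, ip_sub_right, ((hA p).smul hs).ip_map, e]
      linear_combination (ip v v - ip (q *ᵥ v) v) * h20
    · rw [mulVec_sub, mulVec_mulVec, hss, one_mulVec, ← sub_eq_zero,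
        show v - q *ᵥ v - (q *ᵥ v - v) = (2 : F) • (v - q *ᵥ v) by rw [two_smul]; abel, h20, zero_smul]
  have hr : A p * rt x n * (A p)ᴴ = rt x n := by
    have h1 : q * rt x n * qᴴ = rt x n := by rw [rt_conj ((hA p).smul hs), hqx]
    rw [hq, conjTranspose_smul, Matrix.smul_mul, smul_mul_smul_comm, mul_comm, hs, one_smul] at h1
    exact h1
  have hrM : sl p (rt x n) ∈ M := hC.ov.slot p _ (rt_isSU hx.iso hx.skew)
  have hcm : Commute (sl p (rt x n)) (krn A * pm σ) := by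
    refine (commute_of_conj_eq ((IsU.krn hA).mul (isU_pm σ)) ?_).symm
    rw [mono_conj_sl A hA, hp, hr]
  rw [← hz] at hcm
  have h2 := commute_conj hgU.conjT hcm
  rw [conjTranspose_conjTranspose, show gᴴ * (g * j * gᴴ) * g = j by
    simp only [Matrix.mul_assoc, show gᴴ * g = 1 from hgU, Matrix.mul_one]
    rw [← Matrix.mul_assoc, show gᴴ * g = 1 from hgU, Matrix.one_mul]] at h2
  have h3 := hC.centJ h20 (hC.ov.mul _ (hC.ov.mul _ (hC.ov.inv _ hg) _ hrM) _ hg) hab hc hf h2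
  have h4 := (hC.mono_of_image (hC.ov.inv _ hg) hx (a := p) (by rwa [conjTranspose_conjTranspose])).conjT
  rwa [conjTranspose_conjTranspose] at h4

theorem perm_pair_comm {τ₁ τ₂ : Equiv.Perm ι} {a b : ι} (h₁ : τ₁ a = a ∧ τ₁ b = b ∨ τ₁ a = b ∧ τ₁ b = a)
    (h₂ : τ₂ a = a ∧ τ₂ b = b ∨ τ₂ a = b ∧ τ₂ b = a) : (τ₁ * τ₂ * τ₁⁻¹ * τ₂⁻¹) a = a := by
  have inv : ∀ τ : Equiv.Perm ι, (τ a = a ∧ τ b = b ∨ τ a = b ∧ τ b = a) →
      (τ⁻¹ a = a ∧ τ⁻¹ b = b ∨ τ⁻¹ a = b ∧ τ⁻¹ b = a) := by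
    intro τ h
    rcases h with ⟨h, h'⟩ | ⟨h, h'⟩
    · exact Or.inl ⟨by rw [Equiv.Perm.inv_eq_iff_eq, h], by rw [Equiv.Perm.inv_eq_iff_eq, h']⟩
    · exact Or.inr ⟨by rw [Equiv.Perm.inv_eq_iff_eq, h'], by rw [Equiv.Perm.inv_eq_iff_eq, h]⟩
  have i₁ := inv τ₁ h₁
  have i₂ := inv τ₂ h₂
  show τ₁ (τ₂ (τ₁⁻¹ (τ₂⁻¹ a))) = a
  rcases h₁ with ⟨p, p'⟩ | ⟨p, p'⟩ <;> rcases h₂ with ⟨q, q'⟩ | ⟨q, q'⟩ <;> rcases i₁ with ⟨r, r'⟩ | ⟨r, r'⟩ <;>
    rcases i₂ with ⟨t, t'⟩ | ⟨t, t'⟩ <;> (have h5 := τ₁.apply_symm_apply a; have h6 := τ₂.apply_symm_apply a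
                                          have h7 := τ₁.apply_symm_apply b; have h8 := τ₂.apply_symm_apply b
                                          simp_all)

/-- An element mapping a product of two transvections to a monomial element is monomial. -/
theorem Ctx.imageJ (hC : Ctx M) (h20 : (2 : F) = 0) {g : Mt F ι k} (hg : g ∈ M) {a b : ι} (hab : a ≠ b)
    {c f : Fin k → F} {l m : F} (hc : IsRt c l) (hf : IsRt f m)
    (h : Mono (g * (sl a (rt c l) * sl b (rt f m)) * gᴴ)) : Mono g := by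
  obtain ⟨A, σ, hA, hz⟩ := h
  by_cases hfix : ∃ p, σ p = p
  · obtain ⟨p, hp⟩ := hfix
    exact hC.imageJ_fix h20 hg hab hc hf hA hz hp
  push Not at hfix
  have hk3 := hC.good.three
  have hgU := hC.ov.isU _ hg
  set j := sl a (rt c l) * sl b (rt f m) with hj
  have hZU : IsU (krn A * pm σ) := (IsU.krn hA).mul (isU_pm σ)
  have hjj : j * j = 1 := by
    rw [hj, Matrix.mul_assoc, ← Matrix.mul_assoc (sl b _), sl_comm hab.symm, Matrix.mul_assoc, sl_mul b,
      ← Matrix.mul_assoc, sl_mul, rt_sq h20 hc.iso, rt_sq h20 hf.iso, sl_one, sl_one, Matrix.one_mul]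
  have hzz : (krn A * pm σ) * (krn A * pm σ) = 1 := by
    rw [← hz, ← hgU.conj_cancel, hjj, Matrix.mul_one, hgU.inv_right]
  set q := σ a with hq
  have hqa : q ≠ a := hfix a
  let E : Matrix (Fin k) (Fin k) F → Mt F ι k := fun P => sl a P * sl q (A q * P * (A q)ᴴ)
  have hEM : ∀ P, IsSU P → E P ∈ M := fun P hP => hC.ov.mul _ (hC.ov.slot a P hP) _ (hC.ov.slot q _
    ⟨((hA q).mul hP.1).mul (hA q).conjT, by rw [det_mul, det_mul, hP.2, mul_one, ← det_mul, (hA q).inv_right, det_one]⟩)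
  have hEZ : ∀ P, Commute (E P) (krn A * pm σ) := fun P => by
    refine (commute_of_conj_eq hZU ?_).symm
    have e1 : ∀ X : Mt F ι k, (krn A * pm σ) * ((krn A * pm σ) * X * (krn A * pm σ)ᴴ) * (krn A * pm σ)ᴴ = X := fun X => by
      simp only [← Matrix.mul_assoc, hzz, Matrix.one_mul]
      rw [Matrix.mul_assoc X, ← conjTranspose_mul, hzz, conjTranspose_one, Matrix.mul_one]
    have e2 : sl q (A q * P * (A q)ᴴ) = (krn A * pm σ) * sl a P * (krn A * pm σ)ᴴ := (mono_conj_sl A hA σ a P).symm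
    show krn A * pm σ * (sl a P * sl q (A q * P * (A q)ᴴ)) * (krn A * pm σ)ᴴ = _
    rw [hZU.conj_cancel, ← e2, show (krn A * pm σ) * sl q (A q * P * (A q)ᴴ) * (krn A * pm σ)ᴴ = sl a P from
      (by rw [e2]; exact e1 _), sl_comm hqa]
  have hback : ∀ P, IsSU P → ∃ (B : ι → Matrix (Fin k) (Fin k) F) (τ : Equiv.Perm ι), (∀ i, IsU (B i)) ∧
      gᴴ * E P * g = krn B * pm τ ∧ (τ a = a ∧ τ b = b ∨ τ a = b ∧ τ b = a) := by
    intro P hP
    have h2 := commute_conj hgU.conjT (hEZ P)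
    rw [← hz, conjTranspose_conjTranspose, show gᴴ * (g * j * gᴴ) * g = j by
      simp only [Matrix.mul_assoc, show gᴴ * g = 1 from hgU, Matrix.mul_one]
      rw [← Matrix.mul_assoc, show gᴴ * g = 1 from hgU, Matrix.one_mul]] at h2
    have hM' := hC.ov.mul _ (hC.ov.mul _ (hC.ov.inv _ hg) _ (hEM P hP)) _ hg
    obtain ⟨B, τ, hB, hrep⟩ := hC.centJ h20 hM' hab hc hf h2
    refine ⟨B, τ, hB, hrep, ?_⟩
    have h3 := conj_eq_of_commute (hC.ov.isU _ hM') h2
    rw [hrep, hj, ((IsU.krn hB).mul (isU_pm τ)).conj_cancel, mono_conj_sl B hB, mono_conj_sl B hB,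
      rt_conj (hB _), rt_conj (hB _)] at h3
    have hr1 : IsRt (B (τ a) *ᵥ c) l := ⟨(hB _).mulVec_ne hc.ne, by rw [(hB _).ip_map, hc.iso], hc.l0, hc.skew⟩
    have hr2 : IsRt (B (τ b) *ᵥ f) m := ⟨(hB _).mulVec_ne hf.ne, by rw [(hB _).ip_map, hf.iso], hf.l0, hf.skew⟩
    have hne : τ a ≠ τ b := fun e => hab (τ.injective e)
    have i1 := slot_pair hk3 hne hab hr1 hr2 hc hf h3
    rw [sl_comm hne] at h3
    have i2 := slot_pair hk3 hne.symm hab hr2 hr1 hc hf h3
    rcases i1 with ⟨p1, -⟩ | ⟨p1, -⟩ <;> rcases i2 with ⟨p2, -⟩ | ⟨p2, -⟩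
    · exact absurd (p1.trans p2.symm) hne
    · exact Or.inl ⟨p1, p2⟩
    · exact Or.inr ⟨p1, p2⟩
    · exact absurd (p1.trans p2.symm) hne
  obtain ⟨x, n, hx⟩ := exists_rt (F := F) (κ := Fin k) (by simpa using hk3)
  obtain ⟨P, Q, hP, hQ, hPQ⟩ := exists_commutator (κ := Fin k) (by simpa using hk3) hx
  have hEmul : ∀ X Y, E X * E Y = E (X * Y) := fun X Y => by
    show sl a X * sl q _ * (sl a Y * sl q _) = _
    rw [Matrix.mul_assoc, ← Matrix.mul_assoc (sl q _), sl_comm hqa, Matrix.mul_assoc (sl a Y), ← Matrix.mul_assoc,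
      sl_mul, sl_mul]
    congr 2
    simp only [Matrix.mul_assoc]
    rw [← Matrix.mul_assoc (A q)ᴴ (A q), show (A q)ᴴ * A q = 1 from hA q, Matrix.one_mul]
  have hEH : ∀ X, (E X)ᴴ = E Xᴴ := fun X => by
    show (sl a X * sl q _)ᴴ = _
    rw [conjTranspose_mul, sl_conjT, sl_conjT, sl_comm hqa, conjTranspose_mul, conjTranspose_mul,
      conjTranspose_conjTranspose, ← Matrix.mul_assoc (A q)]
  have hgmul : ∀ X Y : Mt F ι k, (gᴴ * X * g) * (gᴴ * Y * g) = gᴴ * (X * Y) * g := fun X Y => by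
    simp only [Matrix.mul_assoc]
    rw [← Matrix.mul_assoc g gᴴ, hgU.inv_right, Matrix.one_mul]
  obtain ⟨B1, τ1, hB1, e1, ht1⟩ := hback P hP
  obtain ⟨B2, τ2, hB2, e2, ht2⟩ := hback Q hQ
  have hrep : gᴴ * E (rt x n) * g = (krn B1 * pm τ1) * (krn B2 * pm τ2) * (krn B1 * pm τ1)ᴴ * (krn B2 * pm τ2)ᴴ := by
    rw [← hPQ, ← hEmul, ← hEmul, ← hEmul, ← hEH, ← hEH, ← hgmul, ← hgmul, ← hgmul, ← e1, ← e2]
    simp only [conjTranspose_mul, conjTranspose_conjTranspose, Matrix.mul_assoc]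
  rw [mono_conjT, mono_conjT, mono_mul, mono_mul, mono_mul] at hrep
  have hx' : IsRt (A q *ᵥ x) n := ⟨(hA q).mulVec_ne hx.ne, by rw [(hA q).ip_map, hx.iso], hx.l0, hx.skew⟩
  have hEr : E (rt x n) = sl a (rt x n) * sl q (rt (A q *ᵥ x) n) := by
    show sl a _ * sl q _ = _
    rw [rt_conj (hA q)]
  rw [hEr] at hrep
  have h5 := (hC.imageJ_fix h20 (hC.ov.inv _ hg) hqa.symm hx hx'
    (fun i => (((hB1 _).mul (hB2 _)).mul (hB1 _).conjT).mul (hB2 _).conjT)
    (by rw [conjTranspose_conjTranspose]; exact hrep) (perm_pair_comm ht1 ht2)).conjT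
  rwa [conjTranspose_conjTranspose] at h5

/-- In characteristic two the conjugates of transvections are monomial. -/
theorem Ctx.mono_even (hC : Ctx M) (h20 : (2 : F) = 0) {a b : ι} (hab : a ≠ b) {z : Mt F ι k} (hz : RC M z) :
    Mono z := by
  have hk3 := hC.good.three
  have hzM := hz.mem hC
  obtain ⟨c, l, hc⟩ := exists_rt (F := F) (κ := Fin k) (by simpa using hk3)
  set j := sl a (rt c l) * sl b (rt c l) with hj
  have hjM : j ∈ M := hC.ov.mul _ (hC.ov.slot a _ (rt_isSU hc.iso hc.skew)) _ (hC.ov.slot b _ (rt_isSU hc.iso hc.skew))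
  have hjj : j * j = 1 := by
    rw [hj, Matrix.mul_assoc, ← Matrix.mul_assoc (sl b _), sl_comm hab.symm, Matrix.mul_assoc, sl_mul b,
      ← Matrix.mul_assoc, sl_mul, rt_sq h20 hc.iso, sl_one, sl_one, Matrix.one_mul]
  have hjmono : Mono j := (mono_sl a (rt_isSU hc.iso hc.skew).1).mul (mono_sl b (rt_isSU hc.iso hc.skew).1)
  have hzz := sq_one_of_sq0 h20 (hz.sq0 hC)
  have hself : ∀ {x : Mt F ι k}, x ∈ M → x * x = 1 → xᴴ = x := fun {x} hx h => by
    rw [← Matrix.mul_one xᴴ, ← h, ← Matrix.mul_assoc, show xᴴ * x = 1 from hC.ov.isU _ hx, Matrix.one_mul]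
  have hzH := hself hzM hzz
  have hjH := hself hjM hjj
  have hT : ∀ n : ℕ, ((j * z) ^ n)ᴴ = (z * j) ^ n := fun n => by rw [conjTranspose_pow, conjTranspose_mul, hzH, hjH]
  have hT' : ∀ n : ℕ, ((z * j) ^ n)ᴴ = (j * z) ^ n := fun n => by rw [conjTranspose_pow, conjTranspose_mul, hzH, hjH]
  rcases dihedral_split hjj hzz with ⟨n, hn⟩ | ⟨n, e, he, h1, h2, h3⟩
  · exfalso
    set y := (j * z) ^ n with hy
    have hyM : y ∈ M := hC.ov.pow a (hC.ov.mul _ hjM _ hzM) n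
    have hyU := hC.ov.isU _ hyM
    have hj' : j = yᴴ * z * y := by
      conv_rhs => rw [hn, ← hT, ← hy]
      simp only [Matrix.mul_assoc, show yᴴ * y = 1 from hyU, Matrix.mul_one]
      rw [← Matrix.mul_assoc, show yᴴ * y = 1 from hyU, Matrix.one_mul]
    have hRC : RC M j := by
      have := hz.conj hC (hC.ov.inv _ hyM)
      rwa [conjTranspose_conjTranspose, ← hj'] at this
    obtain ⟨q, x, m, hx, hjx⟩ := hRC.root hC hjmono
    haveI : Nonempty (Fin k) := ⟨⟨0, by omega⟩⟩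
    have key : ∀ a b : ι, a ≠ b → j = sl a (rt c l) * sl b (rt c l) → q = a := by
      intro a b hab hj
      by_contra hqa
      have h1 := congrArg (rs a) (hj.symm.trans hjx)
      rw [map_mul, rs_sl_self, rs_sl_ne hab.symm, rs_sl_ne hqa, ← mul_kronecker_mul, Matrix.mul_one,
        Matrix.one_mul] at h1
      obtain ⟨s, hs⟩ := kr_prop (sl_isU _ (rt_isSU hc.iso hc.skew).1) h1
      exact rt_ne_scalar hc s hs
    exact hab ((key a b hab hj).symm.trans (key b a hab.symm (hj.trans (sl_comm hab _ _))))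
  set y := (z * j) ^ n with hy
  have hyM : y ∈ M := hC.ov.pow a (hC.ov.mul _ hzM _ hjM) n
  set u := (j * z) ^ (2 * n + 1) with hu
  have huM : u ∈ M := hC.ov.pow a (hC.ov.mul _ hjM _ hzM) _
  have hju : ∀ i : ℕ, j * (u ^ i)ᴴ = u ^ i * j := fun i => by
    have h := SemiconjBy.pow_right (SemiconjBy.pow_right (show SemiconjBy j (z * j) (j * z) from
      (Matrix.mul_assoc _ _ _).symm) (2 * n + 1)) i
    rw [← hT, ← conjTranspose_pow, ← hu] at h
    exact h
  have hmono : ∀ i : ℕ, Mono (u ^ 2 ^ (e - 1 - i)) := by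
    intro i
    induction i with
    | zero =>
      rw [Nat.sub_zero]
      refine hC.centJ h20 (hC.ov.pow a huM _) hab hc hc ?_
      set w := u ^ 2 ^ (e - 1) with hw
      have hw2 : w * w = 1 := by rw [hw, ← pow_add, ← two_mul, ← pow_succ', Nat.sub_add_cancel he]; exact h2
      have h4 := hju (2 ^ (e - 1))
      rw [← hw, hself (hC.ov.pow a huM _) hw2] at h4
      exact h4.symm
    | succ i ih =>
      rcases Nat.eq_zero_or_pos (e - 1 - i) with h0 | h0
      · rwa [show e - 1 - (i + 1) = e - 1 - i by omega]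
      refine hC.imageJ h20 (hC.ov.pow a huM _) hab hc hc ?_
      rw [← hj, Matrix.mul_assoc, hju, ← Matrix.mul_assoc, ← pow_add, ← two_mul, ← pow_succ',
        show e - 1 - (i + 1) + 1 = e - 1 - i by omega]
      exact ih.mul hjmono
  have humono : Mono u := by simpa using hmono (e - 1)
  have hs : j * u = y * z * yᴴ := by rw [hy, hT']; exact h1
  have hs' := hz.conj hC hyM
  obtain ⟨q, x, m, hx, hqx⟩ := hs'.root hC (hs ▸ hjmono.mul humono)
  have hu' : u = j * sl q (rt x m) := by rw [← hqx, ← hs, ← Matrix.mul_assoc, hjj, Matrix.one_mul]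
  set w := u ^ 2 ^ (e - 1) with hw
  have hw2 : w * w = 1 := by rw [hw, ← pow_add, ← two_mul, ← pow_succ', Nat.sub_add_cancel he]; exact h2
  have hwz : Commute z w := by
    have h := SemiconjBy.pow_right (SemiconjBy.pow_right (show SemiconjBy z (j * z) (z * j) from
      (Matrix.mul_assoc _ _ _).symm) (2 * n + 1)) (2 ^ (e - 1))
    rwa [← hT, ← conjTranspose_pow, ← hu, ← hw, hself (hC.ov.pow a huM _) hw2] at h
  -- a slot of `j` other than `q`
  obtain ⟨p, p', hpp', hj₂, hqp'⟩ : ∃ p p' : ι, p ≠ p' ∧ j = sl p (rt c l) * sl p' (rt c l) ∧ p ≠ q := by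
    rcases eq_or_ne a q with rfl | haq
    · exact ⟨b, a, hab.symm, hj.trans (sl_comm hab _ _), hab.symm⟩
    · exact ⟨a, b, hab, hj, haq⟩
  rcases eq_or_ne e 1 with rfl | he1
  · -- `w = u` has the transvection as a factor at `p`
    rw [hw, Nat.sub_self, pow_zero, pow_one, hu', hj₂, two_roots_eq_krn hpp', sl, krn_mul] at hwz
    refine hC.cen h20 hz (fun i => ?_) (b := p) hc ?_ hwz
    · have hu1 := (rt_isSU hc.iso hc.skew).1
      have hu2 := (rt_isSU hx.iso hx.skew).1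
      show IsU (_ * _)
      refine IsU.mul ?_ ?_
      · split_ifs
        exacts [hu1, hu1, isU_one]
      · rw [Function.update_apply]
        split_ifs
        exacts [hu2, isU_one]
    · simp [Function.update_of_ne hqp']
  · have hdd : sl p (rt c l) * sl p (rt c l) = 1 := by rw [sl_mul, rt_sq h20 hc.iso, sl_one]
    set P := sl p' (rt c l) * sl q (rt x m) with hP
    have hup : u = sl p (rt c l) * P := by rw [hu', hj₂, hP, Matrix.mul_assoc]
    have hcP : Commute (sl p (rt c l)) P := by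
      refine Commute.mul_right (sl_comm hpp' _ _) (sl_comm hqp' _ _)
    have hu2 : u * u = P * P := by
      rw [hup, show sl p (rt c l) * P * (sl p (rt c l) * P) = sl p (rt c l) * (P * sl p (rt c l)) * P by
        simp only [Matrix.mul_assoc], ← hcP.eq, ← Matrix.mul_assoc (sl p (rt c l)) (sl p (rt c l)) P, hdd,
        Matrix.one_mul]
    have hqp2 : q = p' := by
      by_contra hqp''
      refine h3 ?_
      rw [hw, ← Nat.sub_add_cancel (show 1 ≤ e - 1 by omega), pow_succ', pow_mul, pow_two, hu2, hP,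
        Matrix.mul_assoc, ← Matrix.mul_assoc (sl q _), sl_comm hqp'', Matrix.mul_assoc, sl_mul q, ← Matrix.mul_assoc,
        sl_mul, rt_sq h20 hc.iso, rt_sq h20 hx.iso, sl_one, sl_one, Matrix.one_mul, one_pow]
    subst hqp2
    set R := rt c l * rt x m with hR
    have hPw : P = sl q R := by rw [hP, sl_mul]
    have hwq : w = sl q (R ^ 2 ^ (e - 1)) := by
      rw [hw, ← Nat.sub_add_cancel (show 1 ≤ e - 1 by omega), pow_succ', pow_mul, pow_mul, pow_two, pow_two, hu2, hPw,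
        sl_mul]
      induction 2 ^ (e - 1 - 1) with
      | zero => simp [sl_one]
      | succ i ih => rw [pow_succ, pow_succ, ih, sl_mul]
    refine hC.comm_slot h20 hzM (hz.sq0 hC) (a := q) ?_ ?_ ?_ (hwq ▸ hwz)
    · exact pow_induction_isU ((rt_isSU hc.iso hc.skew).1.mul (rt_isSU hx.iso hx.skew).1) _
    · refine sl_inj (by omega) q ?_
      rw [← sl_mul, sl_one, ← hwq, hw2]
    · intro h
      rw [h, sl_one] at hwq
      exact h3 hwq

end Cfsg.Agent.H30.UWreath
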