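import Cfsg.Agent.H30.UWreath.Odd
import Cfsg.Agent.H30.UWreath.Two

/-!
Small overgroups of the slots consist of monomial elements.
-/

set_option autoImplicit false
set_option linter.unusedSectionVars false

universe u

namespace Cfsg.Agent.H30.UWreath

open Matrix
open scoped Kronecker

variable {F : Type*} [Field F] [StarRing F] [UField F] [Finite F] {k : ℕ}

theorem mono_of_unique {ι : Type u} [Fintype ι] [DecidableEq ι] (hk : 0 < k) (a : ι) (ha : ∀ i, i = a)
    {g : Mt F ι k} (hg : IsU g) : Mono g := by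
  haveI : IsEmpty {i // i ≠ a} := ⟨fun i => i.2 (ha _)⟩
  haveI : Nonempty (Fin k) := ⟨⟨0, hk⟩⟩
  set X : Matrix (Fin k) (Fin k) F := fun p q => rs a g (p, isEmptyElim) (q, isEmptyElim) with hX
  have h1 : rs a g = X ⊗ₖ (1 : Mt F {i // i ≠ a} k) := by
    ext ⟨p, y⟩ ⟨q, y'⟩
    obtain rfl := Subsingleton.elim y isEmptyElim
    obtain rfl := Subsingleton.elim y' isEmptyElim
    rw [kroneckerMap_apply, Matrix.one_apply_eq, mul_one, hX]
  have hXU : IsU X := by
    have h2 := (rs_isU_iff a).2 hg
    rw [h1, IsU, kr_conjT, kr_left_mul, ← one_kronecker_one] at h2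
    exact kr_left_inj h2
  rw [show g = sl a X from (rs a).injective (by rw [h1, rs_sl_self])]
  exact mono_sl a hXU

/-- Every element of a small overgroup is monomial. -/
theorem allMono (hG : Good F k) (n : ℕ) : ∀ (ι : Type u) [Fintype ι] [DecidableEq ι],
    Fintype.card ι ≤ n → AllMono F k ι := by
  induction n with
  | zero =>
    intro ι _ _ hn hne
    exact absurd (Fintype.card_pos_iff.2 hne) (by omega)
  | succ n ih =>
    intro ι _ _ hn hne M hM hS g hg
    obtain ⟨a⟩ := hne
    have hk := hG.three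
    rcases subsingleton_or_nontrivial ι with hs | hs
    · exact mono_of_unique (by omega) a (fun i => Subsingleton.elim i a) (hM.isU _ hg)
    have hC : Ctx M := ⟨hG, hM, hS, fun s _ _ hlt => ih s (by omega)⟩
    obtain ⟨b, hab⟩ := exists_ne a
    obtain ⟨c, l, hc⟩ := exists_rt (F := F) (κ := Fin k) (by simpa using hk)
    have hz : RC M (g * sl a (rt c l) * gᴴ) := ⟨g, hg, a, c, l, hc, rfl⟩
    refine hC.mono_of_image hg (a := a) hc ?_
    by_cases h2 : (2 : F) = 0
    · exact hC.mono_even h2 hab hz
    · exact hC.mono_odd h2 a (hz.mem hC) (hz.sq0 hC)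

end Cfsg.Agent.H30.UWreath
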