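import Cfsg.Agent.H30.UWreath.Plane
import Cfsg.Agent.H30.UWreath.Small

/-!
An overgroup which is not small contains all transvections.
-/

set_option autoImplicit false
set_option maxHeartbeats 1000000
set_option linter.unusedSectionVars false
set_option linter.style.haveILetI false

universe u

namespace Cfsg.Agent.H30.UWreath

open Matrix Module
open scoped Kronecker

variable {F : Type*} [Field F] [StarRing F] [UField F] [Finite F] {k : ℕ} {ι : Type u} [Fintype ι] [DecidableEq ι]

theorem krn_update_apply (f : ι → Matrix (Fin k) (Fin k) F) (d : ι) (E : Matrix (Fin k) (Fin k) F)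
    (x y : ι → Fin k) :
    krn (Function.update f d E) x y = E (x d) (y d) * ∏ i ∈ Finset.univ.erase d, f i (x i) (y i) := by
  rw [krn_apply, ← Finset.mul_prod_erase _ _ (Finset.mem_univ d), Function.update_self]
  congr 1
  exact Finset.prod_congr rfl fun i hi => by rw [Function.update_of_ne (Finset.mem_erase.1 hi).1]

/-- A slot as a linear map. -/
def slotLin (f : ι → Matrix (Fin k) (Fin k) F) (d : ι) : Matrix (Fin k) (Fin k) F →ₗ[F] Mt F ι k where
  toFun E := krn (Function.update f d E)
  map_add' E E' := Matrix.ext fun x y => by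
    rw [Matrix.add_apply, krn_update_apply, krn_update_apply, krn_update_apply, Matrix.add_apply, add_mul]
  map_smul' r E := Matrix.ext fun x y => by
    rw [RingHom.id_apply, Matrix.smul_apply, krn_update_apply, krn_update_apply, Matrix.smul_apply,
      smul_eq_mul, smul_eq_mul, mul_assoc]

theorem dyads_span {κ : Type*} [Fintype κ] [DecidableEq κ] (D : Submodule F (Matrix κ κ F))
    (h : ∀ x : κ → F, dy x x ∈ D) (E : Matrix κ κ F) : E ∈ D := by
  obtain ⟨a, ha⟩ := UField.ne (F := F)
  have hxy : ∀ x y : κ → F, dy x y ∈ D := fun x y => by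
    have key : ∀ r : F, star r • dy x y + r • dy y x ∈ D := fun r => by
      have h1 := D.sub_mem (D.sub_mem (h (x + r • y)) (h x)) (D.smul_mem (r * star r) (h y))
      convert h1 using 1
      simp only [dy_add_left, dy_add_right, dy_smul_left, dy_smul_right]
      module
    have h1 := D.smul_mem (star a - a)⁻¹ (D.sub_mem (key a) (D.smul_mem a (key 1)))
    convert h1 using 1
    rw [eq_inv_smul_iff₀ (sub_ne_zero.2 ha), star_one]
    module
  rw [Matrix.matrix_eq_sum_single E]
  refine D.sum_mem fun p _ => D.sum_mem fun q _ => ?_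
  have : Matrix.single p q (E p q) = E p q • dy (Pi.single p (1 : F)) (Pi.single q (1 : F)) := by
    ext i j
    rw [Matrix.single_apply, Matrix.smul_apply, dy, vecMulVec_apply, Pi.star_apply, Pi.single_apply, Pi.single_apply]
    rcases eq_or_ne p i with h1 | h1 <;> rcases eq_or_ne q j with h2 | h2 <;> simp [h1, h2, Ne.symm]
  rw [this]
  exact D.smul_mem _ (hxy _ _)

/-- The skew parts of all multiples give translations. -/
def YSub {κ β : Type*} [Fintype κ] [DecidableEq κ] [Fintype β] [DecidableEq β]
    {N : Set (Matrix (κ × β) (κ × β) F)} (hN : Ov2 N) (c : κ → F) (hc : ip c c = 0) :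
    Submodule F (Matrix β β F) where
  carrier := {B | ∀ ρ : F, up c (ρ • B - (ρ • B)ᴴ) ∈ N}
  zero_mem' ρ := by
    rw [smul_zero, conjTranspose_zero, sub_zero, up_zero, ← one_kronecker_one]
    exact hN.fst 1 isSU_one
  add_mem' {B B'} hB hB' ρ := by
    rw [smul_add, conjTranspose_add, add_sub_add_comm, ← up_mul hc]
    exact hN.mul _ (hB ρ) _ (hB' ρ)
  smul_mem' r B hB ρ := by
    rw [smul_smul]
    exact hB _

variable {M : Set (Mt F ι k)}

theorem tr_fac (hG : Good F k) (hM : Ov M) (hS : ¬ Small M)
    (hcyc : ∀ σ : Equiv.Perm ι, σ ^ 3 = 1 → pm σ ∈ M) (a : ι) : Tr (fac a M) := by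
  intro c hc0 hc A hA
  set Y := YSub (hM.fac a) c hc
  have hpure : ∀ y : {i // i ≠ a} → Fin k → F, dy (pv y) (pv y) ∈ Y := by
    intro y ρ
    set u : ι → Fin k → F := fun i => if h : i = a then c else y ⟨i, h⟩ with hu
    have hua : u a = c := by simp [hu]
    have hP := Pt.pure hG hM hS hcyc a (u := u) (by rw [hua]; exact hc0) (by rw [hua]; exact hc)
      (ρ - star ρ) (by rw [star_sub, star_star, neg_sub])
    show (rs a).symm _ ∈ M
    convert hP using 1
    apply (rs a).injective
    rw [AlgEquiv.apply_symm_apply, rt, map_add, map_one, map_smul, ← NT_univ u, NT, rs_krn,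
      if_pos (Finset.mem_univ a), hua, conjTranspose_smul, dy_conjT, ← sub_smul, up_eq,
      show (krn fun i : {i // i ≠ a} => if (i : ι) ∈ Finset.univ then dy (u i) (u i) else 1) =
        dy (pv y) (pv y) from by
        rw [← NT_univ, NT]
        congr 1
        funext i
        simp [hu, i.2], kronecker_smul]
  have hall : ∀ (J : Finset {i // i ≠ a}) (f : {i // i ≠ a} → Matrix (Fin k) (Fin k) F),
      (∀ i ∉ J, ∃ y, f i = dy y y) → krn f ∈ Y := by
    intro J
    induction J using Finset.induction with
    | empty =>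
      intro f hf
      choose y hy using fun i => hf i (Finset.notMem_empty i)
      convert hpure y using 1
      rw [← NT_univ, NT]
      congr 1
      funext i
      rw [if_pos (Finset.mem_univ i), hy]
    | insert d J _ ih =>
      intro f hf
      have h1 := dyads_span (Y.comap (slotLin f d)) (fun x => by
        refine ih _ fun i hi => ?_
        rcases eq_or_ne i d with rfl | hid
        · exact ⟨x, Function.update_self _ _ _⟩
        · rw [Function.update_of_ne hid]
          exact hf i (by simp [hid, hi])) (f d)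
      simpa [slotLin] using h1
  have htop : A ∈ Y := by
    rw [Matrix.matrix_eq_sum_single A]
    refine Y.sum_mem fun x _ => Y.sum_mem fun y _ => ?_
    have : Matrix.single x y (A x y) = A x y • krn fun i => Matrix.single (x i) (y i) (1 : F) := by
      ext p q
      rw [Matrix.smul_apply, krn_apply, Matrix.single_apply, smul_eq_mul]
      by_cases h : x = p ∧ y = q
      · obtain ⟨rfl, rfl⟩ := h
        simp
      · rw [if_neg h]
        obtain ⟨i, hi⟩ : ∃ i, ¬ (x i = p i ∧ y i = q i) := by
          by_contra hh
          push Not at hh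
          exact h ⟨funext fun i => (hh i).1, funext fun i => (hh i).2⟩
        rw [Finset.prod_eq_zero (Finset.mem_univ i) (by rw [Matrix.single_apply, if_neg hi]), mul_zero]
    rw [this]
    exact Y.smul_mem _ (hall Finset.univ _ fun i hi => absurd (Finset.mem_univ i) hi)
  obtain ⟨τ, hτ⟩ := (hU F (Fin k)).exists_trace 1 (map_one _)
  rw [starRingAut_apply] at hτ
  have h1 := htop τ
  rwa [conjTranspose_smul, hA, smul_neg, sub_neg_eq_add, ← add_smul, hτ, one_smul] at h1

theorem rs_rt (a : ι) (v : (ι → Fin k) → F) (l : F) :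
    rs a (rt v l) = rt (v ∘ (spl a).symm) l := by
  rw [rt, rt, map_add, map_one, map_smul]
  rfl

/-- An overgroup which is not small contains all transvections. -/
theorem all_transvections (hG : Good F k) (hι : 2 ≤ Fintype.card ι) (hM : Ov M) (hS : ¬ Small M)
    (hcyc : ∀ σ : Equiv.Perm ι, σ ^ 3 = 1 → pm σ ∈ M) {v : (ι → Fin k) → F} (hv : ip v v = 0) : Pt M v := by
  have hk := hG.three
  haveI : Nonempty ι := Fintype.card_pos_iff.1 (by omega)
  obtain ⟨a⟩ := (inferInstance : Nonempty ι)
  have hβ : 2 ≤ Fintype.card ({i // i ≠ a} → Fin k) := by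
    rw [Fintype.card_fun, Fintype.card_fin]
    have : 1 ≤ Fintype.card {i // i ≠ a} := by
      rw [Fintype.card_subtype_compl, Fintype.card_subtype_eq]; omega
    exact le_trans (by omega) (Nat.le_self_pow (by omega) k)
  intro l hl
  have hv' : ip (v ∘ (spl a).symm) (v ∘ (spl a).symm) = 0 := by
    rw [← hv]
    exact Fintype.sum_equiv (spl a).symm _ _ fun p => rfl
  have h1 := Tr.all (hM.fac a) (tr_fac hG hM hS hcyc a) (by rw [Fintype.card_fin]; omega) hβ hv' l hl
  rw [← rs_rt] at h1
  have h2 : (rs a).symm (rs a (rt v l)) ∈ M := h1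
  rwa [AlgEquiv.symm_apply_apply] at h2

end Cfsg.Agent.H30.UWreath
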