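import Cfsg.Agent.H98.TensorUnit.Form

/-!
Unitary matrices for the standard Hermitian form over a finite field with an involution: rank one maps,
transvections, Siegel maps, tori.
-/

set_option autoImplicit false
set_option linter.unusedSectionVars false

namespace Cfsg.Agent.H30.UWreath

open Matrix Module Cfsg.Agent.H98.TensorUnit

/-- A finite field with an involution, norms onto the fixed field. -/
class UField (F : Type*) [Field F] [StarRing F] : Prop where
  ne : ∃ a : F, star a ≠ a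
  norm : ∀ a : F, star a = a → ∃ x, x * star x = a

variable {F : Type*} [Field F] [StarRing F] [UField F] [Finite F] {κ : Type*} [Fintype κ] [DecidableEq κ]

/-- `∑ x i * star (y i)`. -/
def ip (x y : κ → F) : F := x ⬝ᵥ star y

theorem ip_conj (x y : κ → F) : star (ip x y) = ip y x := by
  rw [ip, ip, ← star_dotProduct_star, star_star]

theorem ip_nd {x : κ → F} (h : ∀ y, ip x y = 0) : x = 0 := funext fun i => by
  simpa [ip] using h (Pi.single i 1)

variable (F κ) in
/-- The standard form. -/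
def hU : Herm F (starRingAut : F ≃+* F) (κ → F) where
  B := ip
  add_left x y z := add_dotProduct _ _ _
  smul_left c x z := smul_dotProduct _ _ _
  conj := ip_conj
  nd _ := ip_nd
  inv := star_star
  ne := UField.ne
  norm := UField.norm

theorem hU_B (x y : κ → F) : (hU F κ).B x y = ip x y := rfl

theorem ip_add_left (x y z : κ → F) : ip (x + y) z = ip x z + ip y z := add_dotProduct _ _ _
theorem ip_smul_left (c : F) (x z : κ → F) : ip (c • x) z = c * ip x z := smul_dotProduct _ _ _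
theorem ip_add_right (z x y : κ → F) : ip z (x + y) = ip z x + ip z y := (hU F κ).add_right z x y
theorem ip_smul_right (c : F) (z x : κ → F) : ip z (c • x) = star c * ip z x := (hU F κ).smul_right c z x
theorem ip_sub_left (x y z : κ → F) : ip (x - y) z = ip x z - ip y z := (hU F κ).sub_left x y z
theorem ip_sub_right (z x y : κ → F) : ip z (x - y) = ip z x - ip z y := (hU F κ).sub_right z x y
@[simp] theorem ip_zero_left (x : κ → F) : ip 0 x = 0 := (hU F κ).zero_left x
@[simp] theorem ip_zero_right (x : κ → F) : ip x 0 = 0 := (hU F κ).zero_right x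
theorem ip_neg_left (x y : κ → F) : ip (-x) y = -ip x y := (hU F κ).neg_left x y
theorem ip_neg_right (x y : κ → F) : ip x (-y) = -ip x y := (hU F κ).neg_right x y

theorem ip_symm0 {x y : κ → F} (h : ip x y = 0) : ip y x = 0 := (hU F κ).eq_zero_symm h
theorem ip_symm1 {x y : κ → F} (h : ip x y = 1) : ip y x = 1 := (hU F κ).eq_one_symm h

theorem ip_adj (A : Matrix κ κ F) (x y : κ → F) : ip (A *ᵥ x) y = ip x (Aᴴ *ᵥ y) := by
  rw [ip, ip, star_mulVec, conjTranspose_conjTranspose, dotProduct_comm, dotProduct_mulVec, dotProduct_comm]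

/-- Preserving the form. -/
def IsU (A : Matrix κ κ F) : Prop := Aᴴ * A = 1

theorem IsU.ip_map {A : Matrix κ κ F} (h : IsU A) (x y : κ → F) : ip (A *ᵥ x) (A *ᵥ y) = ip x y := by
  rw [ip_adj, mulVec_mulVec, h, one_mulVec]

theorem IsU.inv_right {A : Matrix κ κ F} (h : IsU A) : A * Aᴴ = 1 := mul_eq_one_comm.1 h

theorem IsU.conjT {A : Matrix κ κ F} (h : IsU A) : IsU Aᴴ := by
  rw [IsU, conjTranspose_conjTranspose]; exact h.inv_right

theorem IsU.mul {A B : Matrix κ κ F} (h : IsU A) (h' : IsU B) : IsU (A * B) := by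
  rw [IsU, conjTranspose_mul, mul_assoc, ← mul_assoc Aᴴ, h, one_mul, h']

theorem isU_one : IsU (1 : Matrix κ κ F) := by simp [IsU]

theorem IsU.smul {A : Matrix κ κ F} (h : IsU A) {r : F} (hr : star r * r = 1) : IsU (r • A) := by
  rw [IsU, conjTranspose_smul, smul_mul_smul_comm, h, hr, one_smul]

theorem IsU.of_ip {A : Matrix κ κ F} (h : ∀ x y, ip (A *ᵥ x) (A *ᵥ y) = ip x y) : IsU A := by
  refine Matrix.ext_iff_mulVec.2 fun x => ?_
  rw [one_mulVec, ← mulVec_mulVec]
  refine (hU F κ).ext_left fun y => ?_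
  rw [hU_B, hU_B, ip_adj, conjTranspose_conjTranspose, h]

/-- The special unitary matrices. -/
def IsSU (A : Matrix κ κ F) : Prop := IsU A ∧ A.det = 1

theorem IsSU.mul {A B : Matrix κ κ F} (h : IsSU A) (h' : IsSU B) : IsSU (A * B) :=
  ⟨h.1.mul h'.1, by rw [det_mul, h.2, h'.2, mul_one]⟩

theorem isSU_one : IsSU (1 : Matrix κ κ F) := ⟨isU_one, det_one⟩

theorem IsSU.conjT {A : Matrix κ κ F} (h : IsSU A) : IsSU Aᴴ :=
  ⟨h.1.conjT, by rw [det_conjTranspose, h.2, star_one]⟩

/-- `z ↦ ⟨z, y⟩ x`. -/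
def dy (x y : κ → F) : Matrix κ κ F := vecMulVec x (star y)

theorem dy_mulVec (x y z : κ → F) : dy x y *ᵥ z = ip z y • x := by
  rw [dy, vecMulVec_mulVec, op_smul_eq_smul, dotProduct_comm]; rfl

theorem dy_mul (x y z w : κ → F) : dy x y * dy z w = ip z y • dy x w := by
  refine Matrix.ext_iff_mulVec.2 fun v => ?_
  simp only [← mulVec_mulVec, dy_mulVec, mulVec_smul, smul_mulVec, smul_smul, mul_comm]

theorem dy_conjT (x y : κ → F) : (dy x y)ᴴ = dy y x := by
  rw [dy, dy, conjTranspose_vecMulVec, star_star]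

theorem dy_sandwich {μ : Type*} [Fintype μ] [DecidableEq μ] (A : Matrix μ κ F) (x y : κ → F) :
    A * dy x y * Aᴴ = dy (A *ᵥ x) (A *ᵥ y) := by
  rw [dy, dy, Matrix.mul_assoc, vecMulVec_mul, star_mulVec, Matrix.mul_vecMulVec]

theorem dy_add_left (x x' y : κ → F) : dy (x + x') y = dy x y + dy x' y := add_vecMulVec _ _ _

theorem dy_add_right (x y y' : κ → F) : dy x (y + y') = dy x y + dy x y' := by
  rw [dy, star_add, vecMulVec_add]; rfl

theorem dy_smul_left (c : F) (x y : κ → F) : dy (c • x) y = c • dy x y := smul_vecMulVec _ _ _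

theorem dy_smul_right (c : F) (x y : κ → F) : dy x (c • y) = star c • dy x y := by
  rw [dy, star_smul, vecMulVec_smul]; rfl

theorem dy_sub_left (x x' y : κ → F) : dy (x - x') y = dy x y - dy x' y := sub_vecMulVec _ _ _

theorem dy_self_ne {c : κ → F} (hc : c ≠ 0) : dy c c ≠ 0 := fun h => by
  obtain ⟨y, hy⟩ := (hU F κ).exists_one hc
  have h1 := dy_mulVec c c y
  rw [h, zero_mulVec, ip_symm1 hy, one_smul] at h1
  exact hc h1.symm

theorem det_one_add_dy (x y : κ → F) : (1 + dy x y).det = 1 + ip x y := by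
  rw [dy, vecMulVec_eq Unit, det_one_add_replicateCol_mul_replicateRow, dotProduct_comm]; rfl

/-- The transvection `1 + l D c`. -/
def rt (c : κ → F) (l : F) : Matrix κ κ F := 1 + l • dy c c

/-- A root: a singular vector and a skew scalar. -/
structure IsRt (c : κ → F) (l : F) : Prop where
  ne : c ≠ 0
  iso : ip c c = 0
  l0 : l ≠ 0
  skew : star l = -l

theorem dy_self_sq {c : κ → F} (hc : ip c c = 0) : dy c c * dy c c = 0 := by rw [dy_mul, hc, zero_smul]

theorem rt_mul {c : κ → F} (hc : ip c c = 0) (l l' : F) : rt c l * rt c l' = rt c (l + l') := by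
  simp only [rt, mul_add, add_mul, one_mul, mul_one, smul_mul_smul_comm, dy_self_sq hc, smul_zero, add_smul]
  abel

theorem rt_conjT (c : κ → F) (l : F) : (rt c l)ᴴ = rt c (star l) := by
  rw [rt, rt, conjTranspose_add, conjTranspose_one, conjTranspose_smul, dy_conjT]

theorem rt_zero (c : κ → F) : rt c 0 = 1 := by simp [rt]

theorem rt_isSU {c : κ → F} (hc : ip c c = 0) {l : F} (hl : star l = -l) : IsSU (rt c l) := by
  refine ⟨by rw [IsU, rt_conjT, rt_mul hc, hl, neg_add_cancel, rt_zero], ?_⟩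
  rw [rt, ← dy_smul_left, det_one_add_dy, ip_smul_left, hc, mul_zero, add_zero]

theorem rt_mulVec (c : κ → F) (l : F) (x : κ → F) : rt c l *ᵥ x = x + (l * ip x c) • c := by
  rw [rt, add_mulVec, one_mulVec, smul_mulVec, dy_mulVec, smul_smul]

theorem rt_conj {A : Matrix κ κ F} (hA : IsU A) (c : κ → F) (l : F) : A * rt c l * Aᴴ = rt (A *ᵥ c) l := by
  rw [rt, rt, mul_add, add_mul, mul_one, hA.inv_right, Matrix.mul_smul, Matrix.smul_mul, dy_sandwich]

theorem rt_scale (c : κ → F) (r l : F) : rt (r • c) l = rt c (r * star r * l) := by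
  rw [rt, rt, dy_smul_left, dy_smul_right, smul_smul, smul_smul]
  congr 2
  ring

theorem rt_ne_one {c : κ → F} {l : F} (h : IsRt c l) : rt c l ≠ 1 := fun h1 => by
  rw [rt, add_eq_left, smul_eq_zero] at h1
  exact h1.elim h.l0 (dy_self_ne h.ne)

theorem exists_rt (hκ : 3 ≤ Fintype.card κ) : ∃ (c : κ → F) (l : F), IsRt c l := by
  obtain ⟨c, hc, hcc⟩ := (hU F κ).exists_isotropic (by rw [finrank_fintype_fun_eq_card]; omega)
  obtain ⟨l, hl, hl'⟩ := (hU F κ).exists_skew
  exact ⟨c, l, hc, hcc, hl, hl'⟩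

/-- The map `1 + f c* - c f* + r c c*`. -/
def sgm (c f : κ → F) (r : F) : Matrix κ κ F := 1 + (dy f c - dy c f + r • dy c c)

theorem sgm_mul {c f f' : κ → F} (hc : ip c c = 0) (hf : ip f c = 0) (hf' : ip f' c = 0) (r r' : F) :
    sgm c f r * sgm c f' r' = sgm c (f + f') (r + r' - ip f' f) := by
  refine Matrix.ext_iff_mulVec.2 fun v => ?_
  simp only [sgm, ← mulVec_mulVec, add_mulVec, sub_mulVec, one_mulVec, smul_mulVec, dy_mulVec, dy_add_left,
    dy_add_right, ip_add_left, ip_sub_left, ip_smul_left, hc, hf, hf', ip_symm0 hf, ip_symm0 hf']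
  module

theorem sgm_conjT (c f : κ → F) (r : F) : (sgm c f r)ᴴ = sgm c (-f) (star r) := by
  have h1 : dy (-f) c = -dy f c := by rw [← neg_one_smul F f, dy_smul_left, neg_one_smul]
  have h2 : dy c (-f) = -dy c f := by rw [← neg_one_smul F f, dy_smul_right, star_neg, star_one, neg_one_smul]
  simp only [sgm, conjTranspose_add, conjTranspose_sub, conjTranspose_one, conjTranspose_smul, dy_conjT, h1, h2]
  abel

theorem sgm_zero (c : κ → F) : sgm c 0 0 = 1 := by
  simp [sgm, dy]

theorem sgm_isU {c f : κ → F} (hc : ip c c = 0) (hf : ip f c = 0) {r : F} (hr : r + star r = -ip f f) :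
    IsU (sgm c f r) := by
  have hnf : ip (-f) c = 0 := by rw [← neg_one_smul F f, ip_smul_left, hf, mul_zero]
  rw [IsU, sgm_conjT, sgm_mul hc hnf hf, neg_add_cancel]
  have : star r + r - ip f (-f) = 0 := by
    rw [← neg_one_smul F f, ip_smul_right, star_neg, star_one]
    simp only [neg_one_smul, neg_mul, one_mul]
    linear_combination hr
  rw [this, sgm_zero]

theorem det_of_unipotent {A : Matrix κ κ F} {n : ℕ} (h : (A - 1) ^ n = 0) : A.det = 1 := by
  obtain ⟨p, hp⟩ := CharP.exists F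
  haveI := hp
  haveI hpp : Fact p.Prime := ⟨(CharP.char_is_prime_or_zero F p).resolve_right (CharP.char_ne_zero_of_finite F p)⟩
  rcases isEmpty_or_nonempty κ with hκ | hκ
  · exact det_isEmpty
  have h1 : A ^ p ^ n = 1 := by
    rw [← sub_eq_zero]
    calc A ^ p ^ n - 1 = (A - 1) ^ p ^ n := by
          rw [sub_pow_char_pow_of_commute p n (Commute.one_right _), one_pow]
      _ = 0 := pow_eq_zero_of_le (Nat.lt_pow_self hpp.out.one_lt).le h
  have h2 := congrArg Matrix.det h1
  rw [det_pow, det_one, ← sub_eq_zero] at h2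
  rw [← sub_eq_zero]
  refine (pow_eq_zero_iff (pow_ne_zero n hpp.out.ne_zero)).1 ?_
  rw [sub_pow_char_pow, one_pow]
  exact h2

theorem sgm_isSU {c f : κ → F} (hc : ip c c = 0) (hf : ip f c = 0) {r : F} (hr : r + star r = -ip f f) :
    IsSU (sgm c f r) := by
  refine ⟨sgm_isU hc hf hr, det_of_unipotent (n := 3) (Matrix.ext_iff_mulVec.2 fun v => ?_)⟩
  simp only [sgm, add_sub_cancel_left, pow_succ, pow_zero, one_mul, ← mulVec_mulVec, add_mulVec, sub_mulVec,
    smul_mulVec, dy_mulVec, ip_add_left, ip_sub_left, ip_smul_left, hc, hf, ip_symm0 hf, zero_mulVec]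
  module

theorem exists_mid (hκ : 3 ≤ Fintype.card κ) {c e : κ → F} (hc : ip c c = 0) (he : ip e e = 0) (hce : ip c e = 1) :
    ∃ m, ip m c = 0 ∧ ip m e = 0 ∧ ip m m = 1 := by
  have hec := ip_symm1 hce
  suffices ∃ m, ip m c = 0 ∧ ip m e = 0 ∧ ip m m ≠ 0 by
    obtain ⟨m, h1, h2, h3⟩ := this
    obtain ⟨x, hx⟩ := UField.norm (ip m m)⁻¹ (by rw [star_inv₀, ip_conj])
    exact ⟨x • m, by rw [ip_smul_left, h1, mul_zero], by rw [ip_smul_left, h2, mul_zero],
      by rw [ip_smul_left, ip_smul_right, ← mul_assoc, hx, inv_mul_cancel₀ h3]⟩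
  by_contra hcon
  push Not at hcon
  have hmid := (hU F κ).finrank_mid c e
  rw [finrank_fintype_fun_eq_card] at hmid
  obtain ⟨z, hz, hz0⟩ := Submodule.exists_mem_ne_zero_of_ne_bot (p := (hU F κ).mid c e) fun h => by
    rw [h, finrank_bot] at hmid; omega
  obtain ⟨hz1, hz2⟩ := (hU F κ).mem_mid.1 hz
  simp only [hU_B] at hz1 hz2
  refine hz0 (ip_nd fun x => ?_)
  set y := x - ip x e • c - ip x c • e with hy
  have y1 : ip y c = 0 := by rw [hy]; simp [ip_sub_left, ip_smul_left, hc, hec]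
  have y2 : ip y e = 0 := by rw [hy]; simp [ip_sub_left, ip_smul_left, he, hce]
  obtain ⟨a, ha⟩ := UField.ne (F := F)
  have e1 := hcon (z + y) (by simp [ip_add_left, hz1, y1]) (by simp [ip_add_left, hz2, y2])
  have e2 := hcon (a • z + y) (by simp [ip_add_left, ip_smul_left, hz1, y1])
    (by simp [ip_add_left, ip_smul_left, hz2, y2])
  have z0 := hcon z hz1 hz2
  have y0 := hcon y y1 y2
  simp only [ip_add_left, ip_add_right, ip_smul_left, ip_smul_right, z0, y0] at e1 e2
  have h1 : ip z y = 0 := (mul_eq_zero.1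
    (show (star a - a) * ip z y = 0 by linear_combination star a * e1 - e2)).resolve_left (sub_ne_zero.2 ha)
  rw [show x = y + ip x e • c + ip x c • e by rw [hy]; abel]
  simp [ip_add_right, ip_smul_right, h1, hz1, hz2]

/-- A torus element of determinant one. -/
theorem exists_torus (hκ : 3 ≤ Fintype.card κ) {c : κ → F} (hc0 : c ≠ 0) (hc : ip c c = 0) {r : F} (hr : r ≠ 0) :
    ∃ A : Matrix κ κ F, IsSU A ∧ A *ᵥ c = r • c := by
  obtain ⟨e, he, hce⟩ := (hU F κ).exists_partner hc0 hc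
  simp only [hU_B] at he hce
  have hec := ip_symm1 hce
  obtain ⟨m, hmc, hme, hmm⟩ := exists_mid hκ hc he hce
  set s := star r with hs
  have hs0 : s ≠ 0 := (star_ne_zero).2 hr
  refine ⟨(1 + dy ((r - 1) • c) e) * (1 + dy ((s⁻¹ - 1) • e) c) * (1 + dy ((s / r - 1) • m) m),
    ⟨IsU.of_ip fun x y => ?_, ?_⟩, ?_⟩
  · simp only [← mulVec_mulVec, add_mulVec, one_mulVec, dy_mulVec, ip_add_left, ip_add_right, ip_smul_left,
      ip_smul_right, smul_smul, hc, he, hce, hec, hmc, hme, hmm, ip_symm0 hmc, ip_symm0 hme, star_sub, star_add,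
      star_mul', star_one, star_div₀, star_inv₀, ip_conj, hs, star_star, star_zero]
    have hs1 : star r ≠ 0 := star_ne_zero.2 hr
    field_simp
    ring
  · rw [det_mul, det_mul, det_one_add_dy, det_one_add_dy, det_one_add_dy, ip_smul_left, ip_smul_left, ip_smul_left,
      hce, hec, hmm]
    field_simp
    ring
  · simp only [← mulVec_mulVec, add_mulVec, one_mulVec, dy_mulVec, ip_add_left, ip_smul_left, smul_smul, hc, he,
      hce, hec, ip_symm0 hmc, ip_symm0 hme]
    module

/-- Transitivity on singular vectors. -/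
theorem exists_move (hκ : 3 ≤ Fintype.card κ) {c c' : κ → F} (hc0 : c ≠ 0) (hc : ip c c = 0) (hc'0 : c' ≠ 0)
    (hc' : ip c' c' = 0) : ∃ A : Matrix κ κ F, IsSU A ∧ A *ᵥ c = c' := by
  refine (hU F κ).iso_induct (p := fun x => ∃ A : Matrix κ κ F, IsSU A ∧ A *ᵥ c = x) hc0 hc
    ⟨1, isSU_one, one_mulVec c⟩ (fun r x hr hx hxx h => ?_) (fun l u hu x hl hx hxx h => ?_) c' hc'0 hc'
  · obtain ⟨A, hA, rfl⟩ := h
    obtain ⟨T, hT, hTc⟩ := exists_torus hκ hx hxx hr
    exact ⟨T * A, hT.mul hA, by rw [← mulVec_mulVec, hTc]⟩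
  · obtain ⟨A, hA, rfl⟩ := h
    refine ⟨rt u l * A, (rt_isSU hu hl).mul hA, ?_⟩
    rw [← mulVec_mulVec, rt_mulVec, Herm.tv_apply, hU_B, smul_smul]

/-- An isotropic vector with given products against two independent vectors, the first isotropic. -/
theorem exists_tri (hκ : 3 ≤ Fintype.card κ) {a b : κ → F} (ha : ip a a = 0) (hb : ip b b = 0) (ha0 : a ≠ 0)
    (hab : ∀ r : F, b ≠ r • a) {α β : F} (hα : α ≠ 0) :
    ∃ u, ip u u = 0 ∧ ip u a = α ∧ ip u b = β := by
  obtain ⟨y, hy1, hy2⟩ : ∃ y, ip y a = 0 ∧ ip y b = 1 := by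
    obtain ⟨φ, hφb, hφ⟩ := Submodule.exists_dual_map_eq_bot_of_notMem (p := Submodule.span F {a}) (x := b)
      (fun hm => by obtain ⟨r, hr⟩ := Submodule.mem_span_singleton.1 hm; exact hab r hr.symm) inferInstance
    refine ⟨(hU F κ).rep ((φ b)⁻¹ • φ), ip_symm0 ?_, ip_symm1 ?_⟩
    · rw [← hU_B, Herm.B_rep, LinearMap.smul_apply]
      have : φ a ∈ (Submodule.span F {a}).map φ := Submodule.mem_map_of_mem (Submodule.mem_span_singleton_self a)
      rw [hφ, Submodule.mem_bot] at this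
      rw [this, smul_zero]
    · rw [← hU_B, Herm.B_rep, LinearMap.smul_apply, smul_eq_mul, inv_mul_cancel₀ hφb]
  obtain ⟨x, hx⟩ : ∃ x, ip x a = 1 := by
    obtain ⟨x, hx⟩ := (hU F κ).exists_one ha0
    exact ⟨x, ip_symm1 hx⟩
  set u₀ := α • x + (β - α * ip x b) • y with hu₀
  have u1 : ip u₀ a = α := by simp [hu₀, ip_add_left, ip_smul_left, hx, hy1]
  have u2 : ip u₀ b = β := by simp [hu₀, ip_add_left, ip_smul_left, hy2]
  by_cases h : ip a b = 0
  · obtain ⟨t, ht⟩ := (hU F κ).exists_trace (-ip u₀ u₀) (by rw [map_neg]; exact congrArg Neg.neg (ip_conj u₀ u₀))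
    refine ⟨u₀ + (t / star α) • a, ?_, by simp [ip_add_left, ip_smul_left, u1, ha],
      by simp [ip_add_left, ip_smul_left, u2, h]⟩
    simp only [ip_add_left, ip_add_right, ip_smul_left, ip_smul_right, ha, u1, ← ip_conj u₀ a]
    rw [starRingAut_apply] at ht
    have h1 : star α ≠ 0 := star_ne_zero.2 hα
    simp only [star_div₀, star_star]
    field_simp
    linear_combination star α * α * ht
  · obtain ⟨m, hma, hmb, hmm⟩ : ∃ m, ip m a = 0 ∧ ip m b = 0 ∧ ip m m = 1 := by
      obtain ⟨m, h1, h2, h3⟩ := exists_mid hκ (c := a) (e := (star (ip a b))⁻¹ • b) ha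
        (by rw [ip_smul_left, ip_smul_right, hb, mul_zero, mul_zero])
        (by rw [ip_smul_right, star_inv₀, star_star, inv_mul_cancel₀ h])
      rw [ip_smul_right, star_inv₀, star_star, mul_eq_zero, inv_eq_zero] at h2
      exact ⟨m, h1, h2.resolve_left h, h3⟩
    obtain ⟨s, hs⟩ := UField.norm (-(ip u₀ u₀ - ip u₀ m * ip m u₀)) (by
      rw [star_neg, star_sub, star_mul', ip_conj, ip_conj, ip_conj, mul_comm])
    refine ⟨u₀ - ip u₀ m • m + s • m, ?_, ?_, ?_⟩
    · simp only [ip_add_left, ip_add_right, ip_sub_left, ip_sub_right, ip_smul_left, ip_smul_right, hmm, ip_conj]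
      linear_combination hs
    · simp [ip_add_left, ip_sub_left, ip_smul_left, u1, hma]
    · simp [ip_add_left, ip_sub_left, ip_smul_left, u2, hmb]

/-- A transvection is a commutator. -/
theorem exists_commutator (hκ : 3 ≤ Fintype.card κ) {c : κ → F} {l : F} (h : IsRt c l) :
    ∃ A B : Matrix κ κ F, IsSU A ∧ IsSU B ∧ A * B * Aᴴ * Bᴴ = rt c l := by
  obtain ⟨e, he, hce⟩ := (hU F κ).exists_partner h.ne h.iso
  simp only [hU_B] at he hce
  obtain ⟨m, hmc, -, hmm⟩ := exists_mid hκ h.iso he hce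
  obtain ⟨w, hw⟩ := UField.ne (F := F)
  have hd : star w - w ≠ 0 := sub_ne_zero.2 hw
  set g := l / (star w - w) with hg
  have hgs : star g = g := by
    rw [hg, star_div₀, h.skew, star_sub, star_star, ← neg_sub (star w) w, neg_div_neg_eq]
  obtain ⟨r₁, hr₁⟩ := (hU F κ).exists_trace (-ip m m) (by rw [map_neg]; exact congrArg Neg.neg (ip_conj m m))
  obtain ⟨r₂, hr₂⟩ := (hU F κ).exists_trace (-ip ((g * w) • m) ((g * w) • m))
    (by rw [map_neg]; exact congrArg Neg.neg (ip_conj _ _))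
  rw [starRingAut_apply] at hr₁ hr₂
  have hfc : ip ((g * w) • m) c = 0 := by rw [ip_smul_left, hmc, mul_zero]
  refine ⟨sgm c m r₁, sgm c ((g * w) • m) r₂, sgm_isSU h.iso hmc hr₁, sgm_isSU h.iso hfc hr₂, ?_⟩
  have hn1 : ip (-m) c = 0 := by rw [← neg_one_smul F m, ip_smul_left, hmc, mul_zero]
  have hn2 : ip (-((g * w) • m)) c = 0 := by rw [← neg_smul, ip_smul_left, hmc, mul_zero]
  have hs1 : ip (m + (g * w) • m + -m) c = 0 := by
    rw [show m + (g * w) • m + -m = (g * w) • m by abel]; exact hfc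
  rw [sgm_conjT, sgm_conjT, sgm_mul h.iso hmc hfc, sgm_mul h.iso (by rw [ip_add_left, hmc, hfc, add_zero]) hn1,
    sgm_mul h.iso hs1 hn2, sgm, rt]
  have hsum : m + (g * w) • m + -m + -((g * w) • m) = 0 := by abel
  rw [hsum]
  simp only [dy, star_zero, vecMulVec_zero, zero_vecMulVec, sub_zero, zero_add]
  congr 2
  simp only [ip_smul_left, ip_smul_right, ip_add_right, ip_neg_left, ip_neg_right, hmm, star_mul', star_neg,
    star_add, star_one, hgs] at *
  have hgd : g * (star w - w) = l := div_mul_cancel₀ _ hd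
  linear_combination hr₁ + hr₂ + hgd

end Cfsg.Agent.H30.UWreath
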