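import Cfsg.Agent.H30.UWreath.Base

/-!
An element mapping a transvection of a slot to a monomial element is monomial.
-/

set_option autoImplicit false
set_option maxHeartbeats 1000000
set_option linter.unusedSectionVars false

universe u

namespace Cfsg.Agent.H30.UWreath

open Matrix Cfsg.Agent.H98.TensorUnit
open scoped Kronecker

variable {F : Type*} [Field F] [StarRing F] [UField F] [Finite F] {k : ℕ} {ι : Type u} [Fintype ι] [DecidableEq ι]

/-- The standing hypotheses. -/
structure Ctx (M : Set (Mt F ι k)) : Prop where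
  good : Good F k
  ov : Ov M
  small : Small M
  ih : ∀ (s : Type u) [Fintype s] [DecidableEq s], Fintype.card s < Fintype.card ι → AllMono F k s

theorem Ctx.map_root {M : Set (Mt F ι k)} (hC : Ctx M) {g : Mt F ι k} (hg : g ∈ M) {a b : ι} {c f : Fin k → F}
    {l m : F} (hc : IsRt c l) (hf : IsRt f m) (h : g * sl a (rt c l) * gᴴ = sl b (rt f m)) : Mono g :=
  root_map (Fintype.card ι) ι le_rfl hC.good hC.ih hC.ov hC.small (hC.ov.isU _ hg)
    (fun i A hA => hC.ov.mul _ (hC.ov.mul _ hg _ (hC.ov.slot i A hA)) _ (hC.ov.inv _ hg)) hc hf h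

theorem conj_eq_of_commute {n : Type*} [Fintype n] [DecidableEq n] {g x : Matrix n n F} (hg : IsU g)
    (h : Commute g x) : g * x * gᴴ = x := by rw [h.eq, Matrix.mul_assoc, hg.inv_right, Matrix.mul_one]

theorem commute_of_conj_eq {n : Type*} [Fintype n] [DecidableEq n] {g x : Matrix n n F} (hg : IsU g)
    (h : g * x * gᴴ = x) : Commute g x := by
  show g * x = x * g
  conv_rhs => rw [← h, Matrix.mul_assoc, show gᴴ * g = 1 from hg, Matrix.mul_one]

theorem commute_conj {n : Type*} [Fintype n] [DecidableEq n] {g x y : Matrix n n F} (hg : IsU g) (h : Commute x y) :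
    Commute (g * x * gᴴ) (g * y * gᴴ) := by
  show _ = _
  rw [← hg.conj_cancel, ← hg.conj_cancel, h.eq]

theorem Ctx.cent {M : Set (Mt F ι k)} (hC : Ctx M) {g : Mt F ι k} (hg : g ∈ M) {a : ι} {c : Fin k → F} {l : F}
    (hc : IsRt c l) (h : Commute g (sl a (rt c l))) : Mono g :=
  hC.map_root hg hc hc (conj_eq_of_commute (hC.ov.isU _ hg) h)

theorem rep_perm (hk : 2 ≤ k) {A B : ι → Matrix (Fin k) (Fin k) F} (hB : ∀ i, IsU (B i)) {σ τ : Equiv.Perm ι}
    (h : krn A * pm σ = krn B * pm τ) : σ = τ := by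
  refine perm_eq hk (A := fun i => (B i)ᴴ * A i) ?_
  rw [← krn_mul, ← krn_conjT, Matrix.mul_assoc, h, ← Matrix.mul_assoc, show (krn B)ᴴ * krn B = 1 from IsU.krn hB,
    Matrix.one_mul]

theorem sl_ne_scalar (hk : 0 < k) {p q : ι} (hpq : p ≠ q) {X Y : Matrix (Fin k) (Fin k) F}
    (h : sl p X = sl q Y) : ∃ s : F, X = s • 1 := by
  haveI : Nonempty (Fin k) := ⟨⟨0, hk⟩⟩
  have h1 := congrArg (rs p) h
  rw [rs_sl_self, rs_sl_ne hpq.symm] at h1
  obtain ⟨z⟩ : Nonempty ({i // i ≠ p} → Fin k) := inferInstance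
  refine ⟨(sl (⟨q, hpq.symm⟩ : {i // i ≠ p}) Y) z z, Matrix.ext fun i j => ?_⟩
  have h2 := congrFun (congrFun h1 (i, z)) (j, z)
  simp only [kroneckerMap_apply, Matrix.one_apply_eq, mul_one] at h2
  rw [h2, Matrix.smul_apply, smul_eq_mul, mul_comm]

theorem rt_ne_scalar {κ : Type*} [Fintype κ] [DecidableEq κ] {c : κ → F} {l : F} (h : IsRt c l) (s : F) :
    rt c l ≠ s • 1 := by
  intro he
  have h1 := congrArg (· *ᵥ c) he
  simp only [rt_mulVec, h.iso, mul_zero, zero_smul, add_zero, smul_mulVec, one_mulVec] at h1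
  have h2 : s = 1 := by
    have h3 : (s - 1) • c = 0 := by rw [sub_smul, one_smul, ← h1, sub_self]
    exact sub_eq_zero.1 ((smul_eq_zero.1 h3).resolve_right h.ne)
  rw [h2, one_smul] at he
  exact rt_ne_one h he

theorem sl_inj_slot {p q : ι} {c : Fin k → F} {l : F} (hk : 0 < k) (hc : IsRt c l)
    {Y : Matrix (Fin k) (Fin k) F} (h : sl p (rt c l) = sl q Y) : p = q := by
  by_contra hne
  obtain ⟨s, hs⟩ := sl_ne_scalar hk hne h
  exact rt_ne_scalar hc s hs

theorem fix_of_commute (hk : 0 < k) {A : ι → Matrix (Fin k) (Fin k) F} (hA : ∀ i, IsU (A i)) {σ : Equiv.Perm ι}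
    {b : ι} {c : Fin k → F} {l : F} (hc : IsRt c l) (h : Commute (krn A * pm σ) (sl b (rt c l))) : σ b = b := by
  have h1 := conj_eq_of_commute ((IsU.krn hA).mul (isU_pm σ)) h
  rw [mono_conj_sl A hA] at h1
  exact (sl_inj_slot hk hc h1.symm).symm

/-- A transvection whose conjugates from its slot are monomial goes to a transvection. -/
theorem image_root (hk : 3 ≤ k) {g : Mt F ι k} (hg : IsU g) {i : ι}
    (hm : ∀ A : Matrix (Fin k) (Fin k) F, IsSU A → Mono (g * sl i A * gᴴ)) {c : Fin k → F} {l : F}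
    (hc : IsRt c l) : ∃ j f m, IsRt f m ∧ g * sl i (rt c l) * gᴴ = sl j (rt f m) := by
  obtain ⟨P, Q, hP, hQ, hPQ⟩ := exists_commutator (κ := Fin k) (by simpa using hk) hc
  have hz : g * sl i (rt c l) * gᴴ =
      (g * sl i P * gᴴ) * (g * sl i Q * gᴴ) * (g * sl i P * gᴴ)ᴴ * (g * sl i Q * gᴴ)ᴴ := by
    simp only [conjTranspose_mul, conjTranspose_conjTranspose, sl_conjT, ← hPQ, ← sl_mul, Matrix.mul_assoc]
    simp only [← Matrix.mul_assoc gᴴ g, show gᴴ * g = 1 from hg, Matrix.one_mul]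
  obtain ⟨A1, s1, hA1, e1⟩ := hm P hP
  obtain ⟨A2, s2, hA2, e2⟩ := hm Q hQ
  rw [e1, e2, mono_conjT, mono_conjT, mono_mul, mono_mul, mono_mul] at hz
  obtain ⟨h1, h2, h3⟩ := conj_rt_props hg (a := i) hc
  rw [hz] at h1 h2 h3
  rcases classify hk (fun l => ((((hA1 _).mul (hA2 _)).mul (hA1 _).conjT).mul (hA2 _).conjT)) h1 h2 i h3 with
    ⟨j, f, m, hf, he⟩ | ⟨-, -, p, q, hpq, hs, -⟩
  · exact ⟨j, f, m, hf, hz.trans he⟩
  · exfalso
    have := congrArg Equiv.Perm.sign hs
    rw [Equiv.Perm.sign_swap hpq, map_mul, map_mul, map_mul, map_inv, map_inv] at this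
    rcases Int.units_eq_one_or (Equiv.Perm.sign s1) with h | h <;>
      rcases Int.units_eq_one_or (Equiv.Perm.sign s2) with h' | h' <;>
        · rw [h, h'] at this; exact absurd this (by decide)

theorem rt_sq (h20 : (2 : F) = 0) {κ : Type*} [Fintype κ] [DecidableEq κ] {c : κ → F} (hc : ip c c = 0) (l : F) :
    rt c l * rt c l = 1 := by rw [rt_mul hc, ← two_mul, h20, zero_mul, rt_zero]

/-- In dimension three unipotents of index two are transvections. -/
theorem sq_zero_three {A : Matrix (Fin 3) (Fin 3) F} (hA : IsU A) (hsq : (A - 1) * (A - 1) = 0) :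
    A = 1 ∨ ∃ c l, IsRt c l ∧ A = rt c l := by
  refine or_iff_not_imp_left.2 fun hne => ?_
  have hns : ∀ r : F, A ≠ r • 1 := by
    intro r hr
    refine hne ?_
    rw [hr] at hsq ⊢
    have h1 : ((r - 1) * (r - 1)) • (1 : Matrix (Fin 3) (Fin 3) F) = 0 := by
      rw [← hsq, ← Matrix.one_mul (1 : Matrix (Fin 3) (Fin 3) F), ← smul_mul_smul_comm, sub_smul, one_smul,
        Matrix.one_mul]
    rw [sub_eq_zero.1 (mul_self_eq_zero.1 ((smul_eq_zero.1 h1).resolve_right one_ne_zero)), one_smul]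
  have e : A ⊗ₖ (1 : Matrix Unit Unit F) - 1 = (A - 1) ⊗ₖ (1 : Matrix Unit Unit F) := by
    ext p q
    simp [Matrix.one_apply, Prod.ext_iff]
  obtain ⟨c, l, hc, he⟩ := factor_root (β := Unit) (by simp) hA isU_one hns
    (by rw [e, kr_left_mul, hsq, zero_kronecker]) (by
      rw [e, show ((A - 1) ⊗ₖ (1 : Matrix Unit Unit F)) = (A - 1).submatrix (Equiv.prodPUnit (Fin 3)) (Equiv.prodPUnit (Fin 3))
        from Matrix.ext fun p q => by simp, rank_submatrix, Fintype.card_unit]
      have h1 := LinearMap.finrank_range_add_finrank_ker (A - 1).mulVecLin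
      have h2 : LinearMap.range (A - 1).mulVecLin ≤ LinearMap.ker (A - 1).mulVecLin := by
        rintro _ ⟨x, rfl⟩
        show (A - 1) *ᵥ ((A - 1) *ᵥ x) = 0
        rw [mulVec_mulVec, hsq, zero_mulVec]
      have h3 := Submodule.finrank_mono h2
      rw [Module.finrank_fintype_fun_eq_card, Fintype.card_fin] at h1
      rw [Matrix.rank]
      omega)
  exact ⟨c, l, hc, kr_left_inj he⟩

theorem kr_rt_unique {β : Type*} [Fintype β] [DecidableEq β] [Nonempty β] {c : Fin k → F} (hc0 : c ≠ 0)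
    (hc : ip c c = 0) {ν μ : F} {Y Y' : Matrix β β F} (hY : IsU Y) (h : rt c ν ⊗ₖ Y = rt c μ ⊗ₖ Y') : ν = μ := by
  obtain ⟨e, -, hce⟩ := (hU F (Fin k)).exists_partner hc0 hc
  rw [hU_B] at hce
  have h1 := congrArg (· * cb β c) h
  simp only [kr_cb, rt_mulVec, hc, mul_zero, zero_smul, add_zero] at h1
  obtain rfl := cb_cancel hc0 h1
  have h2 := congrArg (fun Z => (cb β e)ᴴ * (Z * cb β e) * Yᴴ) h
  simp only [kr_cb, rt_mulVec, ip_symm1 hce, mul_one, ← Matrix.mul_assoc, cbH_cb, ip_add_left, ip_smul_left, hce,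
    Matrix.smul_mul, Matrix.one_mul, hY.inv_right] at h2
  exact add_left_cancel (smul_one_inj h2)

/-- A product of two slot transvections in a twisted position has order three. -/
theorem rt_braid (h20 : (2 : F) = 0) {κ : Type*} [Fintype κ] [DecidableEq κ] {c e : κ → F} (hc : ip c c = 0)
    (he : ip e e = 0) (hce : ip c e = 1) {l m : F} (hlm : l * m = 1) :
    rt c l * rt e m * (rt c l * rt e m) * (rt c l * rt e m) = 1 := by
  refine Matrix.ext_iff_mulVec.2 fun x => ?_
  have hec := ip_symm1 hce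
  simp only [← mulVec_mulVec, rt_mulVec, one_mulVec, ip_add_left, ip_smul_left, hc, he, hce, hec]
  match_scalars <;>
    first
      | ring1
      | linear_combination (m * ip x e * (l * m + 5) + ip x c * (l * m + 4)) * hlm + (4 * m * ip x e + 2 * ip x c) * h20
      | linear_combination (l * ip x c * (l * m + 5) + ip x e * ((l * m) ^ 2 + 6 * (l * m) + 12)) * hlm +
          (4 * l * ip x c + 6 * ip x e) * h20

variable {M : Set (Mt F ι k)}

theorem Ctx.swap_absurd_outer (hC : Ctx M) {g : Mt F ι k} (hg : g ∈ M) {a : ι} {c : Fin k → F} {l : F}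
    (hc : IsRt c l) {i j : ι} (hij : i ≠ j) {X : Matrix (Fin k) (Fin k) F} (hX : IsU X)
    (hz : g * sl a (rt c l) * gᴴ = sl i X * pm (Equiv.swap i j) * (sl i X)ᴴ) {p : ι} (hpi : p ≠ i) (hpj : p ≠ j) :
    False := by
  have hgU := hC.ov.isU _ hg
  have h3 := hC.good.three
  have hback : ∀ A : Matrix (Fin k) (Fin k) F, IsSU A → Mono (gᴴ * sl p A * g) := fun A hA => by
    refine hC.cent (a := a) (hC.ov.mul _ (hC.ov.mul _ (hC.ov.inv _ hg) _ (hC.ov.slot p A hA)) _ hg) hc ?_
    have h1 : Commute (sl p A) (g * sl a (rt c l) * gᴴ) := by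
      rw [hz]
      refine Commute.mul_right (Commute.mul_right (sl_comm hpi A X) ?_) ?_
      · show _ = _
        rw [pm_sl, Equiv.swap_apply_of_ne_of_ne hpi hpj]
      · rw [sl_conjT]; exact sl_comm hpi A Xᴴ
    have h2 := commute_conj hgU.conjT h1
    rw [conjTranspose_conjTranspose] at h2
    rwa [show gᴴ * (g * sl a (rt c l) * gᴴ) * g = sl a (rt c l) by
      simp only [Matrix.mul_assoc, show gᴴ * g = 1 from hgU, Matrix.mul_one]
      rw [← Matrix.mul_assoc, show gᴴ * g = 1 from hgU, Matrix.one_mul]] at h2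
  obtain ⟨c₀, l₀, hc₀⟩ := exists_rt (F := F) (κ := Fin k) (by simpa using h3)
  obtain ⟨q, f, m, hf, he⟩ := image_root h3 hgU.conjT (i := p) (by simpa using hback) hc₀
  obtain ⟨A, σ, hA, hgm⟩ := (hC.map_root (hC.ov.inv _ hg) hc₀ hf he).conjT
  rw [conjTranspose_conjTranspose] at hgm
  rw [hgm, mono_conj_sl A hA, sl_conjT] at hz
  rw [sl, sl, sl, ← Matrix.mul_one (krn (Function.update (fun _ => (1 : Matrix (Fin k) (Fin k) F)) (σ a) _)),
    ← pm_one, ← Matrix.mul_one (krn (Function.update (fun _ => (1 : Matrix (Fin k) (Fin k) F)) i Xᴴ)), ← pm_one,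
    mono_mul, mul_one] at hz
  have hsw : (1 : Equiv.Perm ι) = Equiv.swap i j := rep_perm (by omega) (fun l => ?_) hz
  · exact hij (by have := Equiv.congr_fun hsw i; simpa using this)
  · refine IsU.mul ?_ ?_ <;>
    · rw [Function.update_apply]
      split_ifs
      exacts [by first | exact hX | exact hX.conjT, isU_one]

/-- With two slots the image of a transvection is no twisted transposition. -/
theorem Ctx.swap_absurd_two (hC : Ctx M) (hk : k = 3) (h20 : (2 : F) = 0) {g : Mt F ι k} (hg : g ∈ M) {a : ι}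
    {c : Fin k → F} {l : F} (hc : IsRt c l) {i j : ι} (hij : i ≠ j) (hall : ∀ p, p = i ∨ p = j)
    {X : Matrix (Fin k) (Fin k) F} (hX : IsU X)
    (hz : g * sl a (rt c l) * gᴴ = sl i X * pm (Equiv.swap i j) * (sl i X)ᴴ) : False := by
  subst hk
  have hgU := hC.ov.isU _ hg
  set β := {q // q ≠ a} → Fin 3
  have hskew : ∀ x : F, star x = x → star x = -x := fun x hx => by
    rw [hx, eq_neg_iff_add_eq_zero, ← two_mul, h20, zero_mul]
  have hreal : ∀ x : F, star x = -x → star x = x := fun x hx => by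
    rw [hx, neg_eq_iff_add_eq_zero, ← two_mul, h20, zero_mul]
  -- the diagonal elements commute with the image
  obtain ⟨Y, hYdef⟩ : ∃ Y : Matrix (Fin 3) (Fin 3) F → Mt F ι 3,
      ∀ A, Y A = gᴴ * (sl i (X * A * Xᴴ) * sl j A) * g := ⟨_, fun _ => rfl⟩
  have hYmul : ∀ A B, Y A * Y B = Y (A * B) := fun A B => by
    have e1 : sl i (X * A * Xᴴ) * sl j A * (sl i (X * B * Xᴴ) * sl j B) = sl i (X * (A * B) * Xᴴ) * sl j (A * B) := by
      rw [Matrix.mul_assoc, ← Matrix.mul_assoc (sl j A), sl_comm hij.symm, Matrix.mul_assoc (sl i _) (sl j A), sl_mul,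
        ← Matrix.mul_assoc, sl_mul]
      congr 2
      simp only [Matrix.mul_assoc]
      rw [← Matrix.mul_assoc Xᴴ X, show Xᴴ * X = 1 from hX, Matrix.one_mul]
    rw [hYdef, hYdef, hYdef, ← e1]
    simp only [Matrix.mul_assoc]
    rw [← Matrix.mul_assoc g gᴴ, hgU.inv_right, Matrix.one_mul]
  have hY1 : Y 1 = 1 := by
    rw [hYdef, Matrix.mul_one, hX.inv_right, sl_one, sl_one, Matrix.mul_one, Matrix.mul_one]
    exact hgU
  have hYM : ∀ A : Matrix (Fin 3) (Fin 3) F, IsSU A → Y A ∈ M := fun A hA => by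
    rw [hYdef]
    exact hC.ov.mul _ (hC.ov.mul _ (hC.ov.inv _ hg) _ (hC.ov.mul _ (hC.ov.slot _ _ ⟨(hX.mul hA.1).mul hX.conjT, by
      rw [det_mul, det_mul, hA.2, mul_one, ← det_mul, hX.inv_right, det_one]⟩) _ (hC.ov.slot j A hA))) _ hg
  have hYd : ∀ A, Commute (Y A) (sl a (rt c l)) := fun A => by
    have hswap : Commute (sl i A * sl j A) (pm (Equiv.swap i j) : Mt F ι 3) := by
      show _ = _
      rw [← Matrix.mul_assoc, pm_sl, Equiv.swap_apply_left, Matrix.mul_assoc (sl j A), pm_sl, Equiv.swap_apply_right,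
        ← Matrix.mul_assoc, ← sl_comm hij]
    have h1 := commute_conj (sl_isU i hX) hswap
    rw [← hz, sl_conjT, show sl i X * (sl i A * sl j A) * sl i Xᴴ = sl i (X * A * Xᴴ) * sl j A by
      rw [Matrix.mul_assoc, Matrix.mul_assoc (sl i A), ← sl_comm hij, ← Matrix.mul_assoc, ← Matrix.mul_assoc,
        sl_mul, sl_mul]] at h1
    have h2 := commute_conj hgU.conjT h1
    rw [hYdef]
    rwa [conjTranspose_conjTranspose, show gᴴ * (g * sl a (rt c l) * gᴴ) * g = sl a (rt c l) by
      simp only [Matrix.mul_assoc, show gᴴ * g = 1 from hgU, Matrix.mul_one]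
      rw [← Matrix.mul_assoc, show gᴴ * g = 1 from hgU, Matrix.one_mul]] at h2
  -- the component at the slot of the transvection
  have key : ∀ (x : Fin 3 → F) (r : F), x ≠ 0 → ip x x = 0 → star r = r →
      ∃ (ν : F) (B : Matrix β β F), IsU B ∧ rs a (Y (rt x r)) = rt c ν ⊗ₖ B := by
    intro x r hx0 hx hr
    have hM' := hYM _ (rt_isSU hx (hskew r hr))
    obtain ⟨A, σ, hA, hy⟩ := hC.cent hM' hc (hYd _)
    have hfix := fix_of_commute (by norm_num) hA hc (hy ▸ hYd _)
    have hσ : σ = 1 := by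
      have hcard : ∀ p, σ p = p := fun p => by
        by_contra hp
        have h1 := hall p; have h2 := hall a; have h3 := hall (σ p)
        have hpa : p ≠ a := fun e => hp (by rw [e, hfix])
        have hσa : σ p ≠ a := fun e => hpa (σ.injective (e.trans hfix.symm))
        rcases h1 with e1 | e1 <;> rcases h2 with e2 | e2 <;> rcases h3 with e3 | e3 <;>
          first | exact hp (e3.trans e1.symm) | exact hpa (e1.trans e2.symm) | exact hσa (e3.trans e2.symm)
      exact Equiv.ext hcard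
    rw [hσ, pm_one, Matrix.mul_one] at hy
    have hsq : Y (rt x r) * Y (rt x r) = 1 := by rw [hYmul, rt_sq h20 hx, hY1]
    rw [hy, krn_mul] at hsq
    obtain ⟨p, hp⟩ := CharP.exists F
    haveI : Fact p.Prime := ⟨(CharP.char_is_prime_or_zero F p).resolve_right (CharP.char_ne_zero_of_finite F p)⟩
    have hp2 : p = 2 := by
      have : ((2 : ℕ) : F) = 0 := by exact_mod_cast h20
      exact (Nat.prime_dvd_prime_iff_eq Fact.out Nat.prime_two).1 ((CharP.cast_eq_zero_iff F p 2).1 this)
    subst hp2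
    have h1 := congrArg (rs a) hsq
    rw [rs_krn, map_one] at h1
    obtain ⟨z⟩ : Nonempty β := inferInstance
    set m := (krn fun q : {q // q ≠ a} => A q * A q) z z
    have hAA : m • (A a * A a) = 1 := by
      ext u v
      have h2 := congrFun (congrFun h1 (u, z)) (v, z)
      rw [kroneckerMap_apply, ← one_kronecker_one, kroneckerMap_apply] at h2
      rw [Matrix.smul_apply, smul_eq_mul, mul_comm]
      simpa using h2
    have hm0 : m ≠ 0 := fun h => by rw [h, zero_smul] at hAA; exact zero_ne_one hAA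
    obtain ⟨s, hs⟩ := (Finite.injective_iff_surjective.1 (frobenius F 2).injective) m
    rw [frobenius_def] at hs
    have hs0 : s ≠ 0 := fun h => hm0 (by rw [← hs, h]; simp)
    have hss : star s * s = 1 := by
      have h3 : (m • (A a * A a))ᴴ * (m • (A a * A a)) = 1 := by rw [hAA, conjTranspose_one, Matrix.one_mul]
      rw [conjTranspose_smul, smul_mul_smul_comm, show (A a * A a)ᴴ * (A a * A a) = 1 from (hA a).mul (hA a)] at h3
      have h4 : star m * m = 1 := by simpa using congrFun (congrFun h3 0) 0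
      apply (frobenius F 2).injective
      rw [frobenius_def, frobenius_def, mul_pow, ← star_pow, hs, h4, one_pow]
    have hA2 : (s • A a - 1) * (s • A a - 1) = 0 := by
      have e : (s • A a) * (s • A a) = 1 := by rw [smul_mul_smul_comm, ← pow_two, hs, hAA]
      rw [Matrix.sub_mul, Matrix.mul_sub, Matrix.one_mul, Matrix.mul_one, e,
        show (1 : Matrix (Fin 3) (Fin 3) F) - s • A a - (s • A a - 1) = (2 : F) • (1 - s • A a) by
          rw [two_smul]; abel, h20, zero_smul]
    set B := krn fun q : {q // q ≠ a} => A q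
    have hrs : rs a (Y (rt x r)) = (s • A a) ⊗ₖ (s⁻¹ • B) := by
      rw [hy, rs_krn, smul_kronecker, kronecker_smul, smul_smul, mul_inv_cancel₀ hs0, one_smul]
    have hB : IsU (s⁻¹ • B) := (IsU.krn fun q => hA _).smul (by
      rw [star_inv₀, ← _root_.mul_inv_rev, mul_comm s, hss, inv_one])
    rcases sq_zero_three ((hA a).smul hss) hA2 with h | ⟨f, ν, hf, h⟩
    · exact ⟨0, _, hB, by rw [hrs, h, rt_zero]⟩
    · have hcomm : Commute (rt f ν) (rt c l) := by
        have h5 := congrArg (rs a) (hYd (rt x r)).eq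
        rw [map_mul, map_mul, hrs, rs_sl_self, ← mul_kronecker_mul, ← mul_kronecker_mul, Matrix.mul_one,
          Matrix.one_mul, h] at h5
        obtain ⟨u1, u2, hu⟩ : ∃ u1 u2, (s⁻¹ • B) u1 u2 ≠ 0 := by
          by_contra hh
          push Not at hh
          rw [IsU, show s⁻¹ • B = 0 from Matrix.ext hh, Matrix.mul_zero] at hB
          exact zero_ne_one hB
        show _ = _
        ext u v
        have h6 := congrFun (congrFun h5 (u, u1)) (v, u2)
        rw [kroneckerMap_apply, kroneckerMap_apply] at h6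
        exact mul_right_cancel₀ hu h6
      have hfc : ip f c = 0 := by
        by_contra hfc
        have h5 := congrArg (· *ᵥ c) hcomm.eq
        simp only [← mulVec_mulVec, rt_mulVec, hc.iso, mul_zero, zero_smul, add_zero, ip_add_left, ip_smul_left,
          zero_add] at h5
        have h6 : (l * (ν * ip c f * ip f c)) • c = 0 := by
          linear_combination (norm := module) -h5
        rcases smul_eq_zero.1 h6 with h7 | h7
        · rcases mul_eq_zero.1 h7 with h8 | h8
          · exact hc.l0 h8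
          rcases mul_eq_zero.1 h8 with h9 | h9
          · rcases mul_eq_zero.1 h9 with h10 | h10
            · exact hf.l0 h10
            · exact hfc (ip_symm0 h10)
          · exact hfc h9
        · exact hc.ne h7
      obtain ⟨q, rfl⟩ : ∃ q : F, f = q • c := by
        obtain ⟨e, he, hce⟩ := (hU F (Fin 3)).exists_partner hc.ne hc.iso
        rw [hU_B] at he hce
        obtain ⟨m', hmc, hme, hmm⟩ := exists_mid (κ := Fin 3) (by simp) hc.iso he hce
        have hli : LinearIndependent F ![c, e, m'] := Fintype.linearIndependent_iff.2 fun w hw => by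
          have h0 : w 0 • c + w 1 • e + w 2 • m' = 0 := by
            simpa [Fin.sum_univ_three, add_assoc] using hw
          have g1 := congrArg (ip · c) h0
          have g0 := congrArg (ip · e) h0
          have g2 := congrArg (ip · m') h0
          simp [ip_add_left, ip_smul_left, hc.iso, he, hce, ip_symm1 hce, hmc, hme, hmm, ip_symm0 hmc,
            ip_symm0 hme] at g0 g1 g2
          intro q; fin_cases q <;> simpa
        have htop := hli.span_eq_top_of_card_eq_finrank (by simp)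
        have hf' : f ∈ Submodule.span F (Set.range ![c, e, m']) := by rw [htop]; trivial
        obtain ⟨w, hw⟩ := Submodule.mem_span_range_iff_exists_fun F |>.1 hf'
        have h0 : w 0 • c + w 1 • e + w 2 • m' = f := by simpa [Fin.sum_univ_three, add_assoc] using hw
        have g1 := congrArg (ip · c) h0
        simp [ip_add_left, ip_smul_left, hc.iso, ip_symm1 hce, hmc, hfc] at g1
        have g2 := hf.iso
        rw [← h0, g1] at g2
        simp [ip_add_left, ip_add_right, ip_smul_left, ip_smul_right, hc.iso, hmc, hmm, ip_symm0 hmc] at g2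
        exact ⟨w 0, by rw [← h0, g1, g2]; simp⟩
      exact ⟨q * star q * ν, _, hB, by rw [hrs, h, rt_scale]⟩
  choose! ν B hB hν using key
  have hzero : ∀ (x : Fin 3 → F) (r : F) (hx0 : x ≠ 0) (hx : ip x x = 0) (y : Fin 3 → F) (m : F),
      ip y y = 0 → ip x y = 1 → r * m = 1 → star r = r → ν x r = ν y m := by
    intro x r hx0 hx y m hy hxy hrm hr
    have hm : star m = m := by
      rw [eq_inv_of_mul_eq_one_right hrm, star_inv₀, hr]
    have hy0 : y ≠ 0 := fun h => one_ne_zero (α := F) (by rw [← hxy, h, ip_zero_right])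
    have h1 := congrArg (rs a) (congrArg Y (rt_braid h20 hx hy hxy hrm))
    rw [hY1, ← hYmul, ← hYmul, ← hYmul, map_one, map_mul, map_mul, map_mul, hν x r hx0 hx hr, hν y m hy0 hy hm,
      ← mul_kronecker_mul, ← mul_kronecker_mul, ← mul_kronecker_mul, rt_mul hc.iso, rt_mul hc.iso, rt_mul hc.iso,
      ← one_kronecker_one, ← rt_zero c] at h1
    have h2 := kr_rt_unique hc.ne hc.iso ((((hB x r hx0 hx hr).mul (hB y m hy0 hy hm)).mul
      ((hB x r hx0 hx hr).mul (hB y m hy0 hy hm))).mul ((hB x r hx0 hx hr).mul (hB y m hy0 hy hm))) h1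
    linear_combination h2 - (ν x r + ν y m * 2) * h20
  obtain ⟨e, he, hce⟩ := (hU F (Fin 3)).exists_partner hc.ne hc.iso
  rw [hU_B] at he hce
  obtain ⟨δ, hδ, hδ1⟩ : ∃ δ : F, star δ = δ ∧ δ ≠ 0 ∧ δ ≠ 1 := by
    obtain ⟨r, hr0, hr1⟩ := hC.good.big.resolve_right (by omega)
    exact ⟨r * star r, by rw [star_mul', star_star, mul_comm], mul_ne_zero hr0 (star_ne_zero.2 hr0), hr1⟩
  have hec := ip_symm1 hce
  have he0 : e ≠ 0 := fun h => one_ne_zero (α := F) (by rw [← hce, h, ip_zero_right])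
  have hconst : ∀ m : F, star m = m → m ≠ 0 → ν e m = ν e 1 := by
    intro m hm hm0
    obtain ⟨κ, hκ⟩ : ∃ κ : F, κ * κ = m⁻¹ := by
      obtain ⟨p, hp⟩ := CharP.exists F
      haveI : Fact p.Prime := ⟨(CharP.char_is_prime_or_zero F p).resolve_right (CharP.char_ne_zero_of_finite F p)⟩
      have hp2 : p = 2 := by
        have : ((2 : ℕ) : F) = 0 := by exact_mod_cast h20
        exact (Nat.prime_dvd_prime_iff_eq Fact.out Nat.prime_two).1 ((CharP.cast_eq_zero_iff F p 2).1 this)
      subst hp2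
      obtain ⟨s, hs⟩ := (Finite.injective_iff_surjective.1 (frobenius F 2).injective) m⁻¹
      exact ⟨s, by rw [← hs, frobenius_def, pow_two]⟩
    have hκ0 : κ ≠ 0 := fun h => inv_ne_zero hm0 (by rw [← hκ, h, mul_zero])
    have hκs : star κ = κ := by
      have h1 : star κ * star κ = κ * κ := by rw [← star_mul', hκ, star_inv₀, hm]
      rcases mul_self_eq_mul_self_iff.1 h1 with h | h
      · exact h
      · rw [h, neg_eq_iff_add_eq_zero, ← two_mul, h20, zero_mul]
    set e' := e + κ • c with he'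
    have he'i : ip e' e' = 0 := by
      simp [he', ip_add_left, ip_add_right, ip_smul_left, ip_smul_right, he, hc.iso, hce, hec, hκs, ← two_mul, h20]
    have hce' : ip c e' = 1 := by simp [he', ip_add_right, ip_smul_right, hce, hc.iso]
    have hee' : ip e e' = κ := by simp [he', ip_add_right, ip_smul_right, he, hec, hκs]
    have he'0 : e' ≠ 0 := fun h => one_ne_zero (α := F) (by rw [← hce', h, ip_zero_right])
    have h2 := hzero e m he0 he (κ⁻¹ • e') m⁻¹ (by rw [ip_smul_left, ip_smul_right, he'i, mul_zero, mul_zero])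
      (by rw [ip_smul_right, hee', star_inv₀, hκs, inv_mul_cancel₀ hκ0]) (mul_inv_cancel₀ hm0) hm
    have hn : κ⁻¹ * star κ⁻¹ * m⁻¹ = 1 := by rw [star_inv₀, hκs, ← _root_.mul_inv_rev, hκ, inv_inv, mul_inv_cancel₀ hm0]
    have h3 : ν (κ⁻¹ • e') m⁻¹ = ν e' 1 := by
      have h4 := hν (κ⁻¹ • e') m⁻¹ (smul_ne_zero (inv_ne_zero hκ0) he'0)
        (by rw [ip_smul_left, ip_smul_right, he'i, mul_zero, mul_zero]) (by rw [star_inv₀, hm])
      rw [rt_scale, hn, hν e' 1 he'0 he'i (star_one F)] at h4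
      exact (kr_rt_unique hc.ne hc.iso (hB e' 1 he'0 he'i (star_one F)) h4).symm
    rw [h2, h3, ← hzero c 1 hc.ne hc.iso e' 1 he'i hce' (one_mul 1) (star_one F),
      hzero c 1 hc.ne hc.iso e 1 he hce (one_mul 1) (star_one F)]
  have hν0 : ν e 1 = 0 := by
    have hadd : ν e (δ + 1) = ν e δ + ν e 1 := by
      have h4 := hν e (δ + 1) he0 he (by rw [star_add, star_one, hδ])
      rw [← rt_mul he, ← hYmul, map_mul, hν e δ he0 he hδ, hν e 1 he0 he (star_one F), ← mul_kronecker_mul,
        rt_mul hc.iso] at h4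
      exact (kr_rt_unique hc.ne hc.iso ((hB e δ he0 he hδ).mul (hB e 1 he0 he (star_one F))) h4).symm
    rw [hconst δ hδ hδ1.1, hconst (δ + 1) (by rw [star_add, star_one, hδ]) (fun h => hδ1.2 (by
      linear_combination h - h20)), ← two_mul, h20, zero_mul] at hadd
    exact hadd
  have h5 := hν e 1 he0 he (star_one F)
  rw [hν0, rt_zero] at h5
  -- the image of a diagonal element is a transvection of the other slot
  set y := Y (rt e 1)
  have hsu : IsSU (rt e 1) := rt_isSU he (hskew 1 (star_one F))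
  have hy2 : (y - 1) * (y - 1) = 0 := by
    have hsq : y * y = 1 := by rw [hYmul, rt_sq h20 he, hY1]
    rw [Matrix.sub_mul, Matrix.mul_sub, Matrix.one_mul, Matrix.mul_one, hsq,
      show (1 : Mt F ι 3) - y - (y - 1) = (2 : F) • (1 - y) by rw [two_smul]; abel, h20, zero_smul]
  have hy1 : y ≠ 1 := fun h => by
    have e1 : sl i (X * rt e 1 * Xᴴ) * sl j (rt e 1) = 1 := by
      have := congrArg (fun Z => g * Z * gᴴ) h
      simpa only [y, hYdef, ← Matrix.mul_assoc, hgU.inv_right, Matrix.one_mul, Matrix.mul_one,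
        Matrix.mul_assoc _ g gᴴ] using this
    have e2 : sl j (rt e 1) = sl i (X * rt e 1 * Xᴴ)ᴴ := by
      rw [← sl_conjT, ← Matrix.one_mul (sl j (rt e 1)), ← show (sl i (X * rt e 1 * Xᴴ))ᴴ * sl i (X * rt e 1 * Xᴴ) = 1
        from sl_isU i ((hX.mul hsu.1).mul hX.conjT), Matrix.mul_assoc, e1, Matrix.mul_one]
    exact hij (sl_inj_slot (by norm_num) ⟨he0, he, one_ne_zero, hskew 1 (star_one F)⟩ e2).symm
  obtain ⟨b, hb⟩ : ∃ b, b ≠ a := by
    rcases eq_or_ne i a with rfl | h
    exacts [⟨j, hij.symm⟩, ⟨i, h⟩]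
  obtain ⟨A', σ', hA', hrep⟩ := hC.cent (hYM _ hsu) hc (hYd _)
  change y = _ at hrep
  have hrk : ∃ (f : Fin 3 → F) (m : F), IsRt f m ∧ y = sl b (rt f m) := by
    obtain ⟨bb, hbb⟩ : ∃ bb : Matrix (Fin 3) (Fin 3) F, B e 1 = sl (⟨b, hb⟩ : {q // q ≠ a}) bb := by
      have hsub : ∀ q : {q // q ≠ a}, q = ⟨b, hb⟩ := fun ⟨q, hq⟩ => Subtype.ext (by
        rcases hall q with e1 | e1 <;> rcases hall b with e2 | e2 <;> rcases hall a with e3 | e3 <;>
          first | exact e1.trans e2.symm | exact absurd (e1.trans e3.symm) hq | exact absurd (e2.trans e3.symm) hb)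
      refine ⟨Matrix.of fun u v => B e 1 (fun _ => u) (fun _ => v), Matrix.ext fun u v => ?_⟩
      haveI : Unique {q // q ≠ a} := ⟨⟨⟨b, hb⟩⟩, hsub⟩
      rw [sl, krn_apply, Fintype.prod_unique,
        show (default : {q // q ≠ a}) = ⟨b, hb⟩ from hsub _, Function.update_self, of_apply]
      congr 1 <;> funext q <;> rw [hsub q]
    have hyb : y = sl b bb := (rs a).injective (by rw [h5, hbb, rs_sl_ne hb])
    have hbU : IsU bb := by
      have h6 := hC.ov.isU _ (hYM _ hsu)
      change IsU y at h6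
      rw [hyb, IsU, sl_conjT, sl_mul, ← sl_one b] at h6
      have h7 := congrArg (rs b) h6
      rw [rs_sl_self, rs_sl_self] at h7
      exact kr_left_inj h7
    have hbsq : (bb - 1) * (bb - 1) = 0 := by
      have h7 := congrArg (rs b) hy2
      rw [hyb, map_mul, map_sub, map_one, map_zero, rs_sl_self, ← one_kronecker_one,
        show bb ⊗ₖ (1 : Matrix ({q // q ≠ b} → Fin 3) _ F) - (1 : Matrix (Fin 3) (Fin 3) F) ⊗ₖ 1 = (bb - 1) ⊗ₖ 1
          from Matrix.ext fun _ _ => (sub_mul _ _ _).symm, kr_left_mul, ← zero_kronecker (1 : Matrix ({q // q ≠ b} → Fin 3) _ F)] at h7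
      exact kr_left_inj h7
    rcases sq_zero_three hbU hbsq with h | ⟨f, m, hf, h⟩
    · exact absurd (by rw [hyb, h, sl_one]) hy1
    · exact ⟨f, m, hf, by rw [hyb, h]⟩
  obtain ⟨f, m, hf, hyf⟩ := hrk
  have hRt : IsRt (X *ᵥ e) (1 : F) :=
    ⟨hX.mulVec_ne he0, by rw [hX.ip_map, he], one_ne_zero, hskew 1 (star_one F)⟩
  have hw : gᴴ * sl i (rt (X *ᵥ e) 1) * g ∈ M :=
    hC.ov.mul _ (hC.ov.mul _ (hC.ov.inv _ hg) _ (hC.ov.slot i _ (rt_isSU hRt.iso (hskew 1 (star_one F))))) _ hg
  have hcw : Commute (gᴴ * sl i (rt (X *ᵥ e) 1) * g) (sl b (rt f m)) := by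
    rw [← hyf]
    have := commute_conj hgU.conjT (show Commute (sl i (rt (X *ᵥ e) 1)) (sl i (X * rt e 1 * Xᴴ) * sl j (rt e 1)) from by
      rw [rt_conj hX]
      exact Commute.mul_right (Commute.refl _) (sl_comm hij _ _))
    rw [show y = Y (rt e 1) from rfl, hYdef]
    rwa [conjTranspose_conjTranspose] at this
  obtain ⟨Aw, τ, hAw, hw'⟩ := hC.cent hw hf hcw
  have hτ := fix_of_commute (by norm_num) hAw hf (hw' ▸ hcw)
  obtain ⟨p1, p2, p3⟩ := conj_rt_props hgU.conjT (a := i) hRt
  rw [conjTranspose_conjTranspose, hw'] at p1 p2 p3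
  rcases classify le_rfl hAw p1 p2 i p3 with ⟨q, f', m', hf', hq⟩ | ⟨-, -, u, v, huv, hτ', -⟩
  · obtain ⟨A, σ, hA, hgm⟩ := (hC.map_root (hC.ov.inv _ hg) hRt hf' (by
      rw [conjTranspose_conjTranspose, hw', hq])).conjT
    rw [conjTranspose_conjTranspose] at hgm
    rw [hgm, mono_conj_sl A hA, sl_conjT] at hz
    rw [sl, sl, sl, ← Matrix.mul_one (krn (Function.update (fun _ => (1 : Matrix (Fin 3) (Fin 3) F)) (σ a) _)),
      ← pm_one, ← Matrix.mul_one (krn (Function.update (fun _ => (1 : Matrix (Fin 3) (Fin 3) F)) i Xᴴ)), ← pm_one,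
      mono_mul, mul_one] at hz
    have hsw : (1 : Equiv.Perm ι) = Equiv.swap i j := rep_perm (by omega) (fun l => ?_) hz
    · exact hij (by have := Equiv.congr_fun hsw i; simpa using this)
    · refine IsU.mul ?_ ?_ <;>
      · rw [Function.update_apply]
        split_ifs
        exacts [by first | exact hX | exact hX.conjT, isU_one]
  · rw [hτ'] at hτ
    have : b = u ∨ b = v := by
      rcases hall b with h | h <;> rcases hall u with h' | h' <;> rcases hall v with h'' | h'' <;>
        first | exact Or.inl (h.trans h'.symm) | exact Or.inr (h.trans h''.symm) | exact absurd (h'.trans h''.symm) huv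
    rcases this with rfl | rfl
    · rw [Equiv.swap_apply_left] at hτ; exact huv hτ.symm
    · rw [Equiv.swap_apply_right] at hτ; exact huv hτ

/-- An element mapping a transvection to a monomial element is monomial. -/
theorem Ctx.mono_of_image (hC : Ctx M) {g : Mt F ι k} (hg : g ∈ M) {a : ι} {c : Fin k → F} {l : F}
    (hc : IsRt c l) (h : Mono (g * sl a (rt c l) * gᴴ)) : Mono g := by
  obtain ⟨A, σ, hA, he⟩ := h
  obtain ⟨h1, h2, h3⟩ := conj_rt_props (hC.ov.isU _ hg) (a := a) hc
  rw [he] at h1 h2 h3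
  rcases classify hC.good.three hA h1 h2 a h3 with ⟨b, f, m, hf, hz⟩ | ⟨h20, hk, i, j, hij, -, X, hX, hz⟩
  · exact hC.map_root hg hc hf (he.trans hz)
  · exfalso
    by_cases hp : ∃ p, p ≠ i ∧ p ≠ j
    · obtain ⟨p, hpi, hpj⟩ := hp
      exact hC.swap_absurd_outer hg hc hij hX (he.trans hz) hpi hpj
    · push Not at hp
      exact hC.swap_absurd_two hk h20 hg hc hij (fun p => or_iff_not_imp_left.2 (hp p)) hX (he.trans hz)

end Cfsg.Agent.H30.UWreath
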