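import Cfsg.Agent.H30.UWreath.Herm
import Mathlib.LinearAlgebra.Matrix.Kronecker

/-!
Two factors: column blocks, unipotent elements at a singular vector of the first factor.
-/

set_option autoImplicit false
set_option linter.unusedSectionVars false

namespace Cfsg.Agent.H30.UWreath

open Matrix
open scoped Kronecker

variable {F : Type*} [Field F] [StarRing F] [UField F] [Finite F] {κ β : Type*} [Fintype κ] [DecidableEq κ]
  [Fintype β] [DecidableEq β]

/-- The columns of `c ⊗ 1`. -/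
def cb (β : Type*) [DecidableEq β] (c : κ → F) : Matrix (κ × β) β F := of fun p y => c p.1 * (1 : Matrix β β F) p.2 y

theorem cb_apply (c : κ → F) (p : κ × β) (y : β) : cb β c p y = c p.1 * (1 : Matrix β β F) p.2 y := rfl

theorem cb_add (c d : κ → F) : cb β (c + d) = cb β c + cb β d :=
  Matrix.ext fun p y => by simp [cb_apply, add_mul]

theorem cb_smul (r : F) (c : κ → F) : cb β (r • c) = r • cb β c :=
  Matrix.ext fun p y => by simp [cb_apply, mul_assoc]

@[simp] theorem cb_zero : cb β (0 : κ → F) = 0 := Matrix.ext fun p y => by simp [cb_apply]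

theorem cb_neg (c : κ → F) : cb β (-c) = -cb β c := by
  rw [← neg_one_smul F c, cb_smul, neg_one_smul]

theorem cb_sub (c d : κ → F) : cb β (c - d) = cb β c - cb β d := by
  rw [sub_eq_add_neg, cb_add, cb_neg, sub_eq_add_neg]

theorem cb_sum {μ : Type*} (s : Finset μ) (c : μ → κ → F) :
    cb β (∑ i ∈ s, c i) = ∑ i ∈ s, cb β (c i) :=
  map_sum (AddMonoidHom.mk' (fun c : κ → F => cb β c) (cb_add (β := β))) c s

theorem cbH_cb (c e : κ → F) : (cb β c)ᴴ * cb β e = ip e c • (1 : Matrix β β F) := by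
  ext x y
  simp only [Matrix.mul_apply, conjTranspose_apply, cb_apply, one_apply, Fintype.sum_prod_type, mul_ite, mul_one, mul_zero,
    Matrix.smul_apply, smul_eq_mul, ip, dotProduct, Pi.star_apply]
  split_ifs with h
  · subst h
    refine Finset.sum_congr rfl fun i _ => ?_
    rw [Finset.sum_eq_single x (fun b _ hb => by rw [if_neg hb]) (fun hb => (hb (Finset.mem_univ _)).elim), if_pos rfl,
      if_pos rfl, mul_comm]
  · refine Finset.sum_eq_zero fun i _ => Finset.sum_eq_zero fun z _ => ?_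
    rcases eq_or_ne z y with hz | hz
    · rw [if_pos hz, if_neg (fun hzx => h (hzx.symm.trans hz))]; simp
    · rw [if_neg hz]

theorem kr_cb (A : Matrix κ κ F) (B : Matrix β β F) (c : κ → F) : (A ⊗ₖ B) * cb β c = cb β (A *ᵥ c) * B := by
  ext p y
  simp only [Matrix.mul_apply, kroneckerMap_apply, cb_apply, one_apply, Fintype.sum_prod_type, mul_ite, mul_one, mul_zero,
    ite_mul, zero_mul, Finset.sum_ite_eq, Finset.sum_ite_eq', Finset.mem_univ, if_true, Matrix.mulVec, dotProduct]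
  rw [Finset.sum_mul]
  exact Finset.sum_congr rfl fun i _ => by ring

theorem cb_cbH (c d : κ → F) : cb β c * (cb β d)ᴴ = dy c d ⊗ₖ (1 : Matrix β β F) := by
  ext p p'
  simp only [Matrix.mul_apply, conjTranspose_apply, cb_apply, one_apply, kroneckerMap_apply, mul_ite, mul_one, mul_zero,
    dy, vecMulVec_apply, Pi.star_apply]
  rcases eq_or_ne p.2 p'.2 with h | h
  · rw [Finset.sum_eq_single p.2 (fun b _ hb => by rw [if_neg (Ne.symm hb)]; simp) (fun hb => (hb (Finset.mem_univ _)).elim)]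
    simp [h]
  · rw [if_neg h]
    refine Finset.sum_eq_zero fun z _ => ?_
    rcases eq_or_ne p.2 z with hz | hz
    · rw [if_neg (fun hz' : p'.2 = z => h (hz.trans hz'.symm))]; simp
    · rw [if_neg hz]; simp

theorem dy_single_sum : ∑ i : κ, dy (Pi.single i (1 : F)) (Pi.single i (1 : F)) = 1 := by
  refine Matrix.ext_iff_mulVec.2 fun x => ?_
  rw [one_mulVec, sum_mulVec]
  simp only [dy_mulVec]
  funext j
  simp [Finset.sum_apply, ip, Pi.single_apply, Finset.sum_ite_eq]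

theorem sum_cb : ∑ i : κ, cb β (Pi.single i (1 : F)) * (cb β (Pi.single i (1 : F)))ᴴ = 1 := by
  simp only [cb_cbH]
  rw [← one_kronecker_one]
  ext p q
  simp only [Matrix.sum_apply, kroneckerMap_apply, ← Finset.sum_mul]
  rw [← Matrix.sum_apply, dy_single_sum]

theorem ext_cb {μ : Type*} {X Y : Matrix μ (κ × β) F} (h : ∀ c : κ → F, X * cb β c = Y * cb β c) : X = Y := by
  rw [← Matrix.mul_one X, ← Matrix.mul_one Y, ← sum_cb, Matrix.mul_sum, Matrix.mul_sum]
  simp only [← Matrix.mul_assoc, h]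

theorem cb_cancel {μ : Type*} {c : κ → F} (hc : c ≠ 0) {X Y : Matrix β μ F}
    (h : cb β c * X = cb β c * Y) : X = Y := by
  obtain ⟨y, hy⟩ := (hU F κ).exists_one hc
  rw [hU_B] at hy
  have h1 := congrArg (fun Z => (cb β y)ᴴ * Z) h
  simpa only [← Matrix.mul_assoc, cbH_cb, hy, one_smul, Matrix.one_mul] using h1

theorem cbH_cancel {μ : Type*} {c : κ → F} (hc : c ≠ 0) {X Y : Matrix μ β F}
    (h : X * (cb β c)ᴴ = Y * (cb β c)ᴴ) : X = Y := by
  have h1 := congrArg conjTranspose h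
  rw [conjTranspose_mul, conjTranspose_mul, conjTranspose_conjTranspose] at h1
  exact conjTranspose_injective (cb_cancel hc h1)

theorem IsU.kr {A : Matrix κ κ F} {B : Matrix β β F} (hA : IsU A) (hB : IsU B) : IsU (A ⊗ₖ B) := by
  rw [IsU, conjTranspose_kronecker, ← mul_kronecker_mul, hA, hB, one_kronecker_one]

theorem kr_left_mul (A A' : Matrix κ κ F) :
    (A ⊗ₖ (1 : Matrix β β F)) * (A' ⊗ₖ 1) = (A * A') ⊗ₖ 1 := by rw [← mul_kronecker_mul, Matrix.one_mul]

theorem kr_conjT (A : Matrix κ κ F) : (A ⊗ₖ (1 : Matrix β β F))ᴴ = Aᴴ ⊗ₖ 1 := by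
  rw [conjTranspose_kronecker, conjTranspose_one]

theorem kr_left_inj [Nonempty β] {A A' : Matrix κ κ F} (h : A ⊗ₖ (1 : Matrix β β F) = A' ⊗ₖ 1) : A = A' := by
  obtain ⟨y⟩ := ‹Nonempty β›
  ext i j
  simpa using congrFun (congrFun h (i, y)) (j, y)

theorem kr_right_inj [Nonempty κ] {B B' : Matrix β β F} (h : (1 : Matrix κ κ F) ⊗ₖ B = 1 ⊗ₖ B') : B = B' := by
  obtain ⟨y⟩ := ‹Nonempty κ›
  ext i j
  simpa using congrFun (congrFun h (y, i)) (y, j)

/-- A unitary tensor product has unitary factors, up to scaling. -/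
theorem exists_unit_scale [Nonempty κ] [Nonempty β] {A : Matrix κ κ F} {B : Matrix β β F} (h : IsU (A ⊗ₖ B)) :
    ∃ A' B', IsU A' ∧ IsU B' ∧ A ⊗ₖ B = A' ⊗ₖ B' := by
  rw [IsU, conjTranspose_kronecker, ← mul_kronecker_mul, ← one_kronecker_one] at h
  obtain ⟨z⟩ := ‹Nonempty β›
  obtain ⟨i⟩ := ‹Nonempty κ›
  have hA : ∀ j j', (Aᴴ * A) j j' * (Bᴴ * B) z z = (1 : Matrix κ κ F) j j' := fun j j' => by
    simpa using congrFun (congrFun h (j, z)) (j', z)
  have hB : ∀ y y', (Aᴴ * A) i i * (Bᴴ * B) y y' = (1 : Matrix β β F) y y' := fun y y' => by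
    simpa using congrFun (congrFun h (i, y)) (i, y')
  set m := (Bᴴ * B) z z
  have hm : (Aᴴ * A) i i * m = 1 := by simpa using hA i i
  have hm0 : m ≠ 0 := right_ne_zero_of_mul_eq_one hm
  have hms : star m = m := by
    show star ((Bᴴ * B) z z) = _
    rw [← conjTranspose_apply, conjTranspose_mul, conjTranspose_conjTranspose]
  obtain ⟨x, hx⟩ := UField.norm m hms
  have hx0 : x ≠ 0 := fun e => hm0 (by rw [← hx, e, zero_mul])
  refine ⟨x • A, x⁻¹ • B, ?_, ?_, ?_⟩
  · rw [IsU, conjTranspose_smul, smul_mul_smul_comm]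
    ext j j'
    rw [Matrix.smul_apply, smul_eq_mul, mul_comm (star x), hx, mul_comm, hA]
  · rw [IsU, conjTranspose_smul, smul_mul_smul_comm]
    ext y y'
    have : (Aᴴ * A) i i = m⁻¹ := eq_inv_of_mul_eq_one_left hm
    rw [Matrix.smul_apply, smul_eq_mul, ← hB, this, star_inv₀, ← _root_.mul_inv_rev, hx]
  · rw [smul_kronecker, kronecker_smul, smul_smul, mul_inv_cancel₀ hx0, one_smul]

/-- `1 + c c* ⊗ A`. -/
def up (c : κ → F) (A : Matrix β β F) : Matrix (κ × β) (κ × β) F := 1 + cb β c * A * (cb β c)ᴴ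

theorem up_eq (c : κ → F) (A : Matrix β β F) : up c A = 1 + dy c c ⊗ₖ A := by
  rw [up]
  congr 1
  refine ext_cb fun x => ?_
  rw [Matrix.mul_assoc (cb β c * A), cbH_cb, Matrix.mul_smul, Matrix.mul_one, kr_cb, dy_mulVec, cb_smul, Matrix.smul_mul]

theorem up_cb {c : κ → F} (hc : ip c c = 0) (A : Matrix β β F) : up c A * cb β c = cb β c := by
  rw [up, Matrix.add_mul, Matrix.one_mul, Matrix.mul_assoc, cbH_cb, hc, zero_smul, Matrix.mul_zero, add_zero]

theorem up_mul {c : κ → F} (hc : ip c c = 0) (A A' : Matrix β β F) : up c A * up c A' = up c (A + A') := by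
  rw [up, up, up, Matrix.add_mul, Matrix.one_mul, Matrix.mul_add, Matrix.mul_one,
    show cb β c * A * (cb β c)ᴴ * (cb β c * A' * (cb β c)ᴴ) = cb β c * A * ((cb β c)ᴴ * cb β c) * A' * (cb β c)ᴴ by
      simp only [Matrix.mul_assoc], cbH_cb, hc]
  simp only [zero_smul, Matrix.mul_zero, Matrix.zero_mul, Matrix.mul_add, Matrix.add_mul, add_zero]
  abel

@[simp] theorem up_zero (c : κ → F) : up c (0 : Matrix β β F) = 1 := by simp [up]

theorem up_conjT (c : κ → F) (A : Matrix β β F) : (up c A)ᴴ = up c Aᴴ := by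
  simp [up, Matrix.mul_assoc]

theorem up_inj {c : κ → F} (hc : c ≠ 0) {A A' : Matrix β β F} (h : up c A = up c A') : A = A' := by
  rw [up, up, add_right_inj, Matrix.mul_assoc, Matrix.mul_assoc] at h
  exact cbH_cancel hc (cb_cancel hc h)

theorem up_skew {c : κ → F} (hc0 : c ≠ 0) (hc : ip c c = 0) {A : Matrix β β F} (h : IsU (up c A)) : Aᴴ = -A := by
  rw [IsU, up_conjT, up_mul hc, ← up_zero c] at h
  exact eq_neg_of_add_eq_zero_left (up_inj hc0 h)

theorem up_conj (D : Matrix κ κ F) (hD : IsU D) (c : κ → F) (A : Matrix β β F) :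
    (D ⊗ₖ (1 : Matrix β β F)) * up c A * (D ⊗ₖ 1)ᴴ = up (D *ᵥ c) A := by
  rw [up, Matrix.mul_add, Matrix.add_mul, Matrix.mul_one, (hD.kr isU_one).inv_right, up]
  congr 1
  rw [← Matrix.mul_assoc, ← Matrix.mul_assoc, kr_cb, Matrix.mul_one,
    show cb β (D *ᵥ c) * A * (cb β c)ᴴ * (D ⊗ₖ (1 : Matrix β β F))ᴴ = cb β (D *ᵥ c) * A * ((D ⊗ₖ (1 : Matrix β β F)) * cb β c)ᴴ by
      rw [conjTranspose_mul, Matrix.mul_assoc (cb β (D *ᵥ c) * A)], kr_cb, Matrix.mul_one]

theorem up_scalar (c : κ → F) (μ : F) : up c (μ • (1 : Matrix β β F)) = rt c μ ⊗ₖ 1 := by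
  rw [up_eq, rt, add_kronecker, one_kronecker_one, kronecker_smul, smul_kronecker]

/-- Fixing the block of `c` and translating its orthogonal into it. -/
def rd (c : κ → F) (G : Matrix (κ × β) β F) (R : Matrix β β F) : Matrix (κ × β) (κ × β) F :=
  1 + (G * (cb β c)ᴴ - cb β c * Gᴴ + cb β c * R * (cb β c)ᴴ)

theorem rd_mul {c : κ → F} (hc : ip c c = 0) {G G' : Matrix (κ × β) β F} (hG : (cb β c)ᴴ * G = 0)
    (hG' : (cb β c)ᴴ * G' = 0) (R R' : Matrix β β F) :
    rd c G R * rd c G' R' = rd c (G + G') (R + R' - Gᴴ * G') := by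
  have h0 : (cb β c)ᴴ * cb β c = 0 := by rw [cbH_cb, hc, zero_smul]
  have h1 : Gᴴ * cb β c = 0 := by simpa using congrArg conjTranspose hG
  have a1 : ∀ Z : Matrix β (κ × β) F, (cb β c)ᴴ * (cb β c * Z) = 0 := fun Z => by rw [← Matrix.mul_assoc, h0, Matrix.zero_mul]
  have a2 : ∀ Z : Matrix β (κ × β) F, (cb β c)ᴴ * (G' * Z) = 0 := fun Z => by
    rw [← Matrix.mul_assoc, hG', Matrix.zero_mul]
  have a3 : ∀ Z : Matrix β (κ × β) F, Gᴴ * (cb β c * Z) = 0 := fun Z => by rw [← Matrix.mul_assoc, h1, Matrix.zero_mul]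
  simp only [rd, Matrix.add_mul, Matrix.sub_mul, Matrix.mul_add, Matrix.mul_sub, Matrix.one_mul, Matrix.mul_one,
    Matrix.mul_assoc, a1, a2, a3, Matrix.mul_zero, conjTranspose_add]
  abel

theorem rd_conjT (c : κ → F) (G : Matrix (κ × β) β F) (R : Matrix β β F) : (rd c G R)ᴴ = rd c (-G) Rᴴ := by
  simp only [rd, conjTranspose_add, conjTranspose_sub, conjTranspose_one, conjTranspose_mul, conjTranspose_neg,
    conjTranspose_conjTranspose, Matrix.neg_mul, Matrix.mul_neg, Matrix.mul_assoc]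
  abel

@[simp] theorem rd_zero (c : κ → F) (R : Matrix β β F) : rd c (0 : Matrix (κ × β) β F) R = up c R := by simp [rd, up]

theorem rd_sgm (c f : κ → F) (r : F) : rd c (cb β f) (r • (1 : Matrix β β F)) = sgm c f r ⊗ₖ 1 := by
  rw [rd, sgm, cb_cbH, cb_cbH, Matrix.mul_smul, Matrix.mul_one, Matrix.smul_mul, cb_cbH, add_kronecker,
    one_kronecker_one, add_kronecker, smul_kronecker,
    show (dy f c - dy c f) ⊗ₖ (1 : Matrix β β F) = dy f c ⊗ₖ 1 - dy c f ⊗ₖ 1 from Matrix.ext fun _ _ => sub_mul _ _ _]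

theorem rd_inj {c : κ → F} (hc0 : c ≠ 0) {G : Matrix (κ × β) β F} {R R' : Matrix β β F}
    (h : rd c G R = rd c G R') : R = R' := by
  rw [rd, rd, add_right_inj, add_right_inj, Matrix.mul_assoc, Matrix.mul_assoc] at h
  exact cbH_cancel hc0 (cb_cancel hc0 h)

theorem rd_isU {c : κ → F} (hc0 : c ≠ 0) (hc : ip c c = 0) {G : Matrix (κ × β) β F} (hG : (cb β c)ᴴ * G = 0)
    {R : Matrix β β F} (h : IsU (rd c G R)) : R + Rᴴ = -(Gᴴ * G) := by
  have hn : (cb β c)ᴴ * -G = 0 := by rw [Matrix.mul_neg, hG, neg_zero]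
  rw [IsU, rd_conjT, rd_mul hc hn hG, neg_add_cancel, rd_zero, ← up_zero c] at h
  have := up_inj hc0 h
  rw [conjTranspose_neg, Matrix.neg_mul, sub_neg_eq_add] at this
  rw [add_comm R, eq_neg_iff_add_eq_zero, this]

/-- The commutator of two radical elements. -/
theorem rd_comm {c : κ → F} (hc0 : c ≠ 0) (hc : ip c c = 0) {G G' : Matrix (κ × β) β F} (hG : (cb β c)ᴴ * G = 0)
    (hG' : (cb β c)ᴴ * G' = 0) {R R' : Matrix β β F} (h : IsU (rd c G R)) (h' : IsU (rd c G' R')) :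
    rd c G R * rd c G' R' * (rd c G R)ᴴ * (rd c G' R')ᴴ = up c (G'ᴴ * G - Gᴴ * G') := by
  have hn : (cb β c)ᴴ * -G = 0 := by rw [Matrix.mul_neg, hG, neg_zero]
  have hn' : (cb β c)ᴴ * -G' = 0 := by rw [Matrix.mul_neg, hG', neg_zero]
  have hs : (cb β c)ᴴ * (G + G') = 0 := by rw [Matrix.mul_add, hG, hG', add_zero]
  have e1 := rd_isU hc0 hc hG h
  have e2 := rd_isU hc0 hc hG' h'
  rw [rd_conjT, rd_conjT, rd_mul hc hG hG', rd_mul hc hs hn,
    rd_mul hc (by rw [Matrix.mul_add, hs, hn, add_zero]) hn']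
  rw [show G + G' + -G + -G' = 0 by abel, rd_zero]
  congr 1
  have a1 : Rᴴ = -(Gᴴ * G) - R := by rw [← e1]; abel
  have a2 : R'ᴴ = -(G'ᴴ * G') - R' := by rw [← e2]; abel
  rw [a1, a2]
  simp only [conjTranspose_add, conjTranspose_neg, Matrix.add_mul, Matrix.mul_neg, Matrix.neg_mul]
  abel

end Cfsg.Agent.H30.UWreath
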