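import Cfsg.Agent.H30.UWreath.Kron

/-!
An isometry fixing the block of a singular vector which transports the first factor into a small overgroup lies
in the first factor.
-/

set_option autoImplicit false
set_option maxHeartbeats 1000000
set_option linter.unusedSectionVars false

namespace Cfsg.Agent.H30.UWreath

open Matrix Cfsg.Agent.H98.TensorUnit
open scoped Kronecker

variable {F : Type*} [Field F] [StarRing F] [UField F] [Finite F] {κ β : Type*} [Fintype κ] [DecidableEq κ]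
  [Fintype β] [DecidableEq β]

/-- A group of isometries containing the special unitary group of the first factor. -/
structure Ov2 (M : Set (Matrix (κ × β) (κ × β) F)) : Prop where
  isU : ∀ g ∈ M, IsU g
  mul : ∀ g ∈ M, ∀ h ∈ M, g * h ∈ M
  inv : ∀ g ∈ M, gᴴ ∈ M
  fst : ∀ A : Matrix κ κ F, IsSU A → A ⊗ₖ (1 : Matrix β β F) ∈ M

/-- Only scalar translations at singular vectors. -/
def Small2 (M : Set (Matrix (κ × β) (κ × β) F)) : Prop :=
  ∀ c : κ → F, c ≠ 0 → ip c c = 0 → ∀ A : Matrix β β F, up c A ∈ M → ∃ μ : F, A = μ • 1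

/-- Transport along an isometry of the first factor. -/
def conj2 (D : Matrix κ κ F) (M : Set (Matrix (κ × β) (κ × β) F)) : Set (Matrix (κ × β) (κ × β) F) :=
  {x | IsU x ∧ (D ⊗ₖ (1 : Matrix β β F)) * x * (D ⊗ₖ (1 : Matrix β β F))ᴴ ∈ M}

theorem IsU.conj_cancel {κ' : Type*} [Fintype κ'] [DecidableEq κ'] {T : Matrix κ' κ' F} (hT : IsU T)
    (x y : Matrix κ' κ' F) : T * (x * y) * Tᴴ = (T * x * Tᴴ) * (T * y * Tᴴ) := by
  simp only [Matrix.mul_assoc]
  rw [← Matrix.mul_assoc Tᴴ T, hT, Matrix.one_mul]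

theorem Ov2.conj {M : Set (Matrix (κ × β) (κ × β) F)} (hM : Ov2 M) {D : Matrix κ κ F} (hD : IsU D) :
    Ov2 (conj2 D M) := by
  have hT : IsU (D ⊗ₖ (1 : Matrix β β F)) := hD.kr isU_one
  refine ⟨fun g hg => hg.1, fun g hg h hh => ⟨hg.1.mul hh.1, ?_⟩, fun g hg => ⟨hg.1.conjT, ?_⟩,
    fun A hA => ⟨hA.1.kr isU_one, ?_⟩⟩
  · rw [hT.conj_cancel]; exact hM.mul _ hg.2 _ hh.2
  · have := hM.inv _ hg.2
    simpa [Matrix.mul_assoc] using this
  · rw [kr_conjT, kr_left_mul, kr_left_mul]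
    refine hM.fst _ ⟨(hD.mul hA.1).mul hD.conjT, ?_⟩
    rw [det_mul, det_mul, hA.2, mul_one, ← det_mul, hD.inv_right, det_one]

theorem Small2.conj {M : Set (Matrix (κ × β) (κ × β) F)} (hS : Small2 M) {D : Matrix κ κ F} (hD : IsU D) :
    Small2 (conj2 D M) := by
  intro c hc0 hc A hA
  have h := hA.2
  rw [up_conj D hD] at h
  refine hS _ (fun h0 => hc0 ?_) (by rw [hD.ip_map, hc]) A h
  have := congrArg (Dᴴ *ᵥ ·) h0
  simpa [mulVec_mulVec, show Dᴴ * D = 1 from hD] using this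

theorem smul_one_inj [Nonempty β] {r s : F} (h : r • (1 : Matrix β β F) = s • 1) : r = s := by
  obtain ⟨y⟩ := ‹Nonempty β›
  simpa using congrFun (congrFun h y) y

theorem ext_cbH {μ : Type*} {X Y : Matrix (κ × β) μ F} (h : ∀ c : κ → F, (cb β c)ᴴ * X = (cb β c)ᴴ * Y) : X = Y :=
  conjTranspose_injective (ext_cb fun c => by
    simpa only [conjTranspose_mul, conjTranspose_conjTranspose] using congrArg conjTranspose (h c))

theorem up_smul_vec (r : F) (c : κ → F) (A : Matrix β β F) : up (r • c) A = up c ((r * star r) • A) := by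
  simp only [up, cb_smul, conjTranspose_smul, Matrix.smul_mul, Matrix.mul_smul, smul_smul, mul_comm (star r)]

theorem line [Nonempty β] {M : Set (Matrix (κ × β) (κ × β) F)} (hM : Ov2 M) (hS : Small2 M)
    (hκ : 3 ≤ Fintype.card κ) (hq : (∃ r : F, r ≠ 0 ∧ r * star r ≠ 1) ∨ 4 ≤ Fintype.card κ)
    {g : Matrix (κ × β) (κ × β) F} (hg : IsU g)
    (hconj : ∀ A : Matrix κ κ F, IsSU A → g * (A ⊗ₖ (1 : Matrix β β F)) * gᴴ ∈ M) {c : κ → F} (hc0 : c ≠ 0)
    (hc : ip c c = 0) (hfix : g * cb β c = cb β c) : ∃ A : Matrix κ κ F, IsU A ∧ g = A ⊗ₖ 1 := by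
  obtain ⟨e, hee, hce⟩ := (hU F κ).exists_partner hc0 hc
  simp only [hU_B] at hee hce
  have hec := ip_symm1 hce
  obtain ⟨a, ha⟩ := UField.ne (F := F)
  obtain ⟨y0⟩ := ‹Nonempty β›
  -- generalities for an isometry fixing the block
  have gen : ∀ g : Matrix (κ × β) (κ × β) F, IsU g → g * cb β c = cb β c → (cb β c)ᴴ * g = (cb β c)ᴴ ∧
      ∀ (f : κ → F) (r : F), g * (sgm c f r ⊗ₖ (1 : Matrix β β F)) * gᴴ = rd c (g * cb β f) (r • 1) := by
    intro g hg hfix
    have h1 : gᴴ * cb β c = cb β c := by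
      conv_lhs => rw [← hfix, ← Matrix.mul_assoc, show gᴴ * g = 1 from hg, Matrix.one_mul]
    have h2 : (cb β c)ᴴ * g = (cb β c)ᴴ := by
      simpa using congrArg conjTranspose h1
    have h3 : (cb β c)ᴴ * gᴴ = (cb β c)ᴴ := by simpa using congrArg conjTranspose hfix
    refine ⟨h2, fun f r => ?_⟩
    rw [← rd_sgm, rd, rd]
    simp only [Matrix.mul_add, Matrix.mul_sub, Matrix.add_mul, Matrix.sub_mul, Matrix.mul_one, hg.inv_right,
      Matrix.mul_assoc, conjTranspose_mul, h3, Matrix.smul_mul, Matrix.mul_smul, Matrix.one_mul]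
    rw [← Matrix.mul_assoc g (cb β c), ← Matrix.mul_assoc g (cb β c), hfix]
  obtain ⟨hfixH, hsgm⟩ := gen g hg hfix
  -- cross products are scalar
  have key : ∀ f f' : κ → F, ip f c = 0 → ip f' c = 0 →
      ∃ μ : F, (cb β f')ᴴ * g * cb β f = μ • 1 := by
    have step : ∀ f f' : κ → F, ip f c = 0 → ip f' c = 0 →
        ∃ μ : F, (cb β f')ᴴ * g * cb β f - ((cb β f')ᴴ * g * cb β f)ᴴ = μ • 1 := by
      intro f f' hf hf'
      obtain ⟨r, hr⟩ := (hU F κ).exists_trace (-ip f f) (by rw [map_neg]; exact congrArg Neg.neg (ip_conj f f))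
      obtain ⟨r', hr'⟩ := (hU F κ).exists_trace (-ip f' f') (by rw [map_neg]; exact congrArg Neg.neg (ip_conj f' f'))
      rw [starRingAut_apply] at hr hr'
      have hu := hconj _ (sgm_isSU hc hf hr)
      rw [hsgm] at hu
      have hu' := hM.fst _ (sgm_isSU hc hf' hr')
      rw [← rd_sgm] at hu'
      have G0 : (cb β c)ᴴ * (g * cb β f) = 0 := by
        rw [← Matrix.mul_assoc, hfixH, cbH_cb, hf, zero_smul]
      have G0' : (cb β c)ᴴ * cb β f' = 0 := by rw [cbH_cb, hf', zero_smul]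
      have h := hM.mul _ (hM.mul _ (hM.mul _ hu _ hu') _ (hM.inv _ hu)) _ (hM.inv _ hu')
      rw [rd_comm hc0 hc G0 G0' (hM.isU _ hu) (hM.isU _ hu')] at h
      obtain ⟨μ, hμ⟩ := hS c hc0 hc _ h
      refine ⟨μ, ?_⟩
      rw [← hμ, Matrix.mul_assoc _ g, conjTranspose_mul, conjTranspose_mul, conjTranspose_conjTranspose]
    intro f f' hf hf'
    obtain ⟨μ, hμ⟩ := step f f' hf hf'
    obtain ⟨μ', hμ'⟩ := step f (a • f') hf (by rw [ip_smul_left, hf', mul_zero])
    simp only [cb_smul, conjTranspose_smul, Matrix.smul_mul, star_star] at hμ'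
    refine ⟨(star a - a)⁻¹ * (μ' - a * μ), ?_⟩
    set X := (cb β f')ᴴ * g * cb β f
    have h1 : (star a - a) • X = (μ' - a * μ) • (1 : Matrix β β F) := by
      rw [sub_smul, sub_smul, ← hμ', ← smul_smul, ← hμ, smul_sub]
      abel
    rw [← smul_smul, ← h1, smul_smul, inv_mul_cancel₀ (sub_ne_zero.2 ha), one_smul]
  -- the induced map on the orthogonal of `c`
  let d : κ → κ → F := fun i => Pi.single i 1 - ip (Pi.single i 1) c • e
  have hd : ∀ i, ip (d i) c = 0 := fun i => by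
    simp only [d, ip_sub_left, ip_smul_left, hec, mul_one, sub_self]
  let φ : (κ → F) →ₗ[F] (κ → F) :=
    { toFun := fun f i => ((cb β (d i))ᴴ * g * cb β f) y0 y0
      map_add' := fun f f' => funext fun i => by simp [cb_add, Matrix.mul_add]
      map_smul' := fun r f => funext fun i => by simp [cb_smul] }
  have hφ : ∀ f, ip f c = 0 → g * cb β f = cb β (φ f) + cb β c * ((cb β e)ᴴ * g * cb β f) := by
    intro f hf
    calc g * cb β f = (∑ i : κ, cb β (Pi.single i (1 : F)) * (cb β (Pi.single i (1 : F)))ᴴ :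
          Matrix (κ × β) (κ × β) F) * (g * cb β f) := by rw [sum_cb, Matrix.one_mul]
      _ = ∑ i : κ, (φ f i • cb β (Pi.single i (1 : F)) +
          ip c (Pi.single i (1 : F)) • (cb β (Pi.single i (1 : F)) * ((cb β e)ᴴ * g * cb β f))) := by
        rw [Matrix.sum_mul]
        refine Finset.sum_congr rfl fun i _ => ?_
        obtain ⟨μ, hμ⟩ := key f (d i) hf (hd i)
        have hi : φ f i = μ := by
          show ((cb β (d i))ᴴ * g * cb β f) y0 y0 = μ
          rw [hμ]; simp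
        have h1 : (Pi.single i (1 : F) : κ → F) = d i + ip (Pi.single i 1) c • e := by simp [d]
        have h2 : (cb β (Pi.single i (1 : F)))ᴴ * g * cb β f = μ • 1 + ip c (Pi.single i 1) • ((cb β e)ᴴ * g * cb β f) := by
          rw [h1, cb_add, cb_smul, conjTranspose_add, conjTranspose_smul, ip_conj, Matrix.add_mul, Matrix.add_mul,
            hμ, Matrix.smul_mul, Matrix.smul_mul, ← h1]
        rw [hi, Matrix.mul_assoc (cb β (Pi.single i (1 : F))), ← Matrix.mul_assoc _ g (cb β f), h2, Matrix.mul_add,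
          Matrix.mul_smul, Matrix.mul_one, Matrix.mul_smul]
      _ = _ := by
        rw [Finset.sum_add_distrib]
        simp only [← cb_smul, ← Matrix.smul_mul]
        rw [← Matrix.sum_mul, ← cb_sum, ← cb_sum]
        congr
        · funext j; simp [Finset.sum_apply, Pi.single_apply]
        · funext j; simp [Finset.sum_apply, Pi.single_apply, ip]
  have hφc : ∀ f, ip f c = 0 → ip (φ f) c = 0 := by
    intro f hf
    have h := congrArg ((cb β c)ᴴ * ·) (hφ f hf)
    simp only [Matrix.mul_add, ← Matrix.mul_assoc, hfixH, cbH_cb, hf, hc, zero_smul, Matrix.zero_mul, add_zero] at h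
    exact smul_one_inj (β := β) (by rw [zero_smul]; exact h.symm)
  have hφi : ∀ f f', ip f c = 0 → ip f' c = 0 → ip (φ f) (φ f') = ip f f' := by
    intro f f' hf hf'
    refine smul_one_inj (β := β) ?_
    rw [← cbH_cb f' f]
    conv_rhs => rw [← Matrix.one_mul (cb β f), ← show gᴴ * g = 1 from hg, Matrix.mul_assoc, ← Matrix.mul_assoc (cb β f')ᴴ,
      ← conjTranspose_mul, hφ f hf, hφ f' hf']
    simp only [conjTranspose_add, conjTranspose_mul, Matrix.add_mul, Matrix.mul_add]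
    simp only [← Matrix.mul_assoc, cbH_cb, Matrix.smul_mul, Matrix.mul_smul, Matrix.mul_assoc _ (cb β c)ᴴ]
    simp [hc, hφc f hf, ip_symm0 (hφc f' hf')]
  let π : (κ → F) →ₗ[F] (κ → F) :=
    LinearMap.id - ((hU F κ).lin e).smulRight c - ((hU F κ).lin c).smulRight e
  have hπ : ∀ x, π x = x - ip x e • c - ip x c • e := fun x => rfl
  have hπc : ∀ x, ip (π x) c = 0 := fun x => by
    simp [hπ, ip_sub_left, ip_smul_left, hc, hec]
  have hπe : ∀ x, ip (π x) e = 0 := fun x => by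
    simp [hπ, ip_sub_left, ip_smul_left, hee, hce]
  let A₀ : (κ → F) →ₗ[F] (κ → F) := φ ∘ₗ π - ((hU F κ).lin e ∘ₗ φ ∘ₗ π).smulRight c +
    ((hU F κ).lin e).smulRight c + ((hU F κ).lin c).smulRight e
  set A := LinearMap.toMatrix' A₀ with hA
  have hAx : ∀ x, A *ᵥ x = φ (π x) - ip (φ (π x)) e • c + ip x e • c + ip x c • e := fun x => by
    rw [hA, LinearMap.toMatrix'_mulVec]; rfl
  have hπ0 : π c = 0 := by simp [hπ, hc, hce]
  have hAc : A *ᵥ c = c := by simp [hAx, hπ0, hc, hce]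
  have hAU : IsU A := IsU.of_ip fun x y => by
    have e1 := hφi _ _ (hπc x) (hπc y)
    have e2 : ip x y = ip (π x) (π y) + ip x e * star (ip y c) + ip x c * star (ip y e) := by
      rw [hπ y, ip_sub_right, ip_sub_right, ip_smul_right, ip_smul_right, hπc, hπe, hπ x, ip_sub_left,
        ip_sub_left, ip_smul_left, ip_smul_left, ip_conj, ip_conj]
      ring
    rw [e2, ← e1]
    simp only [hAx, ip_add_left, ip_add_right, ip_sub_left, ip_sub_right, ip_smul_left, ip_smul_right,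
      hφc _ (hπc x), ip_symm0 (hφc _ (hπc y)), hc, hee, hce, hec]
    rw [ip_conj, ip_conj, ← ip_conj (φ (π y)) e]
    ring
  -- remove it
  set T := A ⊗ₖ (1 : Matrix β β F) with hT
  have hTU : IsU T := hAU.kr isU_one
  set g₂ := Tᴴ * g with hg₂
  have hg₂U : IsU g₂ := hTU.conjT.mul hg
  have hTH : ∀ x : κ → F, Tᴴ * cb β x = cb β (Aᴴ *ᵥ x) := fun x => by
    rw [hT, kr_conjT, kr_cb, Matrix.mul_one]
  have hAHc : Aᴴ *ᵥ c = c := by
    conv_lhs => rw [← hAc, mulVec_mulVec, show Aᴴ * A = 1 from hAU, one_mulVec]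
  have hfix₂ : g₂ * cb β c = cb β c := by rw [hg₂, Matrix.mul_assoc, hfix, hTH, hAHc]
  obtain ⟨hfix₂H, hsgm₂⟩ := gen g₂ hg₂U hfix₂
  have hM₂ := hM.conj hAU
  have hS₂ := hS.conj hAU
  have hconj₂ : ∀ B : Matrix κ κ F, IsSU B → g₂ * (B ⊗ₖ (1 : Matrix β β F)) * g₂ᴴ ∈ conj2 A M := fun B hB => by
    refine ⟨(hg₂U.mul (hB.1.kr isU_one)).mul hg₂U.conjT, ?_⟩
    have : T * g₂ = g := by rw [hg₂, ← Matrix.mul_assoc, hTU.inv_right, Matrix.one_mul]
    rw [← hT, show T * (g₂ * (B ⊗ₖ (1 : Matrix β β F)) * g₂ᴴ) * Tᴴ = (T * g₂) * (B ⊗ₖ 1) * (T * g₂)ᴴ by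
      simp only [conjTranspose_mul, Matrix.mul_assoc], this]
    exact hconj B hB
  have hf₂ : ∀ f, ip f c = 0 → ip f e = 0 → ∃ R : Matrix β β F, g₂ * cb β f = cb β f + cb β c * R := by
    intro f hf hfe
    have hπf : π f = f := by simp [hπ, hf, hfe]
    have hAf : A *ᵥ f = φ f - ip (φ f) e • c := by simp [hAx, hπf, hf, hfe]
    refine ⟨ip (φ f) e • 1 + (cb β e)ᴴ * g * cb β f, ?_⟩
    rw [hg₂, Matrix.mul_assoc, hφ f hf, Matrix.mul_add, ← Matrix.mul_assoc, hTH c, hAHc, hTH, Matrix.mul_add,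
      Matrix.mul_smul, Matrix.mul_one, ← cb_smul, ← add_assoc, ← cb_add]
    congr 2
    have : φ f = A *ᵥ f + ip (φ f) e • c := by rw [hAf]; abel
    conv_lhs => rw [this, mulVec_add, mulVec_smul, hAHc, mulVec_mulVec, show Aᴴ * A = 1 from hAU, one_mulVec]
  -- translation parts
  have hR : ∀ f, ip f c = 0 → ip f e = 0 →
      g₂ * cb β f = cb β f + ((cb β e)ᴴ * g₂ * cb β f) y0 y0 • cb β c := by
    have step : ∀ (f : κ → F) (R : Matrix β β F), ip f c = 0 → g₂ * cb β f = cb β f + cb β c * R → ∃ μ : F, R - Rᴴ = μ • 1 := by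
      intro f R hf hR
      obtain ⟨r, hr⟩ := (hU F κ).exists_trace (-ip f f) (by rw [map_neg]; exact congrArg Neg.neg (ip_conj f f))
      rw [starRingAut_apply] at hr
      have hu := hconj₂ _ (sgm_isSU hc hf hr)
      rw [hsgm₂, hR] at hu
      have hs := hM₂.fst _ (sgm_isSU hc hf hr)
      have G0 : (cb β c)ᴴ * cb β f = 0 := by rw [cbH_cb, hf, zero_smul]
      have e1 : rd c (cb β f + cb β c * R) (r • 1) = up c (R - Rᴴ) * rd c (cb β f) (r • 1) := by
        rw [← rd_zero c (R - Rᴴ), rd_mul hc (Matrix.mul_zero _) G0, zero_add, conjTranspose_zero, Matrix.zero_mul,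
          sub_zero, rd, rd]
        simp only [conjTranspose_add, conjTranspose_mul, Matrix.add_mul, Matrix.mul_add, Matrix.sub_mul,
          Matrix.mul_sub, Matrix.mul_assoc]
        abel
      rw [e1, rd_sgm] at hu
      have h := hM₂.mul _ hu _ (hM₂.inv _ hs)
      rw [Matrix.mul_assoc, (hM₂.isU _ hs).inv_right, Matrix.mul_one] at h
      exact hS₂ c hc0 hc _ h
    intro f hf hfe
    obtain ⟨R, hR⟩ := hf₂ f hf hfe
    obtain ⟨μ, hμ⟩ := step f R hf hR
    obtain ⟨μ', hμ'⟩ := step (a • f) (a • R) (by rw [ip_smul_left, hf, mul_zero])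
      (by rw [cb_smul, Matrix.mul_smul, hR, Matrix.mul_smul, smul_add])
    rw [conjTranspose_smul] at hμ'
    have h1 : (a - star a) • R = (μ' - star a * μ) • (1 : Matrix β β F) := by
      rw [sub_smul, sub_smul, ← hμ', ← smul_smul, ← hμ, smul_sub]
      abel
    have hR1 : R = ((a - star a)⁻¹ * (μ' - star a * μ)) • 1 := by
      rw [← smul_smul, ← h1, smul_smul, inv_mul_cancel₀ (sub_ne_zero.2 (Ne.symm ha)), one_smul]
    have h2 : ((cb β e)ᴴ * g₂ * cb β f) y0 y0 = (a - star a)⁻¹ * (μ' - star a * μ) := by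
      rw [Matrix.mul_assoc, hR, Matrix.mul_add, ← Matrix.mul_assoc, cbH_cb, cbH_cb, hfe, hce, hR1]
      simp
    rw [h2, hR, hR1, Matrix.mul_smul, Matrix.mul_one]
  let ρ : (κ → F) →ₗ[F] F :=
    { toFun := fun f => ((cb β e)ᴴ * g₂ * cb β f) y0 y0
      map_add' := fun f f' => by simp [cb_add, Matrix.mul_add]
      map_smul' := fun r f => by simp [cb_smul] }
  set w := -(hU F κ).rep (ρ ∘ₗ π) with hw
  have hwx : ∀ x, ip x w = -ρ (π x) := fun x => by
    rw [hw, ip_neg_right, ← hU_B, Herm.B_rep]; rfl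
  have hwc : ip w c = 0 := ip_symm0 (by rw [hwx, hπ0, map_zero, neg_zero])
  obtain ⟨r, hr⟩ := (hU F κ).exists_trace (-ip w w) (by rw [map_neg]; exact congrArg Neg.neg (ip_conj w w))
  rw [starRingAut_apply] at hr
  have hsS := sgm_isSU hc hwc hr
  set S := sgm c w r ⊗ₖ (1 : Matrix β β F) with hSdef
  have hSU : IsU S := hsS.1.kr isU_one
  have hSf : ∀ x : κ → F, S * cb β x = cb β (x + (ip x c • w - ip x w • c + r • (ip x c • c))) := fun x => by
    rw [hSdef, kr_cb, Matrix.mul_one]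
    congr 1
    simp only [sgm, add_mulVec, sub_mulVec, one_mulVec, smul_mulVec, dy_mulVec]
  set g₃ := Sᴴ * g₂ with hg₃
  have hg₃U : IsU g₃ := hSU.conjT.mul hg₂U
  have hg₂₃ : g₂ = S * g₃ := by rw [hg₃, ← Matrix.mul_assoc, hSU.inv_right, Matrix.one_mul]
  have hfix₃ : g₃ * cb β c = cb β c := by
    rw [hg₃, Matrix.mul_assoc, hfix₂]
    conv_lhs => rw [show cb β c = S * cb β c by
      rw [hSf, hc, ip_symm0 hwc]; simp]
    rw [← Matrix.mul_assoc, show Sᴴ * S = 1 from hSU, Matrix.one_mul]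
  have hf₃ : ∀ f, ip f c = 0 → ip f e = 0 → g₃ * cb β f = cb β f := by
    intro f hf hfe
    have hπf : π f = f := by simp [hπ, hf, hfe]
    have h1 : g₂ * cb β f = S * cb β f := by
      rw [hR f hf hfe, hSf, hf, hwx, hπf, ← cb_smul, ← cb_add]
      congr 1
      simp [ρ]
    rw [hg₃, Matrix.mul_assoc, h1, ← Matrix.mul_assoc, show Sᴴ * S = 1 from hSU, Matrix.one_mul]
  obtain ⟨hfix₃H, -⟩ := gen g₃ hg₃U hfix₃
  set K := (cb β e)ᴴ * g₃ * cb β e with hK
  have hdec : ∀ x : κ → F, cb β x = cb β (π x) + ip x e • cb β c + ip x c • cb β e := fun x => by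
    rw [← cb_smul, ← cb_smul, ← cb_add, ← cb_add]
    congr 1
    rw [hπ]; abel
  have hE : g₃ * cb β e = cb β e + cb β c * K := by
    refine ext_cbH fun x => ?_
    have h1 : (cb β (π x))ᴴ * g₃ = (cb β (π x))ᴴ := by
      have h := congrArg (g₃ᴴ * ·) (hf₃ _ (hπc x) (hπe x))
      simp only [← Matrix.mul_assoc, show g₃ᴴ * g₃ = 1 from hg₃U, Matrix.one_mul] at h
      simpa using (congrArg conjTranspose h).symm
    rw [hdec x]
    simp only [conjTranspose_add, conjTranspose_smul, Matrix.add_mul, Matrix.mul_add, Matrix.smul_mul]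
    simp only [← Matrix.mul_assoc, h1, hfix₃H, cbH_cb, ← hK, hee, hec, hce, hc, ip_symm0 (hπe x), ip_symm0 (hπc x),
      zero_smul, one_smul, smul_zero, Matrix.zero_mul, Matrix.one_mul, add_zero, zero_add]
  have hup : g₃ = up c K := by
    refine ext_cb fun x => ?_
    rw [up, Matrix.add_mul, Matrix.one_mul, Matrix.mul_assoc (cb β c * K), cbH_cb, hdec x, Matrix.mul_add,
      Matrix.mul_add, Matrix.mul_smul, Matrix.mul_smul, hfix₃, hf₃ _ (hπc x) (hπe x), hE, smul_add,
      Matrix.mul_smul, Matrix.mul_one]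
    abel
  have hKs : Kᴴ = -K := up_skew hc0 hc (hup ▸ hg₃U)
  have hconj₃ : ∀ B : Matrix κ κ F, IsSU B →
      up c K * up (B *ᵥ c) (-K) ∈ conj2 A M := fun B hB => by
    have hs := hM₂.fst _ hsS
    have h1 := hM₂.mul _ (hM₂.mul _ (hM₂.inv _ hs) _ (hconj₂ B hB)) _ hs
    have h2 := hM₂.mul _ h1 _ (hM₂.inv _ (hM₂.fst _ hB))
    rw [← hSdef, hg₂₃] at h2
    convert h2 using 1
    rw [show Sᴴ * (S * g₃ * (B ⊗ₖ (1 : Matrix β β F)) * (S * g₃)ᴴ) * S * (B ⊗ₖ (1 : Matrix β β F))ᴴ =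
        Sᴴ * (S * g₃) * (B ⊗ₖ (1 : Matrix β β F)) * g₃ᴴ * (Sᴴ * S) * (B ⊗ₖ (1 : Matrix β β F))ᴴ by
      simp only [conjTranspose_mul, Matrix.mul_assoc],
      show Sᴴ * (S * g₃) = g₃ by rw [← Matrix.mul_assoc, show Sᴴ * S = 1 from hSU, Matrix.one_mul], show Sᴴ * S = 1 from hSU, Matrix.mul_one,
      hup, up_conjT, hKs, ← up_conj B hB.1]
    simp only [Matrix.mul_assoc]
  have hKscalar : ∃ μ : F, K = μ • 1 := by
    by_cases hr0 : ∃ r : F, r ≠ 0 ∧ r * star r ≠ 1
    · obtain ⟨r, hr0, hr1⟩ := hr0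
      obtain ⟨B, hB, hBc⟩ := exists_torus hκ hc0 hc hr0
      have h := hconj₃ B hB
      rw [hBc, up_smul_vec, up_mul hc] at h
      obtain ⟨μ, hμ⟩ := hS₂ c hc0 hc _ h
      refine ⟨(1 - r * star r)⁻¹ * μ, ?_⟩
      rw [← smul_smul, ← hμ, smul_neg, ← sub_eq_add_neg,
        show K - (r * star r) • K = (1 - r * star r) • K by rw [sub_smul, one_smul], smul_smul,
        inv_mul_cancel₀ (sub_ne_zero.2 (Ne.symm hr1)), one_smul]
    · push Not at hr0
      have h4 : 4 ≤ Fintype.card κ := hq.resolve_left (fun ⟨r, h0, h1⟩ => h1 (hr0 r h0))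
      have hreal : ∀ s : F, star s = s → s ≠ 0 → s = 1 := fun s hs hs0 => by
        obtain ⟨x, hx⟩ := UField.norm s hs
        rw [← hx, hr0 x (fun h => hs0 (by rw [← hx, h, zero_mul]))]
      have h20 : (2 : F) = 0 := by
        by_contra h
        have h2 := hreal 2 (star_ofNat 2) h
        exact one_ne_zero (show (1 : F) = 0 by linear_combination h2)
      have haa : a + star a = 1 := hreal _ (by rw [star_add, star_star, add_comm]) fun h => ha (by
        linear_combination h - a * h20)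
      have ha0 : a ≠ 0 := fun h => ha (by rw [h, star_zero])
      have han := hr0 a ha0
      obtain ⟨v, hv0, hv, hvc, hve⟩ : ∃ v : κ → F, v ≠ 0 ∧ ip v v = 0 ∧ ip v c = 0 ∧ ip v e = 0 := by
        have hf : Module.finrank F (κ → F) = Fintype.card κ := Module.finrank_fintype_fun_eq_card F
        have h2 := (hU F κ).finrank_mid c e
        obtain ⟨v, hv, hv0, hvv⟩ := (hU F κ).exists_iso_mem (U := (hU F κ).mid c e) (by omega)
        obtain ⟨h3, h4⟩ := (hU F κ).mem_mid.1 hv
        exact ⟨v, hv0, hvv, h3, h4⟩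
      have hplane : ∀ s t u s' : F, ip (s • c + t • v) (u • c + s' • v) = 0 := fun s t u s' => by
        simp [ip_add_left, ip_add_right, ip_smul_left, ip_smul_right, hc, hv, hvc, ip_symm0 hvc]
      have hne : ∀ α : F, c + α • v ≠ 0 := fun α h => one_ne_zero (α := F) (by
        have := congrArg (ip · e) h
        simpa [ip_add_left, ip_smul_left, hce, hve] using this)
      have hPP : ∀ x y : κ → F, x ≠ 0 → y ≠ 0 → ip x x = 0 → ip y y = 0 → ip y x = 0 →
          (1 + (dy x x + dy y y) ⊗ₖ K) ∈ conj2 A M := by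
        intro x y hx0 hy0 hx hy hxy
        obtain ⟨B, hB, rfl⟩ := exists_move hκ hc0 hc hx0 hx
        obtain ⟨B', hB', rfl⟩ := exists_move hκ hc0 hc hy0 hy
        have h := hM₂.mul _ (hM₂.inv _ (hconj₃ B hB)) _ (hconj₃ B' hB')
        rw [conjTranspose_mul, up_conjT, up_conjT, conjTranspose_neg, hKs, neg_neg, Matrix.mul_assoc,
          ← Matrix.mul_assoc (up c (-K)), up_mul hc, neg_add_cancel, up_zero, Matrix.one_mul,
          show -K = K from neg_eq_of_add_eq_zero_left (by rw [← two_smul F, h20, zero_smul])] at h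
        rw [up_eq, up_eq, Matrix.add_mul, Matrix.one_mul, Matrix.mul_add, Matrix.mul_one, ← mul_kronecker_mul,
          dy_mul, hxy, zero_smul, zero_kronecker, add_zero] at h
        rwa [add_kronecker, add_left_comm, add_comm (dy _ _ ⊗ₖ K)] at *
      have i1 : ∀ α : F, ip (c + α • v) (c + α • v) = 0 := fun α => by
        simpa using hplane 1 α 1 α
      have h1 := hPP v (c + (1 : F) • v) hv0 (hne 1) hv (i1 1) (by simpa using hplane 1 1 0 1)
      have h2 := hPP (c + a • v) (c + (a + 1) • v) (hne _) (hne _) (i1 _) (i1 _) (by simpa using hplane 1 (a + 1) 1 a)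
      have h := hM₂.mul _ h1 _ h2
      have hz : (dy v v + dy (c + (1 : F) • v) (c + (1 : F) • v)) *
          (dy (c + a • v) (c + a • v) + dy (c + (a + 1) • v) (c + (a + 1) • v)) = 0 := by
        simp [Matrix.add_mul, Matrix.mul_add, dy_mul, ip_add_left, ip_add_right, ip_smul_left, ip_smul_right, hc, hv,
          hvc, ip_symm0 hvc]
      have hsum : dy v v + dy (c + (1 : F) • v) (c + (1 : F) • v) +
          (dy (c + a • v) (c + a • v) + dy (c + (a + 1) • v) (c + (a + 1) • v)) = dy c c := by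
        simp only [dy_add_left, dy_add_right, dy_smul_left, dy_smul_right, star_add, star_one]
        match_scalars <;>
        · first
            | linear_combination h20
            | linear_combination (0 : F) * h20
            | linear_combination haa + (2 + a * star a) * h20
            | linear_combination haa + (1 + a * star a) * h20
            | linear_combination (a + 1) * h20
            | linear_combination (star a + 1) * h20
      rw [Matrix.add_mul, Matrix.one_mul, Matrix.mul_add, Matrix.mul_one, ← mul_kronecker_mul, hz, zero_kronecker,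
        add_zero, add_assoc, ← add_kronecker, add_comm (dy (c + a • v) (c + a • v) + _), hsum, ← up_eq] at h
      exact hS₂ c hc0 hc _ h
  obtain ⟨μ, hμ⟩ := hKscalar
  refine ⟨A * sgm c w r * rt c μ, (hAU.mul hsS.1).mul ?_, ?_⟩
  · rw [hμ, up_scalar] at hup
    have h := hup ▸ hg₃U
    rw [IsU, kr_conjT, kr_left_mul, ← one_kronecker_one (m := κ) (n := β)] at h
    exact kr_left_inj h
  · calc g = T * g₂ := by rw [hg₂, ← Matrix.mul_assoc, hTU.inv_right, Matrix.one_mul]
      _ = _ := by rw [hg₂₃, hup, hμ, up_scalar, hT, hSdef, kr_left_mul, kr_left_mul, Matrix.mul_assoc A]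

end Cfsg.Agent.H30.UWreath
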