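import Cfsg.Agent.H30.UWreath.Image

/-!
Linking maps at a singular vector: nilpotent linking makes a unipotent element monomial.
-/

set_option autoImplicit false
set_option maxHeartbeats 1000000
set_option linter.unusedSectionVars false

universe u

namespace Cfsg.Agent.H30.UWreath

open Matrix Cfsg.Agent.H98.TensorUnit
open scoped Kronecker

variable {F : Type*} [Field F] [StarRing F] [UField F] [Finite F] {k : ℕ} {ι : Type u} [Fintype ι] [DecidableEq ι]

theorem Ov.one {M : Set (Mt F ι k)} (hM : Ov M) (a : ι) : (1 : Mt F ι k) ∈ M := by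
  rw [← sl_one a]; exact hM.slot a 1 isSU_one

theorem Ov.pow {M : Set (Mt F ι k)} (hM : Ov M) (a : ι) {g : Mt F ι k} (hg : g ∈ M) (n : ℕ) : g ^ n ∈ M := by
  induction n with
  | zero => rw [pow_zero]; exact hM.one a
  | succ m ih => rw [pow_succ]; exact hM.mul _ ih _ hg

theorem conjT_of_sq {n : Type*} [Fintype n] [DecidableEq n] {z : Matrix n n F} (hz : IsU z)
    (h : (z - 1) * (z - 1) = 0) : (z - 1)ᴴ = -(z - 1) := by
  have h1 := add_conjT_of_sq hz h
  rw [conjTranspose_sub, conjTranspose_one, eq_sub_of_add_eq' h1, two_smul]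
  abel

/-- The linking map of `z` at `c` in the slot `a`. -/
def lk (a : ι) (c : Fin k → F) (z : Mt F ι k) : Matrix ({i // i ≠ a} → Fin k) ({i // i ≠ a} → Fin k) F :=
  (cb ({i // i ≠ a} → Fin k) c)ᴴ * rs a (z - 1) * cb ({i // i ≠ a} → Fin k) c

theorem lk_skew (a : ι) (c : Fin k → F) {z : Mt F ι k} (hz : IsU z) (h : (z - 1) * (z - 1) = 0) :
    (lk a c z)ᴴ = -lk a c z := by
  rw [lk, conjTranspose_mul, conjTranspose_mul, conjTranspose_conjTranspose, ← rs_conjT, conjT_of_sq hz h, map_neg,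
    Matrix.neg_mul, Matrix.mul_neg, Matrix.mul_assoc]

theorem lk_conj (a : ι) {c : Fin k → F} (hc : ip c c = 0) {z : Mt F ι k} (hz : IsU z)
    (h : (z - 1) * (z - 1) = 0) (l : F) :
    lk a c (z * sl a (rt c l) * zᴴ) = (-l) • (lk a c z * lk a c z) := by
  have e : z * sl a (rt c l) * zᴴ - 1 = z * (l • nd a c) * zᴴ := by
    rw [sl_rt, Matrix.mul_add, Matrix.add_mul, Matrix.mul_one, hz.inv_right, add_sub_cancel_left]
  have hC : (cb ({i // i ≠ a} → Fin k) c)ᴴ * cb ({i // i ≠ a} → Fin k) c = 0 := by rw [cbH_cb, hc, zero_smul]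
  have e1 : (cb ({i // i ≠ a} → Fin k) c)ᴴ * rs a z * cb ({i // i ≠ a} → Fin k) c = lk a c z := by
    rw [lk, map_sub, map_one, Matrix.mul_sub, Matrix.sub_mul, Matrix.mul_one, hC, sub_zero]
  have e2 : (cb ({i // i ≠ a} → Fin k) c)ᴴ * rs a zᴴ * cb ({i // i ≠ a} → Fin k) c = -lk a c z := by
    rw [← lk_skew a c hz h, ← e1, conjTranspose_mul, conjTranspose_mul, conjTranspose_conjTranspose, rs_conjT,
      Matrix.mul_assoc]
  calc lk a c (z * sl a (rt c l) * zᴴ)
      = l • (((cb ({i // i ≠ a} → Fin k) c)ᴴ * rs a z * cb ({i // i ≠ a} → Fin k) c) * ((cb ({i // i ≠ a} → Fin k) c)ᴴ * rs a zᴴ * cb ({i // i ≠ a} → Fin k) c)) := by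
        rw [lk, e, map_mul, map_mul, map_smul, rs_nd]
        simp only [Matrix.mul_smul, Matrix.smul_mul, Matrix.mul_assoc]
    _ = _ := by rw [e1, e2, Matrix.mul_neg, smul_neg, neg_smul]

theorem cent_of_lk_zero (a : ι) {c : Fin k → F} (hc : ip c c = 0) {z : Mt F ι k} (hz : IsU z)
    (h : (z - 1) * (z - 1) = 0) (h0 : lk a c z = 0) (l : F) :
    Commute (z * sl a (rt c l) * zᴴ) (sl a (rt c l)) := by
  set β := {i // i ≠ a} → Fin k
  have hC : (cb β c)ᴴ * cb β c = 0 := by rw [cbH_cb, hc, zero_smul]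
  have e1 : (cb β c)ᴴ * rs a z * cb β c = 0 := by
    have := h0
    rwa [lk, map_sub, map_one, Matrix.mul_sub, Matrix.sub_mul, Matrix.mul_one, hC, sub_zero] at this
  have e2 : (cb β c)ᴴ * rs a zᴴ * cb β c = 0 := by
    have := congrArg conjTranspose e1
    simpa [rs_conjT, Matrix.mul_assoc] using this
  have key : z * nd a c * zᴴ * nd a c = 0 ∧ nd a c * (z * nd a c * zᴴ) = 0 := by
    constructor <;> apply (rs a).injective <;> rw [map_mul, map_mul, map_mul, map_zero, rs_nd]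
    · rw [show rs a z * (cb β c * (cb β c)ᴴ) * rs a zᴴ * (cb β c * (cb β c)ᴴ) =
          rs a z * cb β c * ((cb β c)ᴴ * rs a zᴴ * cb β c) * (cb β c)ᴴ by simp only [Matrix.mul_assoc], e2,
        Matrix.mul_zero, Matrix.zero_mul]
    · rw [show cb β c * (cb β c)ᴴ * (rs a z * (cb β c * (cb β c)ᴴ) * rs a zᴴ) =
          cb β c * ((cb β c)ᴴ * rs a z * cb β c) * ((cb β c)ᴴ * rs a zᴴ) by simp only [Matrix.mul_assoc], e1,
        Matrix.mul_zero, Matrix.zero_mul]
  have e3 : z * sl a (rt c l) * zᴴ = 1 + l • (z * nd a c * zᴴ) := by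
    rw [sl_rt, Matrix.mul_add, Matrix.add_mul, Matrix.mul_one, hz.inv_right, Matrix.mul_smul, Matrix.smul_mul]
  rw [e3, sl_rt]
  show _ = _
  simp only [Matrix.add_mul, Matrix.mul_add, Matrix.one_mul, Matrix.mul_one, Matrix.smul_mul, Matrix.mul_smul, key.1,
    key.2, smul_zero, add_zero]
  abel

variable {M : Set (Mt F ι k)}

/-- Nilpotent linking makes a unipotent element of index two monomial. -/
theorem Ctx.nilp (hC : Ctx M) (n : ℕ) : ∀ {z : Mt F ι k}, z ∈ M → (z - 1) * (z - 1) = 0 → ∀ {a : ι}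
    {c : Fin k → F} {l : F}, IsRt c l → lk a c z ^ 2 ^ n = 0 → Mono z := by
  induction n with
  | zero =>
    intro z hz hsq a c l hc h0
    rw [pow_zero, pow_one] at h0
    have hzU := hC.ov.isU _ hz
    have hw : z * sl a (rt c l) * zᴴ ∈ M :=
      hC.ov.mul _ (hC.ov.mul _ hz _ (hC.ov.slot a _ (rt_isSU hc.iso hc.skew))) _ (hC.ov.inv _ hz)
    exact hC.mono_of_image hz hc (hC.cent hw hc (cent_of_lk_zero a hc.iso hzU hsq h0 l))
  | succ m ih =>
    intro z hz hsq a c l hc h0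
    have hzU := hC.ov.isU _ hz
    have hw : z * sl a (rt c l) * zᴴ ∈ M :=
      hC.ov.mul _ (hC.ov.mul _ hz _ (hC.ov.slot a _ (rt_isSU hc.iso hc.skew))) _ (hC.ov.inv _ hz)
    refine hC.mono_of_image hz hc (ih hw (conj_rt_props hzU hc).1 (a := a) hc ?_)
    rw [lk_conj a hc.iso hzU hsq, smul_pow, ← pow_two, ← pow_mul, ← pow_succ', h0, smul_zero]

theorem Ctx.not_nilp (hC : Ctx M) {z : Mt F ι k} (hz : z ∈ M) (hsq : (z - 1) * (z - 1) = 0) (hne : ¬ Mono z)
    {a : ι} {c : Fin k → F} {l : F} (hc : IsRt c l) : ¬ IsNilpotent (lk a c z) := by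
  rintro ⟨n, hn⟩
  exact hne (hC.nilp n hz hsq hc (pow_eq_zero_of_le Nat.lt_two_pow_self.le hn))

theorem mono_split (a : ι) {g : Mt F ι k} {A : ι → Matrix (Fin k) (Fin k) F} {σ : Equiv.Perm ι}
    (hA : ∀ i, IsU (A i)) (he : g = krn A * pm σ) (hfix : σ a = a) :
    ∃ Y : Mt F {i // i ≠ a} k, IsU Y ∧ rs a g = A a ⊗ₖ Y := by
  have hp : ∀ x, σ x ≠ a ↔ x ≠ a := fun x => by
    constructor <;> intro h e
    · exact h (by rw [e, hfix])
    · exact h (σ.injective (e.trans hfix.symm))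
  have hσ : Equiv.Perm.ofSubtype (σ.subtypePerm hp) = σ :=
    Equiv.Perm.ofSubtype_subtypePerm (p := fun x => x ≠ a) hp fun x hx (e : x = a) => hx (by rw [e, hfix])
  refine ⟨krn (fun i : {i // i ≠ a} => A i) * pm (σ.subtypePerm hp), (IsU.krn fun i => hA _).mul (isU_pm _), ?_⟩
  rw [he, map_mul, rs_krn, show (pm σ : Mt F ι k) = pm (Equiv.Perm.ofSubtype (σ.subtypePerm hp)) from by rw [hσ],
    rs_pm, ← mul_kronecker_mul, Matrix.mul_one]

end Cfsg.Agent.H30.UWreath
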