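import Cfsg.Agent.H30.UWreath.Full
import Cfsg.Agent.H58.HermCongr
import Cfsg.Agent.H98.TensorUnit.Wrap
import Cfsg.Agent.Symplectic.HermBasic
import Cfsg.Agent.Aschbacher.Wreath
import Cfsg.Prelude.Def_GeometricClasses

/-!
The stabiliser of a decomposition of a unitary space as a tensor power is maximal in the special unitary group.
-/

set_option autoImplicit false
set_option maxHeartbeats 1000000
set_option linter.unusedSectionVars false
set_option linter.style.haveILetI false

namespace Cfsg.Agent.H30.UWreath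

open Matrix Module
open scoped Kronecker
open Cfsg.Geo (glReindex IsMaximalIn specialLinear tensorWreathStandard tensorWreathSubgroup)
open Cfsg.Agent.Aschbacher (pureMat pureGL factorPermGL)

section Local

variable {F : Type*} [Field F] [StarRing F] [UField F] [Finite F] {k : ℕ} {ι : Type} [Fintype ι] [DecidableEq ι]

/-- A transvection is not monomial. -/
theorem not_mono_rt (hk : 3 ≤ k) (hι : 2 ≤ Fintype.card ι) {w : (ι → Fin k) → F} (hw0 : w ≠ 0) (hw : ip w w = 0)
    {l : F} (hl0 : l ≠ 0) (hl : star l = -l) : ¬ Mono (rt w l) := by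
  rintro ⟨A, σ, hA, he⟩
  haveI : Nonempty (Fin k) := ⟨⟨0, by omega⟩⟩
  obtain ⟨a⟩ : Nonempty ι := Fintype.card_pos_iff.1 (by omega)
  have hne : rt w l ≠ 1 := rt_ne_one ⟨hw0, hw, hl0, hl⟩
  have hsq : (rt w l - 1) * (rt w l - 1) = 0 := by
    rw [rt, add_sub_cancel_left, smul_mul_smul_comm, dy_self_sq hw, smul_zero]
  have hrk : (rt w l - 1).rank ≤ Fintype.card ({i // i ≠ a} → Fin k) := by
    rw [rt, add_sub_cancel_left, dy, ← smul_vecMulVec]
    exact (Matrix.rank_vecMulVec_le _ _).trans Fintype.card_pos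
  rw [he] at hsq hne hrk
  rcases classify hk hA hsq hne a hrk with ⟨i, f, m, hf, hs⟩ | ⟨-, -, i, j, hij, -, X, hX, hs⟩
  · rw [← he] at hs
    obtain ⟨e, -, hfe⟩ := (hU F (Fin k)).exists_partner hf.ne hf.iso
    rw [hU_B] at hfe
    have h1 := congrArg (rs i) hs
    rw [rs_rt, sl_rt, map_add, map_one, map_smul, rs_nd, rt, add_right_inj] at h1
    have h2 := congrArg (fun Z => (cb ({l // l ≠ i} → Fin k) e)ᴴ * Z * cb ({l // l ≠ i} → Fin k) e) h1
    simp only [Matrix.mul_smul, Matrix.smul_mul] at h2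
    rw [show (cb ({l // l ≠ i} → Fin k) e)ᴴ * dy (w ∘ (spl i).symm) (w ∘ (spl i).symm) *
        cb ({l // l ≠ i} → Fin k) e = dy ((cb ({l // l ≠ i} → Fin k) e)ᴴ *ᵥ (w ∘ (spl i).symm))
          ((cb ({l // l ≠ i} → Fin k) e)ᴴ *ᵥ (w ∘ (spl i).symm)) by
        rw [← dy_sandwich, conjTranspose_conjTranspose], show (cb ({l // l ≠ i} → Fin k) e)ᴴ * (cb ({l // l ≠ i} → Fin k) f *
        (cb ({l // l ≠ i} → Fin k) f)ᴴ) * cb ({l // l ≠ i} → Fin k) e =
        ((cb ({l // l ≠ i} → Fin k) e)ᴴ * cb ({l // l ≠ i} → Fin k) f) *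
          ((cb ({l // l ≠ i} → Fin k) f)ᴴ * cb ({l // l ≠ i} → Fin k) e) by simp only [Matrix.mul_assoc],
      cbH_cb, cbH_cb, hfe, ip_symm1 hfe, one_smul, Matrix.one_mul] at h2
    obtain ⟨x, hx, hx0⟩ := Submodule.exists_mem_ne_zero_of_ne_bot
      (p := LinearMap.ker ((hU F ({l // l ≠ i} → Fin k)).lin ((cb ({l // l ≠ i} → Fin k) e)ᴴ *ᵥ (w ∘ (spl i).symm))))
      (LinearMap.ker_ne_bot_of_finrank_lt (by
        rw [finrank_self, finrank_fintype_fun_eq_card, Fintype.card_fun, Fintype.card_fin,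
          Fintype.card_subtype_compl, Fintype.card_subtype_eq]
        exact lt_of_lt_of_le (by omega : 1 < k) (Nat.le_self_pow (by omega) k)))
    replace hx : ip x ((cb ({l // l ≠ i} → Fin k) e)ᴴ *ᵥ (w ∘ (spl i).symm)) = 0 := hx
    have h3 := congrArg (· *ᵥ x) h2
    simp only [smul_mulVec, dy_mulVec, hx, zero_smul, smul_zero, one_mulVec] at h3
    exact smul_ne_zero hf.l0 hx0 h3.symm
  · rw [← he] at hs
    have hY := sl_isU i hX
    set w' := (sl i X)ᴴ *ᵥ w with hw'
    have h1 : (pm (Equiv.swap i j) : Mt F ι k) = rt w' l := by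
      rw [hw', ← rt_conj hY.conjT, hs, conjTranspose_conjTranspose]
      simp only [Matrix.mul_assoc, show (sl i X)ᴴ * sl i X = 1 from hY, Matrix.mul_one]
      rw [← Matrix.mul_assoc, show (sl i X)ᴴ * sl i X = 1 from hY, Matrix.one_mul]
    set N : (ι → Fin k) → (ι → Fin k) → F := fun x y => (pm (Equiv.swap i j) : Mt F ι k) x y - (1 : Mt F ι k) x y
      with hN
    have hN' : ∀ x y, N x y = l * (w' x * star (w' y)) := fun x y => by
      rw [hN]
      simp only [h1, rt, Matrix.add_apply, add_sub_cancel_left, Matrix.smul_apply, dy, vecMulVec_apply,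
        Pi.star_apply, smul_eq_mul]
    have hNe : ∀ x y, N x y = (if y = x ∘ Equiv.swap i j then 1 else 0) - (if x = y then 1 else 0) := fun x y => by
      show (pm (Equiv.swap i j) : Mt F ι k) x y - (1 : Mt F ι k) x y = _
      rw [pm_apply, Matrix.one_apply]
    let p : Fin k := ⟨0, by omega⟩
    let r : Fin k := ⟨1, by omega⟩
    let s : Fin k := ⟨2, by omega⟩
    set x : ι → Fin k := fun l => if l = j then r else p with hx
    set x' : ι → Fin k := fun l => if l = j then s else p with hx'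
    set y : ι → Fin k := fun l => if l = i then r else p with hy
    set y' : ι → Fin k := fun l => if l = i then s else p with hy'
    have hcomp : ∀ q : Fin k, (fun l : ι => if l = i then q else p) =
        (fun l : ι => if l = j then q else p) ∘ Equiv.swap i j := fun q => funext fun l => by
      simp only [Function.comp_apply]
      rcases eq_or_ne l i with rfl | hli
      · simp
      rcases eq_or_ne l j with rfl | hlj
      · simp [hij, hij.symm]
      · simp [Equiv.swap_apply_of_ne_of_ne, hli, hlj]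
    have hxy : x ≠ y := fun h => by simpa [hx, hy, hij.symm, p, r] using congrFun h j
    have hx'y' : x' ≠ y' := fun h => by simpa [hx', hy', hij.symm, p, s] using congrFun h j
    have hxy' : x ≠ y' := fun h => by simpa [hx, hy', hij.symm, p, r] using congrFun h j
    have hyy' : y' ≠ y := fun h => by simpa [hy, hy', r, s] using congrFun h i
    have e1 : N x y = 1 := by rw [hNe, if_pos (hcomp r), if_neg hxy, sub_zero]
    have e2 : N x' y' = 1 := by rw [hNe, if_pos (hcomp s), if_neg hx'y', sub_zero]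
    have e3 : N x y' = 0 := by
      rw [hNe, if_neg (fun h => hyy' (h.trans (hcomp r).symm)), if_neg hxy', sub_zero]
    have h2 : N x y * N x' y' = N x y' * N x' y := by rw [hN', hN', hN', hN']; ring
    rw [e1, e2, e3, zero_mul, one_mul] at h2
    exact one_ne_zero h2

theorem exists_unit_factors (hk : 0 < k) (a : ι) {A : ι → Matrix (Fin k) (Fin k) F} {σ : Equiv.Perm ι}
    (h : IsU (krn A * pm σ)) : Mono (krn A * pm σ) := by
  haveI : Nonempty (Fin k) := ⟨⟨0, hk⟩⟩
  have hA : IsU (krn A) := by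
    have h1 := h.mul (isU_pm σ⁻¹)
    rwa [Matrix.mul_assoc, pm_mul, mul_inv_cancel, pm_one, Matrix.mul_one] at h1
  have hsc : ∀ i, ∃ x : F, x ≠ 0 ∧ IsU (x • A i) := fun i => by
    have h1 := (rs_isU_iff i).2 hA
    rw [rs_krn] at h1
    rw [IsU, conjTranspose_kronecker, ← mul_kronecker_mul, ← one_kronecker_one] at h1
    set B := (krn fun l : {l // l ≠ i} => A l)ᴴ * krn fun l : {l // l ≠ i} => A l with hB
    obtain ⟨z⟩ : Nonempty ({l // l ≠ i} → Fin k) := inferInstance
    have hall : ∀ p q, ((A i)ᴴ * A i) p q * B z z = (1 : Matrix (Fin k) (Fin k) F) p q := fun p q => by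
      simpa using congrFun (congrFun h1 (p, z)) (q, z)
    have hm0 : B z z ≠ 0 := fun e => by
      have := hall ⟨0, hk⟩ ⟨0, hk⟩
      rw [e, mul_zero, Matrix.one_apply_eq] at this
      exact zero_ne_one this
    obtain ⟨x, hx⟩ := UField.norm (B z z) (by
      rw [← conjTranspose_apply, hB, conjTranspose_mul, conjTranspose_conjTranspose])
    refine ⟨x, fun e => hm0 (by rw [← hx, e, zero_mul]), ?_⟩
    rw [IsU, conjTranspose_smul, smul_mul_smul_comm]
    ext p q
    rw [Matrix.smul_apply, smul_eq_mul, mul_comm (star x), hx, mul_comm, hall]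
  choose x hx0 hx using hsc
  set μ := ∏ i, (x i)⁻¹ with hμ
  have hkA : krn A = μ • krn fun i => x i • A i := by
    ext p q
    simp only [krn_apply, Matrix.smul_apply, smul_eq_mul, hμ, ← Finset.prod_mul_distrib]
    exact Finset.prod_congr rfl fun i _ => by rw [← mul_assoc, inv_mul_cancel₀ (hx0 i), one_mul]
  have hμ1 : star μ * μ = 1 := by
    have h1 := hA
    rw [hkA, IsU, conjTranspose_smul, smul_mul_smul_comm, show (krn fun i => x i • A i)ᴴ *
      (krn fun i => x i • A i) = 1 from IsU.krn hx] at h1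
    exact smul_one_inj (β := ι → Fin k) (h1.trans (one_smul F _).symm)
  refine ⟨Function.update (fun i => x i • A i) a (μ • (x a • A a)), σ, fun i => ?_, ?_⟩
  · rcases eq_or_ne i a with rfl | hi
    · rw [Function.update_self]; exact (hx i).smul hμ1
    · rw [Function.update_of_ne hi]; exact hx i
  · rw [krn_update_smul (fun i => x i • A i) a μ, ← hkA]

theorem det_sl (a : ι) (A : Matrix (Fin k) (Fin k) F) :
    (sl a A).det = A.det ^ Fintype.card ({i // i ≠ a} → Fin k) := by
  have h := congrArg Matrix.det (rs_sl_self a A)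
  rw [rs_apply, det_submatrix_equiv_self, det_kronecker, det_one, one_pow, mul_one] at h
  exact h

theorem det_pm_cube {σ : Equiv.Perm ι} (h : σ ^ 3 = 1) : (pm σ : Mt F ι k).det = 1 := by
  have ht : (pm σ : Mt F ι k)ᵀ = pm σ * pm σ := by
    have h' : σ⁻¹ = σ * σ := inv_eq_of_mul_eq_one_right (by rw [← h, pow_three])
    rw [pm_mul, ← h', ← pm_conjT]
    ext x y
    rw [Matrix.transpose_apply, conjTranspose_apply, pm_apply, apply_ite star, star_one, star_zero]
  have h1 := congrArg Matrix.det ht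
  rw [det_transpose, det_mul] at h1
  have h0 : (pm σ : Mt F ι k).det ≠ 0 := fun e => by
    have := congrArg Matrix.det (isU_pm (F := F) (k := k) σ : (pm σ : Mt F ι k)ᴴ * pm σ = 1)
    rw [det_mul, e, mul_zero, det_one] at this
    exact zero_ne_one this
  exact (mul_left_cancel₀ h0 (h1.symm.trans (mul_one _).symm))

end Local

section Global

variable {F : Type*} [Field F] {k t : ℕ}

theorem krn_eq_pureMat [StarRing F] (A : Fin t → Matrix (Fin k) (Fin k) F) : krn A = pureMat A := rfl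

/-- Elements of the standard subgroup are monomial up to scaling. -/
theorem standard_form [StarRing F] [UField F] [Finite F] {g : GL (Fin t → Fin k) F}
    (hg : g ∈ tensorWreathStandard k t F) : ∃ (A : Fin t → Matrix (Fin k) (Fin k) F) (σ : Equiv.Perm (Fin t)),
      (g : Mt F (Fin t) k) = krn A * pm σ := by
  suffices key : (∃ (A : Fin t → Matrix (Fin k) (Fin k) F) (σ : Equiv.Perm (Fin t)),
      (g : Mt F (Fin t) k) = krn A * pm σ) ∧ ∃ (A : Fin t → Matrix (Fin k) (Fin k) F) (σ : Equiv.Perm (Fin t)),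
      ((g⁻¹ : GL (Fin t → Fin k) F) : Mt F (Fin t) k) = krn A * pm σ from key.1
  induction hg using Subgroup.closure_induction with
  | mem x hx =>
    rcases hx with ⟨u, hu⟩ | ⟨σ, hσ⟩
    · have e : x = pureGL u := Units.ext (Matrix.ext hu)
      subst e
      exact ⟨⟨_, 1, by rw [pm_one, Matrix.mul_one]; rfl⟩, ⟨_, 1, by rw [pm_one, Matrix.mul_one]; rfl⟩⟩
    · have e : x = factorPermGL σ := Units.ext (Matrix.ext hσ)
      subst e
      exact ⟨⟨fun _ => 1, σ, by rw [krn_one, Matrix.one_mul]; rfl⟩,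
        ⟨fun _ => 1, σ.symm, by rw [krn_one, Matrix.one_mul]; rfl⟩⟩
  | one => exact ⟨⟨fun _ => 1, 1, by simp [krn_one, pm_one]⟩, ⟨fun _ => 1, 1, by simp [krn_one, pm_one]⟩⟩
  | mul x y _ _ hx hy =>
    obtain ⟨⟨A, σ, e⟩, ⟨A', σ', e'⟩⟩ := hx
    obtain ⟨⟨B, τ, f⟩, ⟨B', τ', f'⟩⟩ := hy
    exact ⟨⟨_, _, by rw [Units.val_mul, e, f, mono_mul]⟩,
      ⟨_, _, by rw [_root_.mul_inv_rev, Units.val_mul, e', f', mono_mul]⟩⟩
  | inv x _ hx =>
    obtain ⟨h1, h2⟩ := hx
    exact ⟨h2, by rwa [inv_inv]⟩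

theorem mem_standard_of_mono [StarRing F] [UField F] [Finite F] {g : GL (Fin t → Fin k) F}
    (h : Mono (g : Mt F (Fin t) k)) : g ∈ tensorWreathStandard k t F := by
  obtain ⟨A, σ, hA, he⟩ := h
  let u : Fin t → GL (Fin k) F := fun i => ⟨A i, (A i)ᴴ, (hA i).inv_right, hA i⟩
  have e : g = pureGL u * factorPermGL σ := Units.ext (he.trans rfl)
  rw [e]
  exact Subgroup.mul_mem _ (Subgroup.subset_closure (Or.inl ⟨u, fun x y => rfl⟩))
    (Subgroup.subset_closure (Or.inr ⟨σ, fun x y => rfl⟩))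

variable [Fintype F] {n q : ℕ}

/-- Maximality of the stabiliser of a tensor power decomposition of a unitary space: no bound on `n`. -/
theorem maximal (hF : Fintype.card F = q ^ 2) (hk : 3 ≤ k) (ht : 2 ≤ t) (hex : ¬ (q = 2 ∧ k = 3))
    (e : Fin n ≃ (Fin t → Fin k)) (P : GL (Fin n) F) (f₁ : (Fin k → F) → (Fin k → F) → F)
    (hf₁ : Geo.IsUnitaryFormPow q f₁)
    (hT : Geo.IsTensorPowerFormStructure (fun x : F => x ^ q) (Cfsg.hermForm n F q) f₁ e P) :
    IsMaximalIn (Cfsg.GU n F q ⊓ specialLinear (Fin n) F)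
      (tensorWreathSubgroup k t e P ⊓ (Cfsg.GU n F q ⊓ specialLinear (Fin n) F)) := by
  classical
  obtain ⟨σ, hσ, hfu⟩ := Symplectic.isUnitaryForm_hermForm (n := n) hF
  letI : StarRing F :=
    { star := fun x => Unitary.frob hF x
      star_involutive := fun x => by
        show Unitary.frob hF (Unitary.frob hF x) = x
        rw [Unitary.frob_apply, Unitary.frob_apply, Unitary.pow_q_q hF]
      star_mul := fun x y => by
        show Unitary.frob hF (x * y) = Unitary.frob hF y * Unitary.frob hF x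
        rw [map_mul, mul_comm]
      star_add := fun x y => map_add (Unitary.frob hF) x y }
  have hstar : ∀ x : F, star x = x ^ q := Unitary.frob_apply hF
  haveI : UField F :=
    { ne := by
        by_contra hcon
        push Not at hcon
        exact hfu.ne_refl (RingEquiv.ext fun a => by rw [hσ, ← hstar, hcon]; rfl)
      norm := fun a ha => by
        rw [hstar] at ha
        obtain ⟨x, hx⟩ := Unitary.exists_norm_eq hF ha
        exact ⟨x, by rw [hstar]; exact hx⟩ }
  have hG : Good F k := ⟨hk, by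
    rcases Nat.lt_or_ge q 3 with h | h
    · have := Unitary.two_le_q hF
      exact Or.inr (by
        by_contra h4
        exact hex ⟨by omega, by omega⟩)
    · obtain ⟨r, hr, hr0, hr1⟩ := Unitary.exists_fixed_ne hF h
      rw [← hstar] at hr
      obtain ⟨x, hx⟩ := UField.norm r hr
      exact Or.inl ⟨x, fun e => hr0 (by rw [← hx, e, zero_mul]), by rw [hx]; exact hr1⟩⟩
  -- the Gram matrix of the factor
  set H := Geo.gramMatrix f₁ with hH
  have hHherm : (H.map (Unitary.frob hF))ᵀ = H := by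
    ext i j
    rw [Matrix.transpose_apply, Matrix.map_apply, Unitary.frob_apply]
    exact (hf₁.herm _ _).symm
  have hHu : IsUnit H := by
    rw [← mulVec_injective_iff_isUnit]
    intro v v' hvv
    by_contra hne
    obtain ⟨w, hw⟩ := (hf₁.nondegenerate (fun i => star ((v - v') i)) (fun h0 => hne (sub_eq_zero.1 (funext fun i => by
      have := congrArg star (congrFun h0 i)
      simpa using this)))).1
    refine hw ?_
    have hsum := fun a b => (H98.TensorUnit.sum_gram (κ := Fin k) hF hf₁ a b).symm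
    rw [hsum, ← hH]
    have h0 : H *ᵥ (v - v') = 0 := by rw [mulVec_sub, hvv, sub_self]
    refine Finset.sum_eq_zero fun j _ => ?_
    have h1 := congrFun h0 j
    simp only [mulVec, dotProduct, Pi.zero_apply] at h1
    simp only [mul_assoc, ← Finset.mul_sum]
    rw [show (∑ j', H j j' * (star ((v - v') j')) ^ q) = 0 by simpa [← hstar] using h1, mul_zero]
  obtain ⟨B, hB⟩ := H58.HermCongr.exists_congr_one (σ := Unitary.frob hF)
    (fun x => by rw [Unitary.frob_apply, Unitary.frob_apply, Unitary.pow_q_q hF])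
    (by obtain ⟨a, ha⟩ := UField.ne (F := F); exact ⟨a, ha⟩) (fun a ha => UField.norm a ha) hHu.unit hHherm
  have hB' : H = (B : Matrix (Fin k) (Fin k) F) * (B : Matrix (Fin k) (Fin k) F)ᴴ := hB
  obtain ⟨c, hc0, hform⟩ := hT
  let C : GL (Fin k) F := ⟨((B⁻¹ : GL (Fin k) F) : Matrix (Fin k) (Fin k) F)ᵀ, (B : Matrix (Fin k) (Fin k) F)ᵀ,
    by rw [← transpose_mul, Units.mul_inv, transpose_one], by rw [← transpose_mul, Units.inv_mul, transpose_one]⟩
  set K : GL (Fin t → Fin k) F := pureGL fun _ => C with hK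
  have hKval : (K : Mt F (Fin t) k) = krn fun _ => ((B⁻¹ : GL (Fin k) F) : Matrix (Fin k) (Fin k) F)ᵀ := rfl
  have hKstd : K ∈ tensorWreathStandard k t F := Subgroup.subset_closure (Or.inl ⟨_, fun x y => rfl⟩)
  let emb : ((Fin t → Fin k) → F) → Fin n → F := fun w =>
    (P : Matrix (Fin n) (Fin n) F) *ᵥ (((K : Mt F (Fin t) k) *ᵥ w) ∘ e)
  have hip : ∀ w w', Cfsg.hermForm n F q (emb w) (emb w') = c * ip w w' := by
    intro w w'
    rw [hform]
    congr 1
    set x := (K : Mt F (Fin t) k) *ᵥ w with hx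
    set y := (K : Mt F (Fin t) k) *ᵥ w' with hy
    set KB : Mt F (Fin t) k := krn fun _ => (B : Matrix (Fin k) (Fin k) F) with hKB
    have hT2 : KBᵀ * (K : Mt F (Fin t) k) = 1 := by
      rw [hKval, hKB, show (krn fun _ : Fin t => (B : Matrix (Fin k) (Fin k) F))ᵀ =
        krn fun _ => (B : Matrix (Fin k) (Fin k) F)ᵀ from Matrix.ext fun a b => rfl, krn_mul,
        ← krn_one]
      congr 1
      funext i
      rw [← transpose_mul, Units.inv_mul, transpose_one]
    have hw : w = KBᵀ *ᵥ x := by rw [hx, mulVec_mulVec, hT2, one_mulVec]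
    have hw' : w' = KBᵀ *ᵥ y := by rw [hy, mulVec_mulVec, hT2, one_mulVec]
    have hprod : ∀ a b, ∏ i, H (a i) (b i) = (KB * KBᴴ) a b := fun a b => by
      rw [hKB, krn_conjT, krn_mul, krn_apply, hB']
    have hst : star (KBᵀ *ᵥ y) = KBᴴ *ᵥ star y := by
      funext i
      simp [mulVec, dotProduct, star_sum, mul_comm]
    rw [hw, hw', ip, hst, mulVec_transpose, ← dotProduct_mulVec, mulVec_mulVec]
    simp only [dotProduct, mulVec, Finset.mul_sum, Pi.star_apply, hstar]
    refine Finset.sum_congr rfl fun a _ => Finset.sum_congr rfl fun b _ => ?_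
    rw [← hprod, hH]
    ring
  have hcs : star c = c := by
    obtain ⟨p⟩ : Nonempty (Fin t → Fin k) := ⟨fun _ => ⟨0, by omega⟩⟩
    have h1 := Unitary.herm_swap hF (emb (Pi.single p 1)) (emb (Pi.single p 1))
    rw [hip, show ip (Pi.single p (1 : F)) (Pi.single p (1 : F)) = 1 by simp [ip], mul_one, ← hstar] at h1
    exact h1
  have hsurj : ∀ u, ∃ w, emb w = u := fun u => by
    refine ⟨((K⁻¹ : GL (Fin t → Fin k) F) : Mt F (Fin t) k) *ᵥ
      ((((P⁻¹ : GL (Fin n) F) : Matrix (Fin n) (Fin n) F) *ᵥ u) ∘ e.symm), ?_⟩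
    simp only [emb, mulVec_mulVec, Units.mul_inv, one_mulVec, Function.comp_assoc, Equiv.symm_comp_self,
      Function.comp_id]
  let Φ : GL (Fin t → Fin k) F ≃* GL (Fin n) F :=
    (MulAut.conj K).trans ((glReindex e.symm).trans (MulAut.conj P))
  have hΦ : ∀ g w, (Φ g : Matrix (Fin n) (Fin n) F) *ᵥ emb w = emb ((g : Mt F (Fin t) k) *ᵥ w) := by
    intro g w
    show ((P * glReindex e.symm (K * g * K⁻¹) * P⁻¹ : GL (Fin n) F) : Matrix (Fin n) (Fin n) F) *ᵥ emb w = _
    simp only [emb, Units.val_mul, mulVec_mulVec, ← Matrix.mul_assoc]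
    rw [Matrix.mul_assoc _ ((P⁻¹ : GL (Fin n) F) : Matrix (Fin n) (Fin n) F), Units.inv_mul, Matrix.mul_one,
      ← mulVec_mulVec]
    congr 1
    show (((K * g * K⁻¹ : GL (Fin t → Fin k) F) : Mt F (Fin t) k).submatrix e e) *ᵥ _ = _
    rw [submatrix_mulVec_equiv, Function.comp_assoc, Equiv.self_comp_symm, Function.comp_id, mulVec_mulVec,
      ← Units.val_mul, inv_mul_cancel_right, Units.val_mul, ← mulVec_mulVec]
  have hdet : ∀ g, Φ g ∈ specialLinear (Fin n) F ↔ (g : Mt F (Fin t) k).det = 1 := by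
    intro g
    have h1 : Matrix.GeneralLinearGroup.det (Φ g) = Matrix.GeneralLinearGroup.det g := by
      show Matrix.GeneralLinearGroup.det (P * glReindex e.symm (K * g * K⁻¹) * P⁻¹) = _
      have h2 : ∀ x : GL (Fin t → Fin k) F, Matrix.GeneralLinearGroup.det (glReindex e.symm x : GL (Fin n) F) = Matrix.GeneralLinearGroup.det x := fun x => by
        apply Units.val_injective
        show (Matrix.reindexAlgEquiv F F e.symm (x : Mt F (Fin t) k)).det = (x : Mt F (Fin t) k).det
        exact Matrix.det_reindexAlgEquiv F F e.symm _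
      simp only [map_mul, map_inv, h2, mul_inv_cancel_comm]
    show Matrix.GeneralLinearGroup.det (Φ g) = 1 ↔ _
    rw [h1, Units.ext_iff, Matrix.GeneralLinearGroup.val_det_apply, Units.val_one]
  have hGU : ∀ g, Φ g ∈ Cfsg.GU n F q ↔ IsU (g : Mt F (Fin t) k) := by
    intro g
    constructor
    · intro h
      refine IsU.of_ip fun x y => ?_
      have h1 := h (emb x) (emb y)
      simp only [Units.coeHom_apply] at h1
      rw [hΦ, hΦ, hip, hip] at h1
      exact mul_left_cancel₀ hc0 h1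
    · intro h u v
      obtain ⟨x, rfl⟩ := hsurj u
      obtain ⟨y, rfl⟩ := hsurj v
      simp only [Units.coeHom_apply]
      rw [hΦ, hΦ, hip, hip, h.ip_map]
  have hstd : ∀ g, Φ g ∈ tensorWreathSubgroup k t e P ↔ g ∈ tensorWreathStandard k t F := by
    intro g
    constructor
    · rintro ⟨-, ⟨y, hy, rfl⟩, h⟩
      have h1 : y = K * g * K⁻¹ := (glReindex e.symm).injective ((MulAut.conj P).injective h)
      have h2 : g = K⁻¹ * y * K := by rw [h1]; group
      rw [h2]
      exact Subgroup.mul_mem _ (Subgroup.mul_mem _ (Subgroup.inv_mem _ hKstd) hy) hKstd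
    · intro hg
      exact ⟨_, ⟨K * g * K⁻¹, Subgroup.mul_mem _ (Subgroup.mul_mem _ hKstd hg) (Subgroup.inv_mem _ hKstd), rfl⟩, rfl⟩
  have hι : 2 ≤ Fintype.card (Fin t) := by rw [Fintype.card_fin]; exact ht
  haveI : Nonempty (Fin t) := ⟨⟨0, by omega⟩⟩
  let a : Fin t := ⟨0, by omega⟩
  refine ⟨lt_of_le_of_ne inf_le_right fun h => ?_, fun N hN hN' => ?_⟩
  · obtain ⟨cv, l, hcl⟩ := exists_rt (F := F) (κ := Fin t → Fin k) (by
      rw [Fintype.card_fun, Fintype.card_fin, Fintype.card_fin]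
      exact hk.trans (Nat.le_self_pow (by omega) k))
    have hU1 := rt_isSU hcl.iso hcl.skew
    let g : GL (Fin t → Fin k) F := ⟨rt cv l, (rt cv l)ᴴ, hU1.1.inv_right, hU1.1⟩
    have hg : Φ g ∈ Cfsg.GU n F q ⊓ specialLinear (Fin n) F := ⟨(hGU g).2 hU1.1, (hdet g).2 hU1.2⟩
    rw [← h] at hg
    obtain ⟨A, τ, hA⟩ := standard_form ((hstd g).1 hg.1)
    refine not_mono_rt hk hι hcl.ne hcl.iso hcl.l0 hcl.skew ?_
    show Mono (g : Mt F (Fin t) k)
    rw [hA]
    exact exists_unit_factors (by omega) a (hA ▸ hU1.1)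
  set M : Set (Mt F (Fin t) k) := {X | ∃ g : GL (Fin t → Fin k) F, Φ g ∈ N ∧ (g : Mt F (Fin t) k) = X} with hM
  have hmemM : ∀ {g : GL (Fin t → Fin k) F}, Φ g ∈ N → (g : Mt F (Fin t) k) ∈ M := fun {g} hg => ⟨g, hg, rfl⟩
  have hMU : ∀ {g : GL (Fin t → Fin k) F}, Φ g ∈ N → IsU (g : Mt F (Fin t) k) := fun {g} hg => (hGU g).1 (hN' hg).1
  have hstdM : ∀ X : Mt F (Fin t) k, Mono X → X.det = 1 → X ∈ M := fun X hX hd => by
    let g : GL (Fin t → Fin k) F := ⟨X, Xᴴ, hX.isU.inv_right, hX.isU⟩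
    exact hmemM (g := g) (hN ⟨(hstd g).2 (mem_standard_of_mono hX), (hGU g).2 hX.isU, (hdet g).2 hd⟩)
  have hOv : Ov M :=
    ⟨fun X ⟨g, hg, e⟩ => e ▸ hMU hg,
      fun X ⟨g, hg, e⟩ Y ⟨g', hg', e'⟩ => ⟨g * g', by rw [map_mul]; exact N.mul_mem hg hg', by rw [Units.val_mul, e, e']⟩,
      fun X ⟨g, hg, e⟩ => ⟨g⁻¹, by rw [map_inv]; exact N.inv_mem hg, by
        rw [← e]
        exact Units.inv_eq_of_mul_eq_one_left (hMU hg)⟩,
      fun i A hA => hstdM _ (mono_sl i hA.1) (by rw [det_sl, hA.2, one_pow])⟩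
  by_cases hS : Small M
  · refine Or.inl (le_antisymm (fun y hy => ?_) hN)
    obtain ⟨g, rfl⟩ := Φ.surjective y
    exact ⟨(hstd g).2 (mem_standard_of_mono
      (allMono hG _ (Fin t) le_rfl inferInstance M hOv hS _ (hmemM hy))), hN' hy⟩
  · refine Or.inr (le_antisymm hN' ?_)
    have h4 : 4 ≤ n := by
      have h1 := Fintype.card_congr e
      rw [Fintype.card_fin, Fintype.card_fun, Fintype.card_fin, Fintype.card_fin] at h1
      have h2 : k ^ 2 ≤ k ^ t := Nat.pow_le_pow_right (by omega) ht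
      nlinarith
    refine Symplectic.su_le_of_ut hF h4 hσ hfu fun v hv l hl => ?_
    obtain ⟨w, rfl⟩ := hsurj v
    have hw : ip w w = 0 := by
      rw [hip] at hv
      exact (mul_eq_zero.1 hv).resolve_left hc0
    have hl' : star (l * c) = -(l * c) := by rw [star_mul', hcs, hstar, ← hσ, hl, neg_mul]
    have hmem := all_transvections hG hι hOv hS (fun τ hτ => hstdM _ (mono_pm τ) (det_pm_cube hτ)) hw (l * c) hl'
    obtain ⟨g, hg, hgX⟩ := hmem
    suffices Symplectic.ut hfu (emb w) l = Φ g by rw [this]; exact hg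
    refine Units.ext (Matrix.ext_iff_mulVec.2 fun u => ?_)
    obtain ⟨x, rfl⟩ := hsurj u
    rw [Symplectic.ut_mulVec hfu hv, hΦ, hgX, hip, rt_mulVec]
    simp only [emb, mulVec_add, mulVec_smul, Pi.add_comp, Pi.smul_comp, smul_smul, mul_assoc]

end Global

end Cfsg.Agent.H30.UWreath
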