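import Cfsg.Agent.H30.UWreath.Extract

/-!
Scalar translations over several slots lead to one over all slots.
-/

set_option autoImplicit false
set_option maxHeartbeats 1000000
set_option linter.unusedSectionVars false
set_option linter.style.haveILetI false

universe u

namespace Cfsg.Agent.H30.UWreath

open Matrix Module Cfsg.Agent.H98.TensorUnit
open scoped Kronecker

variable {F : Type*} [Field F] [StarRing F] [UField F] [Finite F] {k : ℕ} {ι : Type u} [Fintype ι] [DecidableEq ι]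
  {M : Set (Mt F ι k)}

theorem pv_ne_zero {u : ι → Fin k → F} (h : ∀ i, u i ≠ 0) : pv u ≠ 0 := by
  choose p hp using fun i => Function.ne_iff.1 (h i)
  exact fun h0 => Finset.prod_ne_zero_iff.2 (fun i _ => hp i) (congrFun h0 p)

theorem pv_eq_zero {u : ι → Fin k → F} (i : ι) (h : u i = 0) : pv u = 0 :=
  funext fun x => Finset.prod_eq_zero (Finset.mem_univ i) (congrFun h (x i))

theorem Ov.krn_mem (hM : Ov M) (a : ι) {A : ι → Matrix (Fin k) (Fin k) F} (hA : ∀ i, IsSU (A i)) :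
    krn A ∈ M := by
  have key : ∀ S : Finset ι, krn (fun i => if i ∈ S then A i else 1) ∈ M := by
    intro S
    induction S using Finset.induction with
    | empty => simpa [krn_one] using hM.one a
    | insert b S hb ih =>
      have h := hM.mul _ (hM.slot b _ (hA b)) _ ih
      rw [sl, krn_mul] at h
      convert h using 2
      funext i
      rcases eq_or_ne i b with rfl | hi
      · simp [hb]
      · simp [hi, Function.update_of_ne hi]
  simpa using key Finset.univ

theorem NT_move {A : ι → Matrix (Fin k) (Fin k) F} (hA : ∀ i, IsU (A i)) (T : Finset ι) (v : ι → Fin k → F) :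
    krn A * NT T v * (krn A)ᴴ = NT T fun i => A i *ᵥ v i := by
  rw [NT, NT, krn_conjT, krn_mul, krn_mul]
  congr 1
  funext i
  split_ifs
  · rw [dy_sandwich]
  · rw [Matrix.mul_one, (hA i).inv_right]

theorem root_move (hk : 3 ≤ k) (hM : Ov M) {T : Finset ι} (hT : T.Nonempty) {v w : ι → Fin k → F}
    (hv : Sing T v) (hw : Sing T w) {γ : F} (h : 1 + γ • NT T v ∈ M) : 1 + γ • NT T w ∈ M := by
  obtain ⟨a, ha⟩ := hT
  choose A hA hAv using fun i => (show ∃ A : Matrix (Fin k) (Fin k) F, IsSU A ∧ (i ∈ T → A *ᵥ v i = w i) from by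
    by_cases hi : i ∈ T
    · obtain ⟨B, hB, hB'⟩ := exists_move (κ := Fin k) (by simpa using hk) (hv i hi).1 (hv i hi).2 (hw i hi).1
        (hw i hi).2
      exact ⟨B, hB, fun _ => hB'⟩
    · exact ⟨1, isSU_one, fun h => absurd h hi⟩)
  have hU : IsU (krn A) := IsU.krn fun i => (hA i).1
  have h1 := hM.mul _ (hM.mul _ (hM.krn_mem a hA) _ h) _ (hM.inv _ (hM.krn_mem a hA))
  rw [Matrix.mul_add, Matrix.add_mul, Matrix.mul_one, hU.inv_right, Matrix.mul_smul, Matrix.smul_mul,
    NT_move fun i => (hA i).1] at h1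
  convert h1 using 3
  rw [NT, NT]
  congr 1
  funext i
  split_ifs with hi
  · rw [hAv i hi]
  · rfl

theorem NT_perm (σ : Equiv.Perm ι) (T : Finset ι) (v : ι → Fin k → F) :
    pm σ * NT T v * (pm σ)ᴴ = NT (T.image σ) fun i => v (σ⁻¹ i) := by
  rw [NT, pm_krn, Matrix.mul_assoc, (isU_pm σ).inv_right, Matrix.mul_one, NT]
  congr 1
  funext i
  refine if_congr ?_ rfl rfl
  simp only [Finset.mem_image]
  exact ⟨fun h => ⟨_, h, by simp⟩, fun ⟨j, hj, e⟩ => by rw [← e]; simpa using hj⟩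

theorem in_smul_NT {T : Finset ι} {v : ι → Fin k → F} (hv : Sing T v) {γ : F} (h : 1 + γ • NT T v ∈ M) :
    In M T v (γ • NT T v) := by
  obtain ⟨e, he⟩ := exists_NT_mid T hv
  exact ⟨h, γ • NT T e, by rw [Matrix.mul_smul, Matrix.smul_mul, he]⟩

theorem merge_step (hG : Good F k) (hM : Ov M) (hcyc : ∀ σ : Equiv.Perm ι, σ ^ 3 = 1 → pm σ ∈ M) {T : Finset ι}
    (hT : 2 ≤ T.card) {v : ι → Fin k → F} (hv : Sing T v) {γ : F} (hγ : γ ≠ 0) (hγv : 1 + γ • NT T v ∈ M)
    {c : ι} (hc : c ∉ T) :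
    ∃ (T' : Finset ι) (v' : ι → Fin k → F) (γ' : F), T.card < T'.card ∧ Sing T' v' ∧ γ' ≠ 0 ∧
      1 + γ' • NT T' v' ∈ M := by
  have hk := hG.three
  obtain ⟨a, ha, b, hb, hab⟩ := Finset.one_lt_card.1 hT
  have hca : c ≠ a := fun e => hc (e ▸ ha)
  have hcb : c ≠ b := fun e => hc (e ▸ hb)
  set σ : Equiv.Perm ι := Equiv.swap a c * Equiv.swap a b with hσ
  have hσ3 : σ ^ 3 = 1 := by
    have ea : σ a = b := by simp [hσ, Equiv.swap_apply_of_ne_of_ne hab.symm hcb.symm]
    have eb : σ b = c := by simp [hσ]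
    have ec : σ c = a := by simp [hσ, Equiv.swap_apply_of_ne_of_ne hca hcb]
    ext i
    simp only [pow_succ, pow_zero, one_mul, Equiv.Perm.mul_apply, Equiv.Perm.one_apply]
    rcases eq_or_ne i a with rfl | hia
    · rw [ea, eb, ec]
    rcases eq_or_ne i b with rfl | hib
    · rw [eb, ec, ea]
    rcases eq_or_ne i c with rfl | hic
    · rw [ec, ea, eb]
    have e : σ i = i := by
      rw [hσ, Equiv.Perm.mul_apply, Equiv.swap_apply_of_ne_of_ne hia hib, Equiv.swap_apply_of_ne_of_ne hia hic]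
    rw [e, e, e]
  have himg : T.image σ = insert c (T.erase a) := by
    ext i
    simp only [Finset.mem_image, Finset.mem_insert, Finset.mem_erase, hσ, Equiv.Perm.mul_apply]
    constructor
    · rintro ⟨j, hj, rfl⟩
      have hjc : j ≠ c := fun e => hc (e ▸ hj)
      rcases eq_or_ne j a with rfl | hja
      · simp [Equiv.swap_apply_def, hab.symm, hcb.symm, hb]
      rcases eq_or_ne j b with rfl | hjb
      · simp [Equiv.swap_apply_def, hab, hab.symm]
      · simp [Equiv.swap_apply_of_ne_of_ne, hja, hjb, hjc, hj]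
    · rintro (rfl | ⟨hia, hi⟩)
      · exact ⟨b, hb, by simp [Equiv.swap_apply_def, hab.symm]⟩
      · rcases eq_or_ne i b with rfl | hib
        · exact ⟨a, ha, by simp [Equiv.swap_apply_def, hia, hcb.symm]⟩
        · have hic : i ≠ c := fun e => hc (e ▸ hi)
          exact ⟨i, hi, by simp [Equiv.swap_apply_of_ne_of_ne, hia, hib, hic]⟩
  set S := insert c (T.erase a) with hS
  obtain ⟨c0, l, hc0⟩ := exists_rt (F := F) (κ := Fin k) (by simpa using hk)
  obtain ⟨e0, hee, hce⟩ := (hU F (Fin k)).exists_partner hc0.ne hc0.iso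
  simp only [hU_B] at hee hce
  have hec := ip_symm1 hce
  have he0 : e0 ≠ 0 := fun h => zero_ne_one (α := F) (by rw [← hce, h, ip_zero_right])
  obtain ⟨m, hmc, hme, hmm⟩ := exists_mid (κ := Fin k) (by simpa using hk) hc0.iso hee hce
  set w : ι → Fin k → F := fun i => if i = c then c0 else e0 with hw
  have hv0 : Sing T fun _ => c0 := fun i _ => ⟨hc0.ne, hc0.iso⟩
  have hw0 : Sing S w := fun i _ => by
    simp only [hw]
    split_ifs
    exacts [⟨hc0.ne, hc0.iso⟩, ⟨he0, hee⟩]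
  have hTne : T.Nonempty := ⟨a, ha⟩
  have hSne : S.Nonempty := ⟨c, Finset.mem_insert_self _ _⟩
  have hA := root_move hk hM hTne hv hv0 hγv
  have hB : 1 + γ • NT S w ∈ M := by
    have hp := hcyc σ hσ3
    have h1 := hM.mul _ (hM.mul _ hp _ hγv) _ (hM.inv _ hp)
    rw [Matrix.mul_add, Matrix.add_mul, Matrix.mul_one, (isU_pm σ).inv_right, Matrix.mul_smul, Matrix.smul_mul,
      NT_perm, himg] at h1
    refine root_move hk hM hSne (fun i hi => ?_) hw0 h1
    rw [← himg, Finset.mem_image] at hi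
    obtain ⟨j, hj, rfl⟩ := hi
    simpa using hv j hj
  have hAs := (in_smul_NT hv0 hA).skew hM hTne hv0
  have hBs := (in_smul_NT hw0 hB).skew hM hSne hw0
  set A := γ • NT T fun _ => c0 with hAdef
  set B := γ • NT S w with hBdef
  have hAA : A * A = 0 := by rw [hAdef, smul_mul_smul_comm, NT_sq hTne hv0, smul_zero]
  have hBB : B * B = 0 := by rw [hBdef, smul_mul_smul_comm, NT_sq hSne hw0, smul_zero]
  have haS : a ∉ S := by simp [hS, hca.symm]
  have hcS : c ∈ S := Finset.mem_insert_self _ _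
  have hABA : A * B * A = 0 := by
    rw [hAdef, hBdef, smul_mul_smul_comm, smul_mul_smul_comm, NT, NT, krn_mul, krn_mul,
      krn_eq_zero a (by rw [if_pos ha, if_neg haS, Matrix.mul_one, dy_self_sq hc0.iso]), smul_zero]
  have hBAB : B * A * B = 0 := by
    rw [hAdef, hBdef, smul_mul_smul_comm, smul_mul_smul_comm, NT, NT, krn_mul, krn_mul,
      krn_eq_zero c (by rw [if_pos hcS, if_neg hc, Matrix.mul_one, show w c = c0 by simp [hw],
        dy_self_sq hc0.iso]), smul_zero]
  set f1 : ι → Matrix (Fin k) (Fin k) F := fun i =>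
    (if i ∈ T then dy c0 c0 else 1) * (if i ∈ S then dy (w i) (w i) else 1) with hf1
  set f2 : ι → Matrix (Fin k) (Fin k) F := fun i =>
    (if i ∈ S then dy (w i) (w i) else 1) * (if i ∈ T then dy c0 c0 else 1) with hf2
  have hXM : 1 + (γ * γ) • (krn f1 - krn f2) ∈ M := by
    have h1 := hM.mul _ (hM.mul _ (hM.mul _ hA _ hB) _ (hM.inv _ hA)) _ (hM.inv _ hB)
    rw [conjTranspose_add, conjTranspose_add, conjTranspose_one, hAs, hBs] at h1
    convert h1 using 1
    rw [show krn f1 = NT T (fun _ => c0) * NT S w by rw [NT, NT, krn_mul],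
      show krn f2 = NT S w * NT T (fun _ => c0) by rw [NT, NT, krn_mul],
      smul_sub, ← smul_mul_smul_comm, ← smul_mul_smul_comm, ← hAdef, ← hBdef]
    have z1 : ∀ Y, A * (A * Y) = 0 := fun Y => by rw [← Matrix.mul_assoc, hAA, Matrix.zero_mul]
    have z2 : ∀ Y, B * (B * Y) = 0 := fun Y => by rw [← Matrix.mul_assoc, hBB, Matrix.zero_mul]
    have z3 : ∀ Y, A * (B * (A * Y)) = 0 := fun Y => by
      rw [← Matrix.mul_assoc, ← Matrix.mul_assoc, hABA, Matrix.zero_mul]
    have z4 : ∀ Y, B * (A * (B * Y)) = 0 := fun Y => by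
      rw [← Matrix.mul_assoc, ← Matrix.mul_assoc, hBAB, Matrix.zero_mul]
    rw [Matrix.mul_assoc] at hABA hBAB
    simp only [Matrix.mul_add, Matrix.add_mul, Matrix.one_mul, Matrix.mul_one, Matrix.mul_neg, Matrix.neg_mul,
      neg_neg, Matrix.mul_assoc, hAA, hBB, hABA, hBAB, z1, z2, z3, z4, neg_zero, add_zero, Matrix.mul_zero]
    abel
  set T2 : Finset ι := {a, c} with hT2
  have hsing2 : Sing T2 fun _ => c0 := fun i _ => ⟨hc0.ne, hc0.iso⟩
  have hfa : f1 a = dy c0 c0 ∧ f2 a = dy c0 c0 := by simp [hf1, hf2, ha, haS]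
  have hfc : f1 c = dy c0 c0 ∧ f2 c = dy c0 c0 := by simp [hf1, hf2, hc, hcS, hw]
  have hP : ∀ f : ι → Matrix (Fin k) (Fin k) F, f a = dy c0 c0 → f c = dy c0 c0 →
      NT T2 (fun _ => c0) * NT T2 (fun _ => e0) * krn f * (NT T2 (fun _ => e0) * NT T2 fun _ => c0) = krn f := by
    intro f h1 h2
    rw [NT, NT, krn_mul, krn_mul, krn_mul, krn_mul]
    congr 1
    funext i
    by_cases hi : i ∈ T2
    · have hfi : f i = dy c0 c0 := by
        rcases Finset.mem_insert.1 hi with rfl | hi'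
        exacts [h1, (Finset.mem_singleton.1 hi') ▸ h2]
      simp [hi, hfi, dy_mul, hce, hec]
    · simp [hi]
  have hX : In M T2 (fun _ => c0) ((γ * γ) • (krn f1 - krn f2)) :=
    ⟨hXM, (γ * γ) • (NT T2 (fun _ => e0) * (krn f1 - krn f2) * NT T2 fun _ => e0), by
      conv_lhs => rw [← hP f1 hfa.1 hfc.1, ← hP f2 hfa.2 hfc.2, ← Matrix.sub_mul, ← Matrix.mul_sub]
      simp only [Matrix.mul_smul, Matrix.smul_mul, Matrix.mul_assoc]⟩
  have hbS : b ∈ S := by simp [hS, hab.symm, hb]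
  have hX0 : (γ * γ) • (krn f1 - krn f2) ≠ 0 := by
    refine smul_ne_zero (mul_ne_zero hγ hγ) fun h0 => ?_
    set u : ι → Fin k → F := fun i => if i = a ∨ i = c then e0 else c0 with hu
    have h1 := congrArg (· *ᵥ pv u) (sub_eq_zero.1 h0)
    simp only [krn_pv] at h1
    rw [pv_eq_zero (u := fun i => f2 i *ᵥ u i) b (by
      simp [hf2, hu, hb, hbS, hab.symm, hcb.symm, ← mulVec_mulVec, dy_mulVec, hc0.iso])] at h1
    refine pv_ne_zero (fun i => ?_) h1
    rcases eq_or_ne i a with rfl | hia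
    · simp [hfa.1, hu, dy_mulVec, hec, hc0.ne]
    rcases eq_or_ne i c with rfl | hic
    · simp [hfc.1, hu, dy_mulVec, hec, hc0.ne]
    by_cases hiT : i ∈ T
    · simp [hf1, hu, hiT, hia, hic, hS, hw, ← mulVec_mulVec, dy_mulVec, hce, hec, hc0.ne]
    · simp [hf1, hu, hiT, hia, hic, hS, hc0.ne]
  set π := dy c0 e0 + dy e0 c0 with hπ
  have hπc : π *ᵥ c0 = c0 := by rw [hπ, add_mulVec, dy_mulVec, dy_mulVec, hce, hc0.iso, one_smul, zero_smul, add_zero]
  have hπe : π *ᵥ e0 = e0 := by rw [hπ, add_mulVec, dy_mulVec, dy_mulVec, hec, hee, one_smul, zero_smul, zero_add]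
  have hπ1 : π ≠ 1 := fun h => by
    have h1 := congrArg (· *ᵥ m) h
    simp only [hπ, add_mulVec, dy_mulVec, hmc, hme, zero_smul, add_zero, one_mulVec] at h1
    rw [← h1, ip_zero_left] at hmm
    exact zero_ne_one hmm
  have hπd : ∀ x y, π *ᵥ x = x → π * dy x y = dy x y := fun x y hx => by
    refine Matrix.ext_iff_mulVec.2 fun z => ?_
    rw [← mulVec_mulVec, dy_mulVec, mulVec_smul, hx]
  obtain ⟨T', v', γ', hsub, hv', hγ', hmem, hfix⟩ := In.finish hG hM _ le_rfl ⟨a, Finset.mem_insert_self _ _⟩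
    hsing2 hX hX0
  refine ⟨T', v', γ', ?_, hv', hγ', hmem⟩
  refine Finset.card_lt_card ((Finset.ssubset_iff_of_subset fun d hd => ?_).2
    ⟨c, hsub (Finset.mem_insert_of_mem (Finset.mem_singleton_self _)), hc⟩)
  rcases eq_or_ne d a with rfl | hda
  · exact hsub (Finset.mem_insert_self _ _)
  have hdc : d ≠ c := fun e => hc (e ▸ hd)
  refine hfix d (by simp [hT2, hda, hdc]) π hπ1 ?_
  have hdS : d ∈ S := by simp [hS, hda, hd]
  rw [Matrix.mul_smul, Matrix.mul_sub, sl, krn_mul, krn_mul]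
  congr 3 <;> funext i <;> rcases eq_or_ne i d with rfl | hi
  · simp only [Function.update_self, hf1, if_pos hd, ← Matrix.mul_assoc, hπd _ _ hπc]
  · rw [Function.update_of_ne hi, Matrix.one_mul]
  · simp only [Function.update_self, hf2, if_pos hdS, hw, if_neg hdc, ← Matrix.mul_assoc, hπd _ _ hπe]
  · rw [Function.update_of_ne hi, Matrix.one_mul]

/-- A translation over all slots. -/
theorem exists_full_root (hG : Good F k) (hM : Ov M) (hS : ¬ Small M)
    (hcyc : ∀ σ : Equiv.Perm ι, σ ^ 3 = 1 → pm σ ∈ M) :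
    ∃ (v : ι → Fin k → F) (γ : F), Sing Finset.univ v ∧ γ ≠ 0 ∧ 1 + γ • NT Finset.univ v ∈ M := by
  obtain ⟨T, v, γ, hT, hv, hγ, hmem⟩ := exists_big_root hG hM hS
  have key : ∀ (n : ℕ) (T : Finset ι) (v : ι → Fin k → F) (γ : F), Fintype.card ι - T.card ≤ n → 2 ≤ T.card →
      Sing T v → γ ≠ 0 → 1 + γ • NT T v ∈ M →
      ∃ (v : ι → Fin k → F) (γ : F), Sing Finset.univ v ∧ γ ≠ 0 ∧ 1 + γ • NT Finset.univ v ∈ M := by
    intro n
    induction n with
    | zero =>
      intro T v γ hn _ hv hγ h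
      have : T = Finset.univ := Finset.eq_univ_of_card T (by have := Finset.card_le_univ T; omega)
      subst this
      exact ⟨v, γ, hv, hγ, h⟩
    | succ n ih =>
      intro T v γ hn hT hv hγ h
      by_cases hall : T = Finset.univ
      · subst hall; exact ⟨v, γ, hv, hγ, h⟩
      obtain ⟨c, hc⟩ : ∃ c, c ∉ T := by
        by_contra hh
        push Not at hh
        exact hall (Finset.eq_univ_iff_forall.2 hh)
      obtain ⟨T', v', γ', hlt, hv', hγ', h'⟩ := merge_step hG hM hcyc hT hv hγ h hc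
      exact ih T' v' γ' (by omega) (by omega) hv' hγ' h'
  exact key _ T v γ le_rfl hT hv hγ hmem

end Cfsg.Agent.H30.UWreath
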