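import Cfsg.Agent.H30.UWreath.Link
import Cfsg.Agent.H24.Tensor.Dichotomy

/-!
In odd characteristic small overgroups consist of monomial elements.
-/

set_option autoImplicit false
set_option maxHeartbeats 1000000
set_option linter.style.haveILetI false
set_option linter.unusedSectionVars false

universe u

namespace Cfsg.Agent.H30.UWreath

open Matrix Module Cfsg.Agent.H98.TensorUnit
open scoped Kronecker

variable {F : Type*} [Field F] [StarRing F] [UField F] [Finite F] {k : ℕ} {ι : Type u} [Fintype ι] [DecidableEq ι]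

variable {M : Set (Mt F ι k)}

/-- Outside the monomials the image of a singular block lies in a hyperbolic plane. -/
theorem Ctx.plane (hC : Ctx M) (h2 : (2 : F) ≠ 0) {z : Mt F ι k} (hz : z ∈ M) (hsq : (z - 1) * (z - 1) = 0)
    (hne : ¬ Mono z) (a : ι) {c : Fin k → F} {l : F} (hc : IsRt c l) :
    ∃ (h : Fin k → F) (S : Matrix ({i // i ≠ a} → Fin k) ({i // i ≠ a} → Fin k) F),
      ip h h = 0 ∧ ip c h = 1 ∧ IsUnit (lk a c z) ∧
      rs a z * cb ({i // i ≠ a} → Fin k) c = cb ({i // i ≠ a} → Fin k) c * S + cb ({i // i ≠ a} → Fin k) h * lk a c z := by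
  classical
  set β := {i // i ≠ a} → Fin k
  set L := lk a c z with hL
  set Z := rs a z with hZ
  set C := cb β c with hCdef
  have hzU := hC.ov.isU _ hz
  have hk3 := hC.good.three
  haveI : Nonempty (Fin k) := ⟨⟨0, by omega⟩⟩
  haveI : Nonempty β := inferInstance
  have hCC : Cᴴ * C = 0 := by rw [hCdef, cbH_cb, hc.iso, zero_smul]
  have hLZ : Cᴴ * Z * C = L := by
    rw [hL, lk, map_sub, map_one, Matrix.mul_sub, Matrix.sub_mul, Matrix.mul_one, hCC, sub_zero]
  have hLH : Lᴴ = -L := lk_skew a c hzU hsq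
  have hLnil : ¬ IsNilpotent L := hC.not_nilp hz hsq hne hc
  have hZU : IsU Z := (rs_isU_iff a).2 hzU
  set D := rs a (sl a (rt c l)) with hD
  have hDeq : D = 1 + l • (C * Cᴴ) := by rw [hD, sl_rt, map_add, map_one, map_smul, rs_nd]
  have hDU : IsU D := (rs_isU_iff a).2 (sl_isU a (rt_isSU hc.iso hc.skew).1)
  let tl := Matrix.toLinAlgEquiv' (R := F) (n := Fin k × β)
  let mkU : ∀ X : Matrix (Fin k × β) (Fin k × β) F, IsU X → (Module.End F (Fin k × β → F))ˣ := fun X hX =>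
    ⟨tl X, tl Xᴴ, by rw [← map_mul, hX.inv_right, map_one], by rw [← map_mul, show Xᴴ * X = 1 from hX, map_one]⟩
  have hdich := Cfsg.Agent.H24.Tensor.dichotomy h2 C.mulVecLin (l • Cᴴ).mulVecLin
    (fun x y h => by
      obtain ⟨e, he⟩ := (hU F (Fin k)).exists_one hc.ne
      rw [hU_B] at he
      have h1 := congrArg ((cb β e)ᴴ *ᵥ ·) h
      simpa [hCdef, mulVec_mulVec, cbH_cb, he] using h1)
    (LinearMap.ext fun x => by simp [mulVec_mulVec, hCC, smul_mulVec])
    (mkU D hDU) (mkU Z hZU)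
    (LinearMap.ext fun v => by
      show D *ᵥ v = v + C *ᵥ ((l • Cᴴ) *ᵥ v)
      rw [hDeq, add_mulVec, one_mulVec, mulVec_mulVec, Matrix.mul_smul])
    ((l • L).mulVecLin)
    (LinearMap.ext fun x => by
      show (l • Cᴴ) *ᵥ (Z *ᵥ (C *ᵥ x)) = (l • L) *ᵥ x
      rw [mulVec_mulVec, mulVec_mulVec, Matrix.smul_mul, Matrix.smul_mul, hLZ])
    (LinearMap.ext fun x => by
      show (l • Cᴴ) *ᵥ (Zᴴ *ᵥ (C *ᵥ x)) = -((l • L) *ᵥ x)
      have h1 : Cᴴ * Zᴴ * C = -L := by
        rw [← hLH, ← hLZ, conjTranspose_mul, conjTranspose_mul, conjTranspose_conjTranspose, Matrix.mul_assoc]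
      rw [mulVec_mulVec, mulVec_mulVec, Matrix.smul_mul, Matrix.smul_mul, h1, smul_neg, neg_mulVec])
  obtain ⟨j₀, hj₀, A₀, hj1, hj2, ha2, hTa, hjc, hjz, hker, -, hneg⟩ := hdich.resolve_left fun ⟨n, hn⟩ => hLnil ⟨n, by
    have e : (l • L).mulVecLin = Matrix.toLinAlgEquiv' (l • L) := rfl
    rw [e, ← map_pow, smul_pow] at hn
    exact (smul_eq_zero.1 ((Matrix.toLinAlgEquiv' (R := F) (n := β)).injective
      (hn.trans (map_zero _).symm))).resolve_left (pow_ne_zero n hc.l0)⟩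
  set J := tl.symm (j₀ : Module.End F (Fin k × β → F)) with hJ
  have hdM : sl a (rt c l) ∈ M := hC.ov.slot a _ (rt_isSU hc.iso hc.skew)
  have hJM : (rs a).symm J ∈ M := by
    refine Subgroup.closure_induction (p := fun (u : (Module.End F (Fin k × β → F))ˣ) _ => (rs a).symm (tl.symm (u : Module.End F (Fin k × β → F))) ∈ M)
      ?_ ?_ ?_ ?_ hj₀
    · rintro _ (rfl | rfl)
      · show (rs a).symm (tl.symm (tl D)) ∈ M
        rw [AlgEquiv.symm_apply_apply, hD, AlgEquiv.symm_apply_apply]; exact hdM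
      · show (rs a).symm (tl.symm (tl Z * tl D * tl Zᴴ)) ∈ M
        rw [← map_mul, ← map_mul, AlgEquiv.symm_apply_apply, hD, hZ, ← rs_conjT, ← map_mul, ← map_mul,
          AlgEquiv.symm_apply_apply]
        exact hC.ov.mul _ (hC.ov.mul _ hz _ hdM) _ (hC.ov.inv _ hz)
    · show (rs a).symm (tl.symm 1) ∈ M
      rw [map_one, map_one]; exact hC.ov.one a
    · intro x y _ _ hx hy
      show (rs a).symm (tl.symm (_ * _)) ∈ M
      rw [map_mul, map_mul]; exact hC.ov.mul _ hx _ hy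
    · intro x _ hx
      show (rs a).symm (tl.symm _) ∈ M
      have h1 := hC.ov.inv _ hx
      convert h1 using 1
      set X := (rs a).symm (tl.symm (x : Module.End F (Fin k × β → F)))
      set Y := (rs a).symm (tl.symm ((x⁻¹ : (Module.End F (Fin k × β → F))ˣ) : Module.End F (Fin k × β → F)))
      have h2 : X * Y = 1 := by rw [← map_mul, ← map_mul, Units.mul_inv, map_one, map_one]
      rw [← Matrix.one_mul Y, ← show Xᴴ * X = 1 from hC.ov.isU _ hx, Matrix.mul_assoc, h2, Matrix.mul_one]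
  set j := (rs a).symm J
  have hJj : rs a j = J := (rs a).apply_symm_apply J
  have hJv : ∀ v, (j₀ : Module.End F (Fin k × β → F)) v = J *ᵥ v := fun v => by
    rw [← Matrix.toLinAlgEquiv'_apply, hJ]
    exact (LinearMap.congr_fun (tl.apply_symm_apply _) v).symm
  set am := LinearMap.toMatrix' A₀ with ham
  have hav : ∀ x, A₀ x = am *ᵥ x := fun x => by rw [ham, LinearMap.toMatrix'_mulVec]
  have hJC : J * C = C * am := Matrix.ext_iff_mulVec.2 fun x => by
    rw [← mulVec_mulVec, ← mulVec_mulVec, ← hav, ← hJv]; exact hjc x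
  have hJZ : J * (Z * C) = Z * C * am := Matrix.ext_iff_mulVec.2 fun x => by
    rw [← mulVec_mulVec, ← mulVec_mulVec, ← mulVec_mulVec, ← mulVec_mulVec, ← hav, ← hJv]; exact hjz x
  have hJJ : J * J = 1 := by
    rw [hJ, ← map_mul, ← Units.val_mul, hj2, Units.val_one, map_one]
  have hJU : IsU J := by rw [← hJj]; exact (rs_isU_iff a).2 (hC.ov.isU _ hJM)
  have hJH : Jᴴ = J := by
    rw [← Matrix.mul_one Jᴴ, ← hJJ, ← Matrix.mul_assoc, show Jᴴ * J = 1 from hJU, Matrix.one_mul]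
  have hamam : am * am = 1 := Matrix.ext_iff_mulVec.2 fun x => by
    rw [← mulVec_mulVec, ← hav, ← hav, one_mulVec]
    exact LinearMap.congr_fun ha2 x
  have hamL : L * am = am * L := Matrix.ext_iff_mulVec.2 fun x => by
    have h1 := LinearMap.congr_fun hTa x
    simp only [Module.End.mul_apply, Matrix.mulVecLin_apply, hav, smul_mulVec, mulVec_smul] at h1
    rw [← mulVec_mulVec, ← mulVec_mulVec]
    exact smul_right_injective _ hc.l0 h1
  obtain ⟨μ, hμ⟩ : ∃ μ : F, am * amᴴ = μ • 1 := by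
    obtain ⟨μ, hμ⟩ := (hC.small.fac a) c hc.ne hc.iso (l • (am * amᴴ)) (by
      show (rs a).symm _ ∈ M
      have h1 := hC.ov.mul _ (hC.ov.mul _ hJM _ hdM) _ (hC.ov.inv _ hJM)
      convert h1 using 1
      apply (rs a).injective
      rw [AlgEquiv.apply_symm_apply, map_mul, map_mul, rs_conjT, hJj, ← hD, hDeq, Matrix.mul_add, Matrix.add_mul,
        Matrix.mul_one, hJU.inv_right, up, ← hCdef]
      congr 1
      simp only [Matrix.mul_smul, Matrix.smul_mul]
      rw [show J * (C * Cᴴ) * Jᴴ = (J * C) * (J * C)ᴴ by rw [conjTranspose_mul]; simp only [Matrix.mul_assoc], hJC,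
        conjTranspose_mul]
      simp only [Matrix.mul_assoc])
    exact ⟨l⁻¹ * μ, by rw [← smul_smul, ← hμ, smul_smul, inv_mul_cancel₀ hc.l0, one_smul]⟩
  have hamH : amᴴ = μ • am := by
    rw [← Matrix.one_mul amᴴ, ← hamam, Matrix.mul_assoc, hμ, Matrix.mul_smul, Matrix.mul_one]
  have hμ1 : μ = 1 := by
    have h1 : amᴴ * L = L * am := by
      calc amᴴ * L = (J * C)ᴴ * (Z * C) := by rw [hJC, conjTranspose_mul, Matrix.mul_assoc, ← Matrix.mul_assoc Cᴴ, hLZ]
        _ = Cᴴ * (J * (Z * C)) := by rw [conjTranspose_mul, hJH, Matrix.mul_assoc]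
        _ = L * am := by rw [hJZ, ← Matrix.mul_assoc, ← Matrix.mul_assoc, hLZ]
    rw [hamH, Matrix.smul_mul, hamL] at h1
    have h3 : (μ - 1) • (am * L) = 0 := by rw [sub_smul, one_smul, h1, sub_self]
    refine sub_eq_zero.1 ((smul_eq_zero.1 h3).resolve_right fun h4 => hLnil ⟨1, ?_⟩)
    rw [pow_one, ← Matrix.one_mul L, ← hamam, Matrix.mul_assoc, h4, Matrix.mul_zero]
  have hamU : IsU am := by
    rw [IsU, hamH, hμ1, one_smul, hamam]
  -- the involution splits
  have hcomm : Commute j (sl a (rt c l)) := by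
    refine commute_of_conj_eq (hC.ov.isU _ hJM) ?_
    apply (rs a).injective
    rw [map_mul, map_mul, rs_conjT, hJj, ← hD, hDeq, Matrix.mul_add, Matrix.add_mul, Matrix.mul_one,
      hJU.inv_right, Matrix.mul_smul, Matrix.smul_mul, show J * (C * Cᴴ) * Jᴴ = (J * C) * (J * C)ᴴ by
        rw [conjTranspose_mul]; simp only [Matrix.mul_assoc], hJC, conjTranspose_mul, Matrix.mul_assoc,
      ← Matrix.mul_assoc am, hamU.inv_right, Matrix.one_mul]
  obtain ⟨Aj, σ, hAj, hrep⟩ := hC.cent hJM hc hcomm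
  obtain ⟨Y, hY, hsplit⟩ := mono_split a hAj hrep (fix_of_commute (by omega) hAj hc (hrep ▸ hcomm))
  rw [hJj] at hsplit
  obtain ⟨e, hee, hce⟩ := (hU F (Fin k)).exists_partner hc.ne hc.iso
  rw [hU_B] at hee hce
  have hec := ip_symm1 hce
  obtain ⟨x, hx⟩ : ∃ x : F, Aj a *ᵥ c = x • c := by
    by_contra hh
    push Not at hh
    obtain ⟨φ, hφ1, hφ⟩ := exists_dot (x := Aj a *ᵥ c) (U := Submodule.span F {c}) fun hm => by
      obtain ⟨s, hs⟩ := Submodule.mem_span_singleton.1 hm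
      exact hh s hs.symm
    have h1 := congrArg (fun Z => (cb β (star φ))ᴴ * (Z * C)) hsplit
    change (cb β (star φ))ᴴ * (J * C) = (cb β (star φ))ᴴ * ((Aj a ⊗ₖ Y) * cb β c) at h1
    rw [hJC, kr_cb] at h1
    change (cb β (star φ))ᴴ * (cb β c * am) = (cb β (star φ))ᴴ * (cb β (Aj a *ᵥ c) * Y) at h1
    simp only [hCdef, ← Matrix.mul_assoc, cbH_cb, ip, star_star, dotProduct_comm (Aj a *ᵥ c),
      dotProduct_comm c, hφ1, hφ c (Submodule.mem_span_singleton_self c), zero_smul, one_smul, Matrix.zero_mul,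
      Matrix.one_mul] at h1
    rw [IsU, ← h1, Matrix.mul_zero] at hY
    exact zero_ne_one hY
  have hx0 : x ≠ 0 := fun h => (hAj a).mulVec_ne hc.ne (by rw [hx, h, zero_smul])
  set A := x⁻¹ • Aj a with hA
  have hamY : am = x • Y := by
    refine cb_cancel hc.ne (?_ : C * am = C * (x • Y))
    rw [← hJC, hsplit, hCdef, kr_cb, hx, cb_smul, Matrix.smul_mul, Matrix.mul_smul]
  have hJA : J = A ⊗ₖ am := by
    rw [hsplit, hamY, hA, smul_kronecker, kronecker_smul, smul_smul, inv_mul_cancel₀ hx0, one_smul]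
  have hAc : A *ᵥ c = c := by rw [hA, smul_mulVec, hx, smul_smul, inv_mul_cancel₀ hx0, one_smul]
  have hAA : A * A = 1 := by
    have h1 := hJJ
    rw [hJA, ← mul_kronecker_mul, hamam, ← one_kronecker_one] at h1
    exact kr_left_inj h1
  have hAH : Aᴴ = A := by
    have h1 := hJH
    rw [hJA, conjTranspose_kronecker, hamH, hμ1, one_smul] at h1
    obtain ⟨u1, u2, hu⟩ : ∃ u1 u2, am u1 u2 ≠ 0 := by
      by_contra hh
      push Not at hh
      rw [show am = 0 from Matrix.ext hh, Matrix.mul_zero] at hamam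
      exact zero_ne_one hamam
    ext u v
    exact mul_right_cancel₀ hu (congrFun (congrFun h1 (u, u1)) (v, u2))
  have hJcb : ∀ (w : Fin k → F) (y : β → F), J *ᵥ (cb β w *ᵥ y) = cb β (A *ᵥ w) *ᵥ (am *ᵥ y) := fun w y => by
    rw [hJA, mulVec_mulVec, kr_cb, ← mulVec_mulVec]
  have hAsym : ∀ u v, ip (A *ᵥ u) v = ip u (A *ᵥ v) := fun u v => by rw [ip_adj, hAH]
  -- eigenspaces
  obtain ⟨h₀, hh₀⟩ : ∃ h₀, h₀ = (2 : F)⁻¹ • (e + A *ᵥ e) := ⟨_, rfl⟩
  have hAh₀ : A *ᵥ h₀ = h₀ := by rw [hh₀, mulVec_smul, mulVec_add, mulVec_mulVec, hAA, one_mulVec, add_comm]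
  have hch₀ : ip c h₀ = 1 := by
    rw [hh₀, ip_smul_right, ip_add_right, ← hAsym, hAc, hce, star_inv₀, star_ofNat, ← two_mul, mul_one,
      inv_mul_cancel₀ h2]
  obtain ⟨t, ht⟩ := (hU F (Fin k)).exists_trace (-ip h₀ h₀) (by rw [map_neg]; exact congrArg Neg.neg (ip_conj h₀ h₀))
  rw [starRingAut_apply] at ht
  obtain ⟨h, hh⟩ : ∃ h, h = h₀ + t • c := ⟨_, rfl⟩
  have hAh : A *ᵥ h = h := by rw [hh, mulVec_add, mulVec_smul, hAh₀, hAc]
  have hch : ip c h = 1 := by rw [hh, ip_add_right, ip_smul_right, hch₀, hc.iso, mul_zero, add_zero]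
  have hhh : ip h h = 0 := by
    simp only [hh, ip_add_left, ip_add_right, ip_smul_left, ip_smul_right, hc.iso, hch₀, ip_symm1 hch₀]
    linear_combination ht
  have hhc := ip_symm1 hch
  set D0 := LinearMap.ker (Matrix.mulVecLin (J + 1))
  set Xm := LinearMap.ker (Matrix.mulVecLin (am + 1))
  have hXm : ∀ y, y ∈ Xm ↔ am *ᵥ y = -y := fun y => by
    simp [Xm, add_mulVec, add_eq_zero_iff_eq_neg]
  have hD0 : ∀ v, v ∈ D0 ↔ J *ᵥ v = -v := fun v => by
    simp [D0, add_mulVec, add_eq_zero_iff_eq_neg]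
  have hup : D0 ≤ Xm.map C.mulVecLin ⊔ Xm.map (Z * C).mulVecLin := fun v hv => by
    obtain ⟨p, q, hp, hq, rfl⟩ := hneg v (by rw [hJv]; exact (hD0 v).1 hv)
    refine Submodule.add_mem_sup ⟨p, (hXm p).2 (by rw [← hav]; exact hp), rfl⟩
      ⟨q, (hXm q).2 (by rw [← hav]; exact hq), ?_⟩
    show (Z * C) *ᵥ q = _
    rw [← mulVec_mulVec]; rfl
  have hD2 : finrank F D0 ≤ 2 * finrank F Xm := by
    refine (Submodule.finrank_mono hup).trans ((Submodule.finrank_add_le_finrank_add_finrank _ _).trans ?_)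
    exact (Nat.add_le_add (Submodule.finrank_map_le _ Xm) (Submodule.finrank_map_le _ Xm)).trans (two_mul _).ge
  have hproj : ∀ (f w : Fin k → F) (y : β → F), (cb β f)ᴴ *ᵥ (cb β w *ᵥ y) = ip w f • y := fun f w y => by
    rw [mulVec_mulVec, cbH_cb, smul_mulVec, one_mulVec]
  obtain ⟨w₀, hw₀0, hw₀⟩ : ∃ w₀, w₀ ≠ 0 ∧ A *ᵥ w₀ = -w₀ := by
    by_contra hcon
    push Not at hcon
    have hA1 : A = 1 := Matrix.ext_iff_mulVec.2 fun w => by
      rw [one_mulVec, ← sub_eq_zero]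
      by_contra hw
      exact hcon _ hw (by rw [mulVec_sub, mulVec_mulVec, hAA, one_mulVec, neg_sub])
    obtain ⟨m, hmc, hmh, hmm⟩ := exists_mid (κ := Fin k) (by simpa using hk3) hc.iso hhh hch
    let Φ : (Xm × Xm × Xm) →ₗ[F] D0 := LinearMap.codRestrict D0
      (((cb β c).mulVecLin ∘ₗ Xm.subtype).coprod (((cb β h).mulVecLin ∘ₗ Xm.subtype).coprod ((cb β m).mulVecLin ∘ₗ Xm.subtype)))
      (fun ⟨p, q, r⟩ => (hD0 _).2 (by
        simp only [LinearMap.coprod_apply, LinearMap.comp_apply, Submodule.subtype_apply, Matrix.mulVecLin_apply,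
          mulVec_add, hJcb, hA1, one_mulVec, (hXm _).1 p.2, (hXm _).1 q.2, (hXm _).1 r.2, mulVec_neg]
        abel))
    have hinj : Function.Injective Φ := (injective_iff_map_eq_zero _).2 fun ⟨p, q, r⟩ hpq => by
      have h0 : cb β c *ᵥ p.1 + (cb β h *ᵥ q.1 + cb β m *ᵥ r.1) = 0 := congrArg Subtype.val hpq
      have g1 := congrArg ((cb β h)ᴴ *ᵥ ·) h0
      have g2 := congrArg ((cb β c)ᴴ *ᵥ ·) h0
      have g3 := congrArg ((cb β m)ᴴ *ᵥ ·) h0
      simp only [mulVec_add, hproj, hch, hhc, hhh, hc.iso, hmc, hmh, hmm, ip_symm0 hmc, ip_symm0 hmh, zero_smul,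
        one_smul, add_zero, zero_add, mulVec_zero] at g1 g2 g3
      exact Prod.ext (Subtype.ext g1) (Prod.ext (Subtype.ext g2) (Subtype.ext g3))
    have h5 := LinearMap.finrank_le_finrank_of_injective hinj
    rw [finrank_prod, finrank_prod] at h5
    have hXm0 : finrank F Xm = 0 := by omega
    rw [Submodule.finrank_eq_zero] at hXm0
    have ham1 : am = 1 := Matrix.ext_iff_mulVec.2 fun y => by
      have h6 : am *ᵥ y - y ∈ Xm := (hXm _).2 (by rw [mulVec_sub, mulVec_mulVec, hamam, one_mulVec, neg_sub])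
      rw [hXm0, Submodule.mem_bot, sub_eq_zero] at h6
      rw [h6, one_mulVec]
    refine hj1 (Units.ext ?_)
    rw [Units.val_one, ← map_one tl, ← tl.apply_symm_apply (j₀ : Module.End F (Fin k × β → F)), ← hJ, hJA, hA1,
      ham1, one_kronecker_one]
  have hw₀c : ∀ u, A *ᵥ u = u → ip w₀ u = 0 := fun u hu => by
    have h1 := hAsym w₀ u
    rw [hw₀, hu, ip_neg_left] at h1
    exact (mul_eq_zero.1 (show (2 : F) * ip w₀ u = 0 by linear_combination -h1)).resolve_left h2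
  obtain ⟨f, hf⟩ := (hU F (Fin k)).exists_one hw₀0
  rw [hU_B] at hf
  set Xp := LinearMap.ker (Matrix.mulVecLin (am - 1))
  have hXp : ∀ y, y ∈ Xp ↔ am *ᵥ y = y := fun y => by simp [Xp, sub_mulVec, sub_eq_zero]
  let Φ : (Xm × Xm × Xp) →ₗ[F] D0 := LinearMap.codRestrict D0
    (((cb β c).mulVecLin ∘ₗ Xm.subtype).coprod (((cb β h).mulVecLin ∘ₗ Xm.subtype).coprod ((cb β w₀).mulVecLin ∘ₗ Xp.subtype)))
    (fun ⟨p, q, r⟩ => (hD0 _).2 (by
      simp only [LinearMap.coprod_apply, LinearMap.comp_apply, Submodule.subtype_apply, Matrix.mulVecLin_apply,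
        mulVec_add, hJcb, hAc, hAh, hw₀, (hXm _).1 p.2, (hXm _).1 q.2, (hXp _).1 r.2, mulVec_neg, cb_neg, neg_mulVec]
      abel))
  have hinj : Function.Injective Φ := (injective_iff_map_eq_zero _).2 fun ⟨p, q, r⟩ hpq => by
    have h0 : cb β c *ᵥ p.1 + (cb β h *ᵥ q.1 + cb β w₀ *ᵥ r.1) = 0 := congrArg Subtype.val hpq
    have g1 := congrArg ((cb β h)ᴴ *ᵥ ·) h0
    have g2 := congrArg ((cb β c)ᴴ *ᵥ ·) h0
    simp only [mulVec_add, hproj, hch, hhc, hhh, hc.iso, hw₀c c hAc, hw₀c h hAh, zero_smul,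
      one_smul, add_zero, zero_add, mulVec_zero] at g1 g2
    have g3 := congrArg ((cb β f)ᴴ *ᵥ ·) h0
    simp only [mulVec_add, hproj, g1, g2, hf, smul_zero, zero_add, one_smul, mulVec_zero] at g3
    exact Prod.ext (Subtype.ext g1) (Prod.ext (Subtype.ext g2) (Subtype.ext g3))
  have h5 := LinearMap.finrank_le_finrank_of_injective hinj
  rw [finrank_prod, finrank_prod] at h5
  have hXp0 : finrank F Xp = 0 := by omega
  rw [Submodule.finrank_eq_zero] at hXp0
  have hneg1 : ∀ y, am *ᵥ y = -y := fun y => by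
    have h6 : am *ᵥ y + y ∈ Xp := (hXp _).2 (by rw [mulVec_add, mulVec_mulVec, hamam, one_mulVec, add_comm])
    rw [hXp0, Submodule.mem_bot] at h6
    exact add_eq_zero_iff_eq_neg.1 h6
  have hLinj : Function.Injective L.mulVec := by
    refine (injective_iff_map_eq_zero L.mulVecLin).2 fun y hy => ?_
    have h6 := hker y (by show (l • L) *ᵥ y = 0; rw [smul_mulVec, show L *ᵥ y = 0 from hy, smul_zero])
    rw [hav, hneg1] at h6
    exact (smul_eq_zero.1 (show (2 : F) • y = 0 by rw [two_smul]; linear_combination (norm := abel) (-1 : ℤ) • h6)).resolve_left h2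
  set Dh := LinearMap.range (((cb β c).mulVecLin).coprod (cb β h).mulVecLin)
  have hDh : Dh = D0 := by
    have hle : Dh ≤ D0 := by
      rintro _ ⟨⟨p, q⟩, rfl⟩
      refine (hD0 _).2 ?_
      simp only [LinearMap.coprod_apply, Matrix.mulVecLin_apply, mulVec_add, hJcb, hAc, hAh, hneg1, mulVec_neg]
      abel
    refine Submodule.eq_of_le_of_finrank_le hle (hD2.trans ?_)
    rw [LinearMap.finrank_range_of_inj]
    · rw [finrank_prod]
      have := Submodule.finrank_le Xm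
      omega
    · refine (injective_iff_map_eq_zero _).2 fun ⟨p, q⟩ hpq => ?_
      have h0 : cb β c *ᵥ p + cb β h *ᵥ q = 0 := hpq
      have g1 := congrArg ((cb β h)ᴴ *ᵥ ·) h0
      have g2 := congrArg ((cb β c)ᴴ *ᵥ ·) h0
      simp only [mulVec_add, hproj, hch, hhc, hhh, hc.iso, zero_smul, one_smul, add_zero, zero_add,
        mulVec_zero] at g1 g2
      exact Prod.ext g1 g2
  set S := (cb β h)ᴴ * Z * C with hS
  refine ⟨h, S, hhh, hch, mulVec_injective_iff_isUnit.1 hLinj, Matrix.ext_iff_mulVec.2 fun y => ?_⟩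
  have hmem : (Z * C) *ᵥ y ∈ Dh := hDh ▸ (hD0 _).2 (by
    rw [mulVec_mulVec, hJZ, ← mulVec_mulVec, hneg1, mulVec_neg])
  obtain ⟨⟨p, q⟩, hpq⟩ := hmem
  have hpq' : cb β c *ᵥ p + cb β h *ᵥ q = (Z * C) *ᵥ y := hpq
  have g1 := congrArg ((cb β h)ᴴ *ᵥ ·) hpq'
  have g2 := congrArg ((cb β c)ᴴ *ᵥ ·) hpq'
  simp only [mulVec_add, hproj, hch, hhc, hhh, hc.iso, zero_smul, one_smul, add_zero, zero_add] at g1 g2
  rw [mulVec_mulVec, ← Matrix.mul_assoc, ← hS] at g1
  rw [mulVec_mulVec, ← Matrix.mul_assoc, ← hCdef, hLZ] at g2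
  rw [add_mulVec, ← mulVec_mulVec y C S, ← mulVec_mulVec y (cb β h) L, ← g1, ← g2]
  exact hpq'.symm

/-- In odd characteristic the unipotents of index two are monomial. -/
theorem Ctx.mono_odd (hC : Ctx M) (h2 : (2 : F) ≠ 0) (a : ι) {z : Mt F ι k} (hz : z ∈ M)
    (hsq : (z - 1) * (z - 1) = 0) : Mono z := by
  by_contra hne
  have hk3 := hC.good.three
  haveI : Nonempty (Fin k) := ⟨⟨0, by omega⟩⟩
  haveI : Nonempty ({i // i ≠ a} → Fin k) := inferInstance
  have hzU := hC.ov.isU _ hz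
  obtain ⟨c, l, hc⟩ := exists_rt (F := F) (κ := Fin k) (by simpa using hk3)
  obtain ⟨h, S, hhh, hch, hL, hZC⟩ := hC.plane h2 hz hsq hne a hc
  set L := lk a c z
  set Z := rs a z
  set z1 := z * sl a (rt c l) * zᴴ with hz1
  have hz1M : z1 ∈ M := hC.ov.mul _ (hC.ov.mul _ hz _ (hC.ov.slot a _ (rt_isSU hc.iso hc.skew))) _ (hC.ov.inv _ hz)
  have hz1sq := (conj_rt_props hzU (a := a) hc).1
  have hne1 : ¬ Mono z1 := fun hm => hne (hC.mono_of_image hz hc hm)
  obtain ⟨m, hmc, hmh, hmm⟩ := exists_mid (κ := Fin k) (by simpa using hk3) hc.iso hhh hch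
  obtain ⟨s, hs⟩ := (hU F (Fin k)).exists_trace (-1) (by rw [map_neg, map_one])
  rw [starRingAut_apply] at hs
  set c2 := c + s • h + m with hc2
  have hhc := ip_symm1 hch
  have hc2i : ip c2 c2 = 0 := by
    simp only [hc2, ip_add_left, ip_add_right, ip_smul_left, ip_smul_right, hc.iso, hhh, hch, hhc, hmc, hmh, hmm,
      ip_symm0 hmc, ip_symm0 hmh]
    linear_combination hs
  have hc2m : ip c2 m = 1 := by
    simp [hc2, ip_add_left, ip_smul_left, hmm, ip_symm0 hmc, ip_symm0 hmh]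
  have hc20 : c2 ≠ 0 := fun h0 => one_ne_zero (α := F) (by rw [← hc2m, h0, ip_zero_left])
  obtain ⟨h', S', -, -, hL', hZ1⟩ := hC.plane h2 hz1M hz1sq hne1 a (c := c2) (l := l)
    ⟨hc20, hc2i, hc.l0, hc.skew⟩
  set P := cb ({i // i ≠ a} → Fin k) c * S + cb ({i // i ≠ a} → Fin k) h * L with hP
  set V := Pᴴ * cb ({i // i ≠ a} → Fin k) c2 with hV
  have e1 : rs a z1 = 1 + l • (P * Pᴴ) := by
    rw [hz1, sl_rt, Matrix.mul_add, Matrix.add_mul, Matrix.mul_one, hzU.inv_right, map_add, map_one,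
      Matrix.mul_smul, Matrix.smul_mul, map_smul, map_mul, map_mul, rs_nd, rs_conjT, ← hZC, conjTranspose_mul]
    simp only [Z, Matrix.mul_assoc]
  have hLV : lk a c2 z1 = l • (Vᴴ * V) := by
    rw [lk, map_sub, map_one, e1, add_sub_cancel_left, hV, conjTranspose_mul, conjTranspose_conjTranspose]
    simp only [Matrix.mul_smul, Matrix.smul_mul, Matrix.mul_assoc]
  have hVu : IsUnit V := by
    rw [hLV] at hL'
    rw [← mulVec_injective_iff_isUnit]
    intro x y hxy
    refine mulVec_injective_iff_isUnit.2 hL' ?_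
    simp only [smul_mulVec, ← mulVec_mulVec, hxy]
  have hrel : ∀ φ : Fin k → F, φ ⬝ᵥ c2 = 0 → φ ⬝ᵥ h' = 0 → (φ ⬝ᵥ c) • S + (φ ⬝ᵥ h) • L = 0 := by
    intro φ hφ2 hφh
    have h0 := congrArg ((cb ({i // i ≠ a} → Fin k) (star φ))ᴴ * ·) hZ1
    rw [e1, Matrix.add_mul, Matrix.one_mul, Matrix.smul_mul, Matrix.mul_assoc P, ← hV] at h0
    simp only [Matrix.mul_add, Matrix.mul_smul, ← Matrix.mul_assoc, cbH_cb, hP, ip, star_star,
      dotProduct_comm _ φ, hφ2, hφh, zero_smul, Matrix.zero_mul, zero_add, Matrix.smul_mul, Matrix.one_mul,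
      Matrix.add_mul] at h0
    have h1 : ((φ ⬝ᵥ c) • S + (φ ⬝ᵥ h) • L) * V = 0 := by
      rw [Matrix.add_mul, Matrix.smul_mul, Matrix.smul_mul]
      exact (smul_eq_zero.1 h0).resolve_left hc.l0
    exact hVu.mul_left_eq_zero.1 h1
  have hL0 : L ≠ 0 := hL.ne_zero
  by_cases hspan : c ∈ Submodule.span F ({c2, h'} : Set (Fin k → F)) ∧ h ∈ Submodule.span F ({c2, h'} : Set (Fin k → F))
  · have hle : Submodule.span F ({c, h} : Set (Fin k → F)) ≤ Submodule.span F ({c2, h'} : Set (Fin k → F)) := by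
      rw [Submodule.span_le]
      rintro _ (rfl | rfl)
      exacts [hspan.1, hspan.2]
    have hli : LinearIndependent F ![c, h] := (LinearIndependent.pair_iff' hc.ne).2 fun r hr => by
      have := congrArg (ip · c) hr
      simp [ip_smul_left, hc.iso, hhc] at this
    have heq := Submodule.eq_of_le_of_finrank_le hle (by
      have h1 : finrank F (Submodule.span F ({c2, h'} : Set (Fin k → F))) ≤ 2 := by
        classical
        refine (finrank_span_le_card _).trans ?_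
        rw [Set.toFinset_insert, Set.toFinset_singleton]
        exact Finset.card_le_two
      have h2 := finrank_span_eq_card hli
      rw [Matrix.range_cons, Matrix.range_cons, Matrix.range_empty, Set.union_empty, Fintype.card_fin] at h2
      rw [Set.singleton_union] at h2
      omega)
    obtain ⟨r, r', hr⟩ := Submodule.mem_span_pair.1 (heq ▸ Submodule.subset_span (by simp) :
      c2 ∈ Submodule.span F ({c, h} : Set (Fin k → F)))
    have := congrArg (ip · m) hr
    simp [ip_add_left, ip_smul_left, ip_symm0 hmc, ip_symm0 hmh, hc2m] at this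
  · obtain ⟨φ, hφ2, hφh, hφ⟩ : ∃ φ : Fin k → F, φ ⬝ᵥ c2 = 0 ∧ φ ⬝ᵥ h' = 0 ∧ (φ ⬝ᵥ c ≠ 0 ∨ φ ⬝ᵥ h ≠ 0) := by
      rcases not_and_or.1 hspan with hh | hh <;> obtain ⟨φ, h1, h2⟩ := exists_dot hh
      · exact ⟨φ, h2 _ (Submodule.subset_span (by simp)), h2 _ (Submodule.subset_span (by simp)), Or.inl (by rw [h1]; exact one_ne_zero)⟩
      · exact ⟨φ, h2 _ (Submodule.subset_span (by simp)), h2 _ (Submodule.subset_span (by simp)), Or.inr (by rw [h1]; exact one_ne_zero)⟩
    have h0 := hrel φ hφ2 hφh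
    have hφc : φ ⬝ᵥ c ≠ 0 := fun h1 => by
      rw [h1, zero_smul, zero_add] at h0
      exact (hφ.resolve_left (not_not.2 h1)) ((smul_eq_zero.1 h0).resolve_right hL0)
    set q := -((φ ⬝ᵥ h) / (φ ⬝ᵥ c))
    have hSq : S = q • L := by
      have h1 : S = (φ ⬝ᵥ c)⁻¹ • ((φ ⬝ᵥ c) • S) := by rw [smul_smul, inv_mul_cancel₀ hφc, one_smul]
      rw [h1, eq_neg_of_add_eq_zero_left h0, smul_neg, smul_smul, neg_smul, div_eq_inv_mul]
    set v := q • c + h with hv
    have hPv : P = cb ({i // i ≠ a} → Fin k) v * L := by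
      rw [hP, hv, cb_add, cb_smul, hSq, Matrix.add_mul, Matrix.mul_smul, Matrix.smul_mul]
    have hvi : ip v v = 0 := by
      have h1 : Pᴴ * P = 0 := by
        rw [← hZC, conjTranspose_mul, Matrix.mul_assoc, ← Matrix.mul_assoc Zᴴ, show Zᴴ * Z = 1 from (rs_isU_iff a).2 hzU,
          Matrix.one_mul, cbH_cb, hc.iso, zero_smul]
      rw [hPv, conjTranspose_mul, Matrix.mul_assoc, ← Matrix.mul_assoc (cb ({i // i ≠ a} → Fin k) v)ᴴ, cbH_cb, Matrix.smul_mul,
        Matrix.one_mul, Matrix.mul_smul] at h1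
      refine (smul_eq_zero.1 h1).resolve_right fun h2 => hL0 ?_
      exact hL.star.mul_right_eq_zero.1 (by rwa [star_eq_conjTranspose])
    have hv0 : v ≠ 0 := fun h0 => by
      have := congrArg (ip · c) h0
      simp [hv, ip_add_left, ip_smul_left, hc.iso, hhc] at this
    have hz1up : rs a z1 = up v (l • (L * Lᴴ)) := by
      rw [e1, hPv, up, conjTranspose_mul]
      simp only [Matrix.mul_smul, Matrix.smul_mul, Matrix.mul_assoc]
    obtain ⟨μ, hμ⟩ := hC.small.fac a v hv0 hvi _ (show (rs a).symm _ ∈ M by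
      rw [← hz1up, AlgEquiv.symm_apply_apply]; exact hz1M)
    have hskew : star μ = -μ := by
      have hU1 : IsU (up v (μ • (1 : Matrix ({i // i ≠ a} → Fin k) ({i // i ≠ a} → Fin k) F))) := by
        rw [← hμ, ← hz1up]; exact (rs_isU_iff a).2 (hC.ov.isU _ hz1M)
      have h1 := up_skew hv0 hvi hU1
      rw [conjTranspose_smul, conjTranspose_one, ← neg_smul] at h1
      exact smul_one_inj h1
    refine hne1 ?_
    have h1 : z1 = sl a (rt v μ) := (rs a).injective (by rw [hz1up, hμ, up_scalar, rs_sl_self])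
    rw [h1]
    exact mono_sl a (rt_isSU hvi hskew).1

end Cfsg.Agent.H30.UWreath
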