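import Cfsg.Agent.H30.UWreath.Line

/-!
Tensor powers over an index type of slots: slots, monomial elements, splitting off a slot, overgroups.
-/

set_option autoImplicit false
set_option linter.unusedSectionVars false
set_option maxHeartbeats 1000000

namespace Cfsg.Agent.H30.UWreath

open Matrix
open scoped Kronecker

variable {F : Type*} [Field F] [StarRing F] [UField F] [Finite F] {ι : Type*} [Fintype ι] [DecidableEq ι] {k : ℕ}

/-- Matrices of a tensor power. -/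
abbrev Mt (F : Type*) (ι : Type*) (k : ℕ) := Matrix (ι → Fin k) (ι → Fin k) F

/-- The tensor product of a family. -/
def krn (A : ι → Matrix (Fin k) (Fin k) F) : Mt F ι k := of fun x y => ∏ i, A i (x i) (y i)

theorem krn_apply (A : ι → Matrix (Fin k) (Fin k) F) (x y : ι → Fin k) : krn A x y = ∏ i, A i (x i) (y i) := rfl

theorem krn_mul (A B : ι → Matrix (Fin k) (Fin k) F) : krn A * krn B = krn fun i => A i * B i := by
  ext x y
  simp only [Matrix.mul_apply, krn_apply]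
  rw [Fintype.prod_sum]
  exact Finset.sum_congr rfl fun z _ => Finset.prod_mul_distrib.symm

theorem krn_one : krn (fun _ : ι => (1 : Matrix (Fin k) (Fin k) F)) = 1 := by
  ext x y
  rcases eq_or_ne x y with rfl | h
  · simp [krn_apply]
  · obtain ⟨i, hi⟩ := Function.ne_iff.1 h
    rw [Matrix.one_apply_ne h, krn_apply]
    exact Finset.prod_eq_zero (Finset.mem_univ i) (Matrix.one_apply_ne hi)

theorem krn_conjT (A : ι → Matrix (Fin k) (Fin k) F) : (krn A)ᴴ = krn fun i => (A i)ᴴ := by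
  ext x y
  simp [krn_apply]

/-- A permutation of the slots. -/
def pm (σ : Equiv.Perm ι) : Mt F ι k := of fun x y => if y = x ∘ σ then 1 else 0

theorem pm_apply (σ : Equiv.Perm ι) (x y : ι → Fin k) : (pm σ : Mt F ι k) x y = if y = x ∘ σ then 1 else 0 := rfl

theorem pm_mul_apply (σ : Equiv.Perm ι) (Z : Mt F ι k) (x y : ι → Fin k) : ((pm σ : Mt F ι k) * Z) x y = Z (x ∘ σ) y := by
  rw [Matrix.mul_apply, Finset.sum_eq_single (x ∘ σ) (fun z _ hz => by rw [pm_apply, if_neg hz, zero_mul])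
    fun h => (h (Finset.mem_univ _)).elim, pm_apply, if_pos rfl, one_mul]

theorem mul_pm_apply (σ : Equiv.Perm ι) (Z : Mt F ι k) (x y : ι → Fin k) :
    (Z * (pm σ : Mt F ι k)) x y = Z x (y ∘ σ.symm) := by
  rw [Matrix.mul_apply, Finset.sum_eq_single (y ∘ σ.symm)
    (fun z _ hz => by rw [pm_apply, if_neg (fun e => hz (by funext i; simp [e])), mul_zero])
    fun h => (h (Finset.mem_univ _)).elim, pm_apply, if_pos (by funext i; simp), mul_one]

theorem pm_mul (σ τ : Equiv.Perm ι) : (pm σ : Mt F ι k) * pm τ = pm (σ * τ) := by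
  ext x y
  rw [pm_mul_apply, pm_apply, pm_apply]
  rfl

theorem pm_one : (pm 1 : Mt F ι k) = 1 := by
  ext x y
  rw [pm_apply, one_apply, Equiv.Perm.coe_one, Function.comp_id]
  exact if_congr eq_comm rfl rfl

theorem pm_conjT (σ : Equiv.Perm ι) : (pm σ : Mt F ι k)ᴴ = pm σ⁻¹ := by
  ext x y
  rw [conjTranspose_apply, pm_apply, pm_apply, apply_ite star, star_one, star_zero]
  refine if_congr ⟨fun h => ?_, fun h => ?_⟩ rfl rfl <;>
  · rw [h]; funext i; simp

theorem pm_krn (σ : Equiv.Perm ι) (A : ι → Matrix (Fin k) (Fin k) F) :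
    pm σ * krn A = krn (fun i => A (σ⁻¹ i)) * pm σ := by
  ext x y
  rw [pm_mul_apply, mul_pm_apply, krn_apply, krn_apply]
  exact Fintype.prod_equiv σ _ _ fun i => by simp

theorem IsU.krn {A : ι → Matrix (Fin k) (Fin k) F} (hA : ∀ i, IsU (A i)) : IsU (UWreath.krn A) := by
  rw [IsU, krn_conjT, krn_mul, ← krn_one]
  congr 1
  exact funext hA

theorem isU_pm (σ : Equiv.Perm ι) : IsU (pm σ : Mt F ι k) := by
  rw [IsU, pm_conjT, pm_mul, inv_mul_cancel, pm_one]

/-- A matrix in one slot. -/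
def sl (a : ι) (X : Matrix (Fin k) (Fin k) F) : Mt F ι k := krn (Function.update (fun _ => 1) a X)

theorem sl_mul (a : ι) (X Y : Matrix (Fin k) (Fin k) F) : sl a X * sl a Y = sl a (X * Y) := by
  rw [sl, sl, sl, krn_mul]
  congr 1
  funext i
  rcases eq_or_ne i a with rfl | h
  · simp
  · simp [Function.update_of_ne h]

theorem sl_comm {a b : ι} (h : a ≠ b) (X Y : Matrix (Fin k) (Fin k) F) : sl a X * sl b Y = sl b Y * sl a X := by
  rw [sl, sl, krn_mul, krn_mul]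
  congr 1
  funext i
  rcases eq_or_ne i a with rfl | hi
  · simp [Function.update_of_ne h]
  · simp [Function.update_of_ne hi]

theorem sl_one (a : ι) : sl a (1 : Matrix (Fin k) (Fin k) F) = 1 := by rw [sl, Function.update_eq_self, krn_one]

theorem sl_conjT (a : ι) (X : Matrix (Fin k) (Fin k) F) : (sl a X)ᴴ = sl a Xᴴ := by
  rw [sl, sl, krn_conjT]
  congr 1
  funext i
  rcases eq_or_ne i a with rfl | h
  · simp
  · simp [Function.update_of_ne h]

theorem sl_isU (a : ι) {X : Matrix (Fin k) (Fin k) F} (h : IsU X) : IsU (sl a X) := by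
  rw [IsU, sl_conjT, sl_mul, h, sl_one]

theorem pm_sl (σ : Equiv.Perm ι) (a : ι) (X : Matrix (Fin k) (Fin k) F) : pm σ * sl a X = sl (σ a) X * pm σ := by
  rw [sl, pm_krn, sl]
  congr 2
  funext i
  rcases eq_or_ne i (σ a) with rfl | h
  · simp
  · rw [Function.update_of_ne h, Function.update_of_ne (fun e => h (by rw [← e]; simp))]

/-- The monomial isometries. -/
def Mono (g : Mt F ι k) : Prop :=
  ∃ (A : ι → Matrix (Fin k) (Fin k) F) (σ : Equiv.Perm ι), (∀ i, IsU (A i)) ∧ g = krn A * pm σ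

theorem mono_mul (A B : ι → Matrix (Fin k) (Fin k) F) (σ τ : Equiv.Perm ι) :
    krn A * pm σ * (krn B * pm τ) = krn (fun i => A i * B (σ⁻¹ i)) * pm (σ * τ) := by
  rw [Matrix.mul_assoc, ← Matrix.mul_assoc (pm σ), pm_krn, Matrix.mul_assoc, pm_mul, ← Matrix.mul_assoc, krn_mul]

theorem mono_conjT (A : ι → Matrix (Fin k) (Fin k) F) (σ : Equiv.Perm ι) :
    (krn A * pm σ)ᴴ = krn (fun i => (A (σ i))ᴴ) * pm σ⁻¹ := by
  rw [conjTranspose_mul, pm_conjT, krn_conjT, pm_krn]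
  simp

theorem Mono.mul {g h : Mt F ι k} (hg : Mono g) (hh : Mono h) : Mono (g * h) := by
  obtain ⟨A, σ, hA, rfl⟩ := hg
  obtain ⟨B, τ, hB, rfl⟩ := hh
  exact ⟨_, _, fun i => (hA i).mul (hB _), mono_mul A B σ τ⟩

theorem Mono.conjT {g : Mt F ι k} (hg : Mono g) : Mono gᴴ := by
  obtain ⟨A, σ, hA, rfl⟩ := hg
  exact ⟨_, _, fun i => (hA _).conjT, mono_conjT A σ⟩

theorem mono_sl (a : ι) {X : Matrix (Fin k) (Fin k) F} (h : IsU X) : Mono (sl a X) := by
  refine ⟨_, 1, fun i => ?_, by rw [pm_one, Matrix.mul_one]; rfl⟩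
  rcases eq_or_ne i a with rfl | hi
  · simpa using h
  · simpa [Function.update_of_ne hi] using isU_one

theorem mono_pm (σ : Equiv.Perm ι) : Mono (pm σ : Mt F ι k) :=
  ⟨fun _ => 1, σ, fun _ => isU_one, by rw [krn_one, Matrix.one_mul]⟩

theorem Mono.isU {g : Mt F ι k} (hg : Mono g) : IsU g := by
  obtain ⟨A, σ, hA, rfl⟩ := hg
  exact (IsU.krn hA).mul (isU_pm σ)

theorem mono_conj_sl (A : ι → Matrix (Fin k) (Fin k) F) (hA : ∀ i, IsU (A i)) (σ : Equiv.Perm ι) (a : ι)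
    (X : Matrix (Fin k) (Fin k) F) :
    krn A * pm σ * sl a X * (krn A * pm σ)ᴴ = sl (σ a) (A (σ a) * X * (A (σ a))ᴴ) := by
  rw [Matrix.mul_assoc (krn A), pm_sl, conjTranspose_mul, Matrix.mul_assoc, Matrix.mul_assoc (sl (σ a) X),
    ← Matrix.mul_assoc (pm σ), (isU_pm σ).inv_right, Matrix.one_mul, krn_conjT, sl, krn_mul, krn_mul, sl]
  congr 1
  funext i
  rcases eq_or_ne i (σ a) with rfl | h
  · simp [Matrix.mul_assoc]
  · simpa [Function.update_of_ne h] using (hA i).inv_right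

/-- Splitting off a slot. -/
def spl (a : ι) : (ι → Fin k) ≃ Fin k × ({i // i ≠ a} → Fin k) := Equiv.piSplitAt a fun _ => Fin k

/-- Matrices over the split index type. -/
def rs (a : ι) : Mt F ι k ≃ₐ[F] Matrix (Fin k × ({i // i ≠ a} → Fin k)) (Fin k × ({i // i ≠ a} → Fin k)) F :=
  Matrix.reindexAlgEquiv F F (spl a)

theorem rs_apply (a : ι) (g : Mt F ι k) : rs a g = g.submatrix (spl a).symm (spl a).symm := rfl

theorem rs_conjT (a : ι) (g : Mt F ι k) : rs a gᴴ = (rs a g)ᴴ := by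
  rw [rs_apply, rs_apply, conjTranspose_submatrix]

theorem rs_isU_iff (a : ι) {g : Mt F ι k} : IsU (rs a g) ↔ IsU g := by
  rw [IsU, IsU, ← rs_conjT, ← map_mul]
  exact ⟨fun h => (rs a).injective (h.trans (map_one _).symm), fun h => by rw [h, map_one]⟩

theorem spl_symm_self (a : ι) (p : Fin k × ({i // i ≠ a} → Fin k)) : (spl a).symm p a = p.1 := by
  simp [spl]

theorem spl_symm_ne {a i : ι} (h : i ≠ a) (p : Fin k × ({i // i ≠ a} → Fin k)) :
    (spl a).symm p i = p.2 ⟨i, h⟩ := by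
  simp [spl, h]

theorem rs_krn (a : ι) (A : ι → Matrix (Fin k) (Fin k) F) :
    rs a (krn A) = A a ⊗ₖ krn fun i : {i // i ≠ a} => A i := by
  ext p q
  rw [rs_apply, submatrix_apply, kroneckerMap_apply, krn_apply, krn_apply,
    ← Finset.mul_prod_erase _ _ (Finset.mem_univ a), spl_symm_self, spl_symm_self,
    Finset.prod_subtype (p := fun i => i ≠ a) (Finset.univ.erase a) (by simp)]
  congr 1
  exact Finset.prod_congr rfl fun i _ => by rw [spl_symm_ne i.2, spl_symm_ne i.2]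

theorem rs_sl_self (a : ι) (X : Matrix (Fin k) (Fin k) F) : rs a (sl a X) = X ⊗ₖ 1 := by
  rw [sl, rs_krn, Function.update_self, ← krn_one]
  congr 2
  funext i
  rw [Function.update_of_ne i.2]

theorem rs_sl_ne {a b : ι} (h : b ≠ a) (X : Matrix (Fin k) (Fin k) F) :
    rs a (sl b X) = (1 : Matrix (Fin k) (Fin k) F) ⊗ₖ sl (⟨b, h⟩ : {i // i ≠ a}) X := by
  rw [sl, rs_krn, Function.update_of_ne (Ne.symm h), sl]
  congr 2
  funext i
  rcases eq_or_ne i ⟨b, h⟩ with rfl | hi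
  · simp
  · rw [Function.update_of_ne hi, Function.update_of_ne (fun e => hi (Subtype.ext e))]

theorem rs_pm (a : ι) (τ : Equiv.Perm {i // i ≠ a}) :
    rs a (pm (Equiv.Perm.ofSubtype τ)) = (1 : Matrix (Fin k) (Fin k) F) ⊗ₖ pm τ := by
  ext p q
  rw [rs_apply, submatrix_apply, kroneckerMap_apply, pm_apply, pm_apply, one_apply]
  have ha : Equiv.Perm.ofSubtype τ a = a := Equiv.Perm.ofSubtype_apply_of_not_mem τ (by simp)
  have key : (spl a).symm q = (spl a).symm p ∘ Equiv.Perm.ofSubtype τ ↔ p.1 = q.1 ∧ q.2 = p.2 ∘ τ := by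
    constructor
    · intro h
      refine ⟨?_, funext fun i => ?_⟩
      · have := congrFun h a
        rw [Function.comp_apply, ha, spl_symm_self, spl_symm_self] at this
        exact this.symm
      · have := congrFun h i
        rw [Function.comp_apply, Equiv.Perm.ofSubtype_apply_coe, spl_symm_ne i.2, spl_symm_ne (τ i).2] at this
        exact this
    · rintro ⟨h1, h2⟩
      funext i
      rcases eq_or_ne i a with rfl | hi
      · rw [Function.comp_apply, ha, spl_symm_self, spl_symm_self, h1]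
      · rw [Function.comp_apply, Equiv.Perm.ofSubtype_apply_of_mem τ hi, spl_symm_ne (τ ⟨i, hi⟩).2, spl_symm_ne hi, h2]
        rfl
  by_cases h : p.1 = q.1 <;> by_cases h' : q.2 = p.2 ∘ τ <;> simp [key, h, h']

/-- The projection `N` at a singular vector of a slot. -/
def nd (a : ι) (c : Fin k → F) : Mt F ι k := sl a (dy c c)

theorem rs_nd (a : ι) (c : Fin k → F) :
    rs a (nd a c) = cb ({i // i ≠ a} → Fin k) c * (cb ({i // i ≠ a} → Fin k) c)ᴴ := by
  rw [nd, rs_sl_self, cb_cbH]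

theorem sl_rt (a : ι) (c : Fin k → F) (l : F) : sl a (rt c l) = 1 + l • nd a c := by
  apply (rs a).injective
  rw [map_add, map_one, map_smul, rs_sl_self, nd, rs_sl_self, rt, add_kronecker, one_kronecker_one, smul_kronecker]

/-- A group of isometries containing all slots. -/
structure Ov (M : Set (Mt F ι k)) : Prop where
  isU : ∀ g ∈ M, IsU g
  mul : ∀ g ∈ M, ∀ h ∈ M, g * h ∈ M
  inv : ∀ g ∈ M, gᴴ ∈ M
  slot : ∀ (a : ι) (A : Matrix (Fin k) (Fin k) F), IsSU A → sl a A ∈ M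

/-- Only scalar translations at singular vectors. -/
def Small (M : Set (Mt F ι k)) : Prop :=
  ∀ (a : ι) (c : Fin k → F), c ≠ 0 → ip c c = 0 → ∀ Y : Mt F ι k, 1 + nd a c * Y * nd a c ∈ M →
    ∃ μ : F, nd a c * Y * nd a c = μ • nd a c

/-- Transport by an isometry. -/
def cset (h : Mt F ι k) (M : Set (Mt F ι k)) : Set (Mt F ι k) := {x | IsU x ∧ h * x * hᴴ ∈ M}

theorem Ov.cset {M : Set (Mt F ι k)} (hM : Ov M) {h : Mt F ι k} (hh : IsU h)
    (hs : ∀ (a : ι) (A : Matrix (Fin k) (Fin k) F), IsSU A → h * sl a A * hᴴ ∈ M) : Ov (UWreath.cset h M) :=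
  ⟨fun _ hg => hg.1, fun g hg g' hg' => ⟨hg.1.mul hg'.1, by rw [hh.conj_cancel]; exact hM.mul _ hg.2 _ hg'.2⟩,
    fun g hg => ⟨hg.1.conjT, by simpa [Matrix.mul_assoc] using hM.inv _ hg.2⟩,
    fun a A hA => ⟨sl_isU a hA.1, hs a A hA⟩⟩

theorem Ov.mono_slot {M : Set (Mt F ι k)} (hM : Ov M) {h : Mt F ι k} (hh : Mono h) (a : ι)
    {A : Matrix (Fin k) (Fin k) F} (hA : IsSU A) : h * sl a A * hᴴ ∈ M := by
  obtain ⟨B, σ, hB, rfl⟩ := hh
  rw [mono_conj_sl B hB]
  refine hM.slot _ _ ⟨((hB _).mul hA.1).mul (hB _).conjT, ?_⟩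
  rw [det_mul, det_mul, hA.2, mul_one, ← det_mul, (hB _).inv_right, det_one]

theorem Small.cset {M : Set (Mt F ι k)} (hS : Small M) {h : Mt F ι k} (hh : Mono h) :
    Small (UWreath.cset h M) := by
  intro a c hc0 hc Y hY
  have hU := hh.isU
  obtain ⟨B, σ, hB, rfl⟩ := hh
  set h := krn B * pm σ
  have hN : h * nd a c * hᴴ = nd (σ a) (B (σ a) *ᵥ c) := by rw [nd, mono_conj_sl B hB, dy_sandwich, nd]
  have e1 : h * (nd a c * Y * nd a c) * hᴴ = nd (σ a) (B (σ a) *ᵥ c) * (h * Y * hᴴ) * nd (σ a) (B (σ a) *ᵥ c) := by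
    rw [hU.conj_cancel, hU.conj_cancel, hN]
  have h1 := hY.2
  rw [Matrix.mul_add, Matrix.add_mul, Matrix.mul_one, hU.inv_right, e1] at h1
  obtain ⟨μ, hμ⟩ := hS _ _ (fun h0 => hc0 (by
      have h2 := congrArg ((B (σ a))ᴴ *ᵥ ·) h0
      simpa [mulVec_mulVec, show (B (σ a))ᴴ * B (σ a) = 1 from hB _] using h2))
    (by rw [(hB _).ip_map, hc]) _ h1
  refine ⟨μ, ?_⟩
  rw [← e1, ← hN] at hμ
  have h3 := congrArg (fun Z => hᴴ * Z * h) hμ
  have c1 : ∀ Z : Mt F ι k, hᴴ * (h * Z * hᴴ) * h = Z := fun Z => by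
    simp only [Matrix.mul_assoc, show hᴴ * h = 1 from hU, Matrix.mul_one]
    rw [← Matrix.mul_assoc, show hᴴ * h = 1 from hU, Matrix.one_mul]
  simpa only [Matrix.mul_smul, Matrix.smul_mul, c1] using h3

/-- The split view of an overgroup. -/
def fac (a : ι) (M : Set (Mt F ι k)) :
    Set (Matrix (Fin k × ({i // i ≠ a} → Fin k)) (Fin k × ({i // i ≠ a} → Fin k)) F) := {x | (rs a).symm x ∈ M}

theorem rs_symm_conjT (a : ι) (x : Matrix (Fin k × ({i // i ≠ a} → Fin k)) (Fin k × ({i // i ≠ a} → Fin k)) F) :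
    (rs a).symm xᴴ = ((rs a).symm x)ᴴ := (rs a).injective (by
  rw [AlgEquiv.apply_symm_apply, rs_conjT, AlgEquiv.apply_symm_apply])

theorem Ov.fac {M : Set (Mt F ι k)} (hM : Ov M) (a : ι) : Ov2 (UWreath.fac a M) :=
  ⟨fun x hx => by rw [← (rs a).apply_symm_apply x, rs_isU_iff]; exact hM.isU _ hx,
    fun g hg h hh => by
      show (rs a).symm _ ∈ M
      rw [map_mul]; exact hM.mul _ hg _ hh,
    fun g hg => by
      show (rs a).symm _ ∈ M
      rw [rs_symm_conjT]; exact hM.inv _ hg,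
    fun A hA => by
      show (rs a).symm _ ∈ M
      rw [← rs_sl_self, AlgEquiv.symm_apply_apply]; exact hM.slot a A hA⟩

theorem Small.fac {M : Set (Mt F ι k)} (hS : Small M) (a : ι) : Small2 (UWreath.fac a M) := by
  intro c hc0 hc A hA
  obtain ⟨e, he⟩ := (hU F (Fin k)).exists_one hc0
  rw [hU_B] at he
  have he' : (cb ({i // i ≠ a} → Fin k) c)ᴴ * cb ({i // i ≠ a} → Fin k) e = 1 := by rw [cbH_cb, ip_symm1 he, one_smul]
  have he'' : (cb ({i // i ≠ a} → Fin k) e)ᴴ * cb ({i // i ≠ a} → Fin k) c = 1 := by rw [cbH_cb, show ip c e = 1 from he, one_smul]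
  set Y := (rs a).symm (cb ({i // i ≠ a} → Fin k) e * A * (cb ({i // i ≠ a} → Fin k) e)ᴴ)
  have h1 : rs a (nd a c * Y * nd a c) = cb ({i // i ≠ a} → Fin k) c * A * (cb ({i // i ≠ a} → Fin k) c)ᴴ := by
    rw [map_mul, map_mul, rs_nd, AlgEquiv.apply_symm_apply]
    simp only [Matrix.mul_assoc]
    rw [← Matrix.mul_assoc (cb ({i // i ≠ a} → Fin k) c)ᴴ (cb ({i // i ≠ a} → Fin k) e), he', Matrix.one_mul, ← Matrix.mul_assoc (cb ({i // i ≠ a} → Fin k) e)ᴴ (cb ({i // i ≠ a} → Fin k) c), he'',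
      Matrix.one_mul]
  have h2 : (rs a).symm (up c A) = 1 + nd a c * Y * nd a c := by
    apply (rs a).injective
    rw [AlgEquiv.apply_symm_apply, map_add, map_one, h1]; rfl
  obtain ⟨μ, hμ⟩ := hS a c hc0 hc Y (by rw [← h2]; exact hA)
  refine ⟨μ, ?_⟩
  have h3 := congrArg (rs a) hμ
  rw [h1, map_smul, rs_nd, ← Matrix.smul_mul, ← Matrix.mul_one (cb ({i // i ≠ a} → Fin k) c), ← Matrix.mul_smul] at h3
  simp only [Matrix.mul_one] at h3
  exact cb_cancel hc0 (cbH_cancel hc0 h3)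

/-- The elements acting trivially in one slot. -/
def sub (a : ι) (M : Set (Mt F ι k)) : Set (Mt F {i // i ≠ a} k) :=
  {y | IsU y ∧ (rs a).symm ((1 : Matrix (Fin k) (Fin k) F) ⊗ₖ y) ∈ M}

theorem one_kr_mul (a : ι) (x y : Mt F {i // i ≠ a} k) :
    (1 : Matrix (Fin k) (Fin k) F) ⊗ₖ (x * y) = (1 ⊗ₖ x) * (1 ⊗ₖ y) := by
  rw [← mul_kronecker_mul, Matrix.one_mul]

theorem Ov.sub {M : Set (Mt F ι k)} (hM : Ov M) (a : ι) : Ov (UWreath.sub a M) :=
  ⟨fun _ hy => hy.1,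
    fun g hg h hh => ⟨hg.1.mul hh.1, by rw [one_kr_mul, map_mul]; exact hM.mul _ hg.2 _ hh.2⟩,
    fun g hg => ⟨hg.1.conjT, by
      rw [show (1 : Matrix (Fin k) (Fin k) F) ⊗ₖ gᴴ = ((1 : Matrix (Fin k) (Fin k) F) ⊗ₖ g)ᴴ by
        rw [conjTranspose_kronecker, conjTranspose_one], rs_symm_conjT]
      exact hM.inv _ hg.2⟩,
    fun b A hA => ⟨sl_isU b hA.1, by
      rw [show b = (⟨b.1, b.2⟩ : {i // i ≠ a}) from rfl, ← rs_sl_ne b.2, AlgEquiv.symm_apply_apply]
      exact hM.slot b A hA⟩⟩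

theorem Small.sub {M : Set (Mt F ι k)} (hk : 0 < k) (hS : Small M) (a : ι) : Small (UWreath.sub a M) := by
  intro b c hc0 hc Y hY
  haveI : Nonempty (Fin k) := ⟨⟨0, hk⟩⟩
  set Y' := (rs a).symm ((1 : Matrix (Fin k) (Fin k) F) ⊗ₖ Y)
  have hN : rs a (nd b.1 c) = (1 : Matrix (Fin k) (Fin k) F) ⊗ₖ nd b c := by rw [nd, rs_sl_ne b.2, nd]
  have h1 : rs a (nd b.1 c * Y' * nd b.1 c) = (1 : Matrix (Fin k) (Fin k) F) ⊗ₖ (nd b c * Y * nd b c) := by
    rw [map_mul, map_mul, hN, AlgEquiv.apply_symm_apply, one_kr_mul, one_kr_mul]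
  have h2 : (rs a).symm ((1 : Matrix (Fin k) (Fin k) F) ⊗ₖ (1 + nd b c * Y * nd b c)) = 1 + nd b.1 c * Y' * nd b.1 c := by
    apply (rs a).injective
    rw [AlgEquiv.apply_symm_apply, map_add, map_one, h1, kronecker_add, one_kronecker_one]
  obtain ⟨μ, hμ⟩ := hS b.1 c hc0 hc Y' (by rw [← h2]; exact hY.2)
  refine ⟨μ, kr_right_inj (κ := Fin k) ?_⟩
  rw [← h1, hμ, map_smul, hN, kronecker_smul]

end Cfsg.Agent.H30.UWreath
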