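import Cfsg.Agent.H30.UWreath.Pure

/-!
A group containing all translations at the singular factor vectors contains all transvections.
-/

set_option autoImplicit false
set_option maxHeartbeats 1000000
set_option linter.unusedSectionVars false
set_option linter.style.haveILetI false

namespace Cfsg.Agent.H30.UWreath

open Matrix Module Cfsg.Agent.H98.TensorUnit
open scoped Kronecker

variable {F : Type*} [Field F] [StarRing F] [UField F] [Finite F] {κ β : Type*} [Fintype κ] [DecidableEq κ]
  [Fintype β] [DecidableEq β]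

theorem tv_eq_up (c : κ → F) (y : β → F) (l : F) : rt (cb β c *ᵥ y) l = up c (l • dy y y) := by
  rw [rt, up, Matrix.mul_smul, Matrix.smul_mul, dy_sandwich]

theorem ip_adj_rect {μ : Type*} [Fintype μ] [DecidableEq μ] (A : Matrix μ β F) (x : β → F) (y : μ → F) :
    ip (A *ᵥ x) y = ip x (Aᴴ *ᵥ y) := by
  rw [ip, ip, star_mulVec, conjTranspose_conjTranspose, dotProduct_comm, dotProduct_mulVec, dotProduct_comm]

theorem ip_cb (c e : κ → F) (x y : β → F) : ip (cb β c *ᵥ x) (cb β e *ᵥ y) = ip c e * ip x y := by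
  rw [ip_adj_rect, mulVec_mulVec, cbH_cb, smul_mulVec, one_mulVec, ip_smul_right, ip_conj]

theorem up_cb_vec (c f : κ → F) (A : Matrix β β F) (z : β → F) :
    up c A *ᵥ (cb β f *ᵥ z) = cb β f *ᵥ z + ip f c • (cb β c *ᵥ (A *ᵥ z)) := by
  rw [up, add_mulVec, one_mulVec]
  simp only [← mulVec_mulVec]
  rw [mulVec_mulVec z (cb β c)ᴴ, cbH_cb, smul_mulVec, one_mulVec, mulVec_smul, mulVec_smul]

theorem exists_skew_map {y w : β → F} (hy : y ≠ 0) (h : ip w y + ip y w = 0) :
    ∃ A : Matrix β β F, Aᴴ = -A ∧ A *ᵥ y = w := by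
  obtain ⟨y', hy'⟩ := (hU F β).exists_one hy
  rw [hU_B] at hy'
  refine ⟨dy w y' - dy y' w + ip y w • dy y' y', ?_, ?_⟩
  · rw [conjTranspose_add, conjTranspose_sub, conjTranspose_smul, dy_conjT, dy_conjT, dy_conjT, ip_conj,
      eq_neg_of_add_eq_zero_left h, neg_smul]
    abel
  · rw [add_mulVec, sub_mulVec, smul_mulVec, dy_mulVec, dy_mulVec, dy_mulVec, hy']
    module

/-- One pair of vectors reaches another by elements fixing the middle. -/
def Rch (N : Set (Matrix (κ × β) (κ × β) F)) (c e : κ → F) (y x y' x' : β → F) : Prop :=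
  ∃ g ∈ N, g *ᵥ (cb β e *ᵥ y + cb β c *ᵥ x) = cb β e *ᵥ y' + cb β c *ᵥ x' ∧
    ∀ (f : κ → F) (z : β → F), ip f c = 0 → ip f e = 0 → g *ᵥ (cb β f *ᵥ z) = cb β f *ᵥ z

/-- All translations at all singular vectors. -/
def Tr (N : Set (Matrix (κ × β) (κ × β) F)) : Prop :=
  ∀ c : κ → F, c ≠ 0 → ip c c = 0 → ∀ A : Matrix β β F, Aᴴ = -A → up c A ∈ N

variable {N : Set (Matrix (κ × β) (κ × β) F)} {c e : κ → F}

theorem Rch.trans (hN : Ov2 N) {y x y' x' y'' x'' : β → F} (h : Rch N c e y x y' x')
    (h' : Rch N c e y' x' y'' x'') : Rch N c e y x y'' x'' := by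
  obtain ⟨g, hg, hgv, hgf⟩ := h
  obtain ⟨g', hg', hgv', hgf'⟩ := h'
  exact ⟨g' * g, hN.mul _ hg' _ hg, by rw [← mulVec_mulVec, hgv, hgv'],
    fun f z hc he => by rw [← mulVec_mulVec, hgf f z hc he, hgf' f z hc he]⟩

theorem Rch.upc (hT : Tr N) (hc0 : c ≠ 0) (hc : ip c c = 0) (hec : ip e c = 1) (y x : β → F)
    {A : Matrix β β F} (hA : Aᴴ = -A) : Rch N c e y x y (x + A *ᵥ y) :=
  ⟨up c A, hT c hc0 hc A hA, by
    rw [mulVec_add, up_cb_vec, up_cb_vec, hec, hc, one_smul, zero_smul, add_zero, mulVec_add]; abel,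
    fun f z hfc _ => by rw [up_cb_vec, hfc, zero_smul, add_zero]⟩

theorem Rch.upe (hT : Tr N) (he0 : e ≠ 0) (he : ip e e = 0) (hec : ip e c = 1) (y x : β → F)
    {A : Matrix β β F} (hA : Aᴴ = -A) : Rch N c e y x (y + A *ᵥ x) x :=
  ⟨up e A, hT e he0 he A hA, by
    rw [mulVec_add, up_cb_vec, up_cb_vec, ip_symm1 hec, he, one_smul, zero_smul, add_zero, mulVec_add]; abel,
    fun f z _ hfe => by rw [up_cb_vec, hfe, zero_smul, add_zero]⟩

theorem reach_indep (hN : Ov2 N) (hT : Tr N) (hc0 : c ≠ 0) (hc : ip c c = 0) (he0 : e ≠ 0) (he : ip e e = 0)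
    (hec : ip e c = 1) {y y' : β → F} (hy' : y' ≠ 0) (hind : ∀ r : F, y ≠ r • y') (x : β → F) :
    ∃ x', Rch N c e y x y' x' ∧ ip x' y' + ip y' x' = ip x y + ip y x := by
  obtain ⟨δ, hδ, hδ'⟩ := (hU F β).exists_skew
  rw [starRingAut_apply] at hδ'
  obtain ⟨h, hh0, hh⟩ : ∃ h : F, h ≠ 0 ∧ h + star h = ip x y + star (ip x y) := by
    by_cases hxy : ip x y = 0
    · exact ⟨δ, hδ, by rw [hxy, star_zero, add_zero, hδ', add_neg_cancel]⟩
    · exact ⟨_, hxy, rfl⟩
  have hy0 : y ≠ 0 := fun h0 => hind 0 (by rw [h0, zero_smul])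
  obtain ⟨φ, hφ, hφ'⟩ := exists_dot (x := star y) (U := Submodule.span F {star y'}) (fun hm => by
    obtain ⟨r, hr⟩ := Submodule.mem_span_singleton.1 hm
    exact hind (star r) (by
      have h1 := congrArg star hr
      rw [star_star, star_smul, star_star] at h1
      exact h1.symm))
  obtain ⟨ψ, hψ, hψ'⟩ := exists_dot (x := star y') (U := Submodule.span F {star y}) (fun hm => by
    obtain ⟨r, hr⟩ := Submodule.mem_span_singleton.1 hm
    have h1 := congrArg star hr
    rw [star_star, star_smul, star_star] at h1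
    have hr0 : star r ≠ 0 := fun e => hy' (by rw [← h1, e, zero_smul])
    exact hind (star r)⁻¹ (by rw [← h1, smul_smul, inv_mul_cancel₀ hr0, one_smul]))
  set x' := h • (φ + ψ) with hx'
  have e1 : ip x' y = h := by
    rw [hx', ip_smul_left, ip_add_left]
    show h * (φ ⬝ᵥ star y + ψ ⬝ᵥ star y) = h
    rw [hφ, hψ' _ (Submodule.mem_span_singleton_self _), add_zero, mul_one]
  have e2 : ip x' y' = h := by
    rw [hx', ip_smul_left, ip_add_left]
    show h * (φ ⬝ᵥ star y' + ψ ⬝ᵥ star y') = h
    rw [hψ, hφ' _ (Submodule.mem_span_singleton_self _), zero_add, mul_one]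
  have hx'0 : x' ≠ 0 := fun h0 => hh0 (by rw [← e1, h0, ip_zero_left])
  obtain ⟨A1, hA1, hA1'⟩ := exists_skew_map hy0 (w := x' - x) (by
    rw [ip_sub_left, ip_sub_right, ← ip_conj x' y, ← ip_conj x y, e1]
    linear_combination hh)
  obtain ⟨A2, hA2, hA2'⟩ := exists_skew_map hx'0 (w := y' - y) (by
    rw [ip_sub_left, ip_sub_right, ← ip_conj x' y, ← ip_conj x' y', e1, e2]
    ring)
  refine ⟨x', ?_, by rw [← ip_conj x' y', ← ip_conj x y, e2, hh]⟩
  have r1 := Rch.upc hT hc0 hc hec y x hA1
  rw [hA1', add_sub_cancel] at r1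
  have r2 := Rch.upe hT he0 he hec y x' hA2
  rw [hA2', add_sub_cancel] at r2
  exact r1.trans hN r2

theorem reach (hN : Ov2 N) (hT : Tr N) (hβ : 2 ≤ Fintype.card β) (hc0 : c ≠ 0) (hc : ip c c = 0) (he0 : e ≠ 0)
    (he : ip e e = 0) (hec : ip e c = 1) {y y' : β → F} (hy : y ≠ 0) (hy' : y' ≠ 0) (x : β → F) :
    ∃ x', Rch N c e y x y' x' ∧ ip x' y' + ip y' x' = ip x y + ip y x := by
  by_cases hind : ∀ r : F, y ≠ r • y'
  · exact reach_indep hN hT hc0 hc he0 he hec hy' hind x
  push Not at hind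
  obtain ⟨r, hr⟩ := hind
  obtain ⟨w, hw⟩ : ∃ w, w ∉ Submodule.span F {y'} := by
    by_contra hh
    push Not at hh
    have h1 : finrank F (⊤ : Submodule F (β → F)) ≤ 1 :=
      (Submodule.finrank_mono (fun v _ => hh v)).trans ((finrank_span_le_card ({y'} : Set (β → F))).trans (by simp))
    rw [finrank_top, finrank_fintype_fun_eq_card] at h1
    omega
  rw [Submodule.mem_span_singleton] at hw
  push Not at hw
  obtain ⟨x1, h1, t1⟩ := reach_indep hN hT hc0 hc he0 he hec (y := y) (y' := w) (fun h => hw 0 (by rw [zero_smul, h]))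
    (fun s hs => by
      rcases eq_or_ne s 0 with rfl | hs0
      · exact hy (by rw [hs, zero_smul])
      · exact hw (s⁻¹ * r) (by rw [← smul_smul, ← hr, hs, smul_smul, inv_mul_cancel₀ hs0, one_smul])) x
  obtain ⟨x2, h2, t2⟩ := reach_indep hN hT hc0 hc he0 he hec (y := w) (y' := y') hy' (fun s hs => hw s hs.symm) x1
  exact ⟨x2, h1.trans hN h2, t2.trans t1⟩

/-- The component of a vector. -/
def comp (v : κ × β → F) (i : κ) : β → F := fun z => v (i, z)

theorem sum_comp (v : κ × β → F) : ∑ i, cb β (Pi.single i (1 : F)) *ᵥ comp v i = v := by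
  funext ⟨p, z⟩
  simp [comp, mulVec, dotProduct, cb_apply, Matrix.one_apply, Pi.single_apply, Finset.sum_apply]

theorem comp_cb (c : κ → F) (x : β → F) (i : κ) : comp (cb β c *ᵥ x) i = c i • x := by
  funext z
  simp [comp, mulVec, dotProduct, cb_apply, Matrix.one_apply]

/-- All transvections. -/
theorem Tr.all (hN : Ov2 N) (hT : Tr N) (hκ : 2 ≤ Fintype.card κ) (hβ : 2 ≤ Fintype.card β) {v : κ × β → F}
    (hv : ip v v = 0) : Pt N v := by
  classical
  obtain ⟨ε, hε⟩ := UField.norm (-1 : F) (by rw [star_neg, star_one])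
  obtain ⟨a, ha⟩ := UField.ne (F := F)
  have ha0 : a ≠ 0 := fun h => ha (by rw [h, star_zero])
  set ζ := star a / a with hζ
  have hζ1 : ζ ≠ 1 := fun h => ha (by rwa [hζ, div_eq_one_iff_eq ha0] at h)
  have hζn : ζ * star ζ = 1 := by
    rw [hζ, star_div₀, star_star]
    have := star_ne_zero.2 ha0
    field_simp
  set q := (1 - ζ)⁻¹ with hq
  have hq1 : q * (1 - ζ) = 1 := inv_mul_cancel₀ (sub_ne_zero.2 (Ne.symm hζ1))
  have hζs : (1 : F) - star ζ ≠ 0 := fun h => hζ1 (by rw [← sub_eq_zero.1 h, mul_one] at hζn; exact hζn)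
  have hqs : star q = -(ζ * q) := by
    rw [hq, star_inv₀, star_sub, star_one]
    have : (1 : F) - ζ ≠ 0 := sub_ne_zero.2 (Ne.symm hζ1)
    field_simp
    linear_combination -hζn
  suffices key : ∀ (n : ℕ) (v : κ × β → F), (Finset.univ.filter fun i => comp v i ≠ 0).card ≤ n →
      ip v v = 0 → Pt N v from key _ v le_rfl hv
  intro n
  induction n with
  | zero =>
    intro v hn _
    have : v = 0 := funext fun ⟨p, z⟩ => by
      by_contra hp
      have := Finset.card_pos.2 (show (Finset.univ.filter fun i => comp v i ≠ 0).Nonempty from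
        ⟨p, Finset.mem_filter.2 ⟨Finset.mem_univ p, fun h => hp (congrFun h z)⟩⟩)
      omega
    intro l _
    rw [this, rt_zero_vec, ← one_kronecker_one]
    exact hN.fst 1 isSU_one
  | succ n ih =>
    intro v hn hvv
    set S := Finset.univ.filter fun i => comp v i ≠ 0 with hS
    obtain ⟨i, j, hij, hij'⟩ : ∃ i j : κ, i ≠ j ∧ (S.card ≤ 2 ∧ S ⊆ {i, j} ∨ 2 < S.card ∧ i ∈ S ∧ j ∈ S) := by
      rcases Nat.lt_or_ge 2 S.card with h | h
      · obtain ⟨i, hi, j, hj, hij⟩ := Finset.one_lt_card.1 (show 1 < S.card by omega)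
        exact ⟨i, j, hij, Or.inr ⟨h, hi, hj⟩⟩
      · obtain ⟨T, hST, -, hT⟩ := Finset.exists_subsuperset_card_eq (Finset.subset_univ S) h
          (by rw [Finset.card_univ]; exact hκ)
        obtain ⟨i, j, hij, rfl⟩ := Finset.card_eq_two.1 hT
        exact ⟨i, j, hij, Or.inl ⟨h, hST⟩⟩
    set ei : κ → F := Pi.single i 1 with hei
    set ej : κ → F := Pi.single j 1 with hej
    have eii : ip ei ei = 1 := by simp [ip, hei]
    have ejj : ip ej ej = 1 := by simp [ip, hej]
    have eij : ip ei ej = 0 := by simp [ip, hei, hej, hij]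
    have eji : ip ej ei = 0 := ip_symm0 eij
    set c := ei + ε • ej with hc
    set e := q • (ei + (ε * ζ) • ej) with he
    have hcc : ip c c = 0 := by
      simp only [hc, ip_add_left, ip_add_right, ip_smul_left, ip_smul_right, eii, ejj, eij, eji]
      linear_combination hε
    have hee : ip e e = 0 := by
      simp only [he, ip_add_left, ip_add_right, ip_smul_left, ip_smul_right, eii, ejj, eij, eji, star_mul']
      linear_combination q * star q * hε * (ζ * star ζ) - q * star q * hζn
    have hec : ip e c = 1 := by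
      simp only [he, hc, ip_add_left, ip_add_right, ip_smul_left, ip_smul_right, eii, ejj, eij, eji]
      linear_combination hq1 + q * ζ * hε
    have hc0 : c ≠ 0 := fun h => zero_ne_one (α := F) (by rw [← hec, h, ip_zero_right])
    have he0 : e ≠ 0 := fun h => zero_ne_one (α := F) (by rw [← hec, h, ip_zero_left])
    set y := comp v i + star ε • comp v j with hy
    set x := comp v i - q • y with hx
    have hH : cb β e *ᵥ y + cb β c *ᵥ x = cb β ei *ᵥ comp v i + cb β ej *ᵥ comp v j := by
      simp only [hx, hy, he, hc, cb_add, cb_smul, add_mulVec, smul_mulVec, mulVec_add, mulVec_sub, mulVec_smul]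
      match_scalars <;> first | ring1 | linear_combination (-ε * star ε + 0) * hq1 - hε | linear_combination hε * (q * (1 - ζ)) | linear_combination (-hq1) * (ε * star ε) - hε | linear_combination -ε * hq1
    set rest := ∑ p ∈ Finset.univ \ {i, j}, cb β (Pi.single p (1 : F)) *ᵥ comp v p with hrest
    have hsplit : v = cb β e *ᵥ y + cb β c *ᵥ x + rest := by
      rw [hH, hrest, hei, hej, ← Finset.sum_pair (f := fun p => cb β (Pi.single p (1 : F)) *ᵥ comp v p) hij,
        add_comm, Finset.sum_sdiff (Finset.subset_univ _), sum_comp]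
    have hfix : ∀ {g : Matrix (κ × β) (κ × β) F}, (∀ (f : κ → F) (z : β → F), ip f c = 0 → ip f e = 0 →
        g *ᵥ (cb β f *ᵥ z) = cb β f *ᵥ z) → g *ᵥ rest = rest := fun {g} hg => by
      rw [hrest, mulVec_sum]
      refine Finset.sum_congr rfl fun p hp => hg _ _ ?_ ?_
      all_goals
        simp only [Finset.mem_sdiff, Finset.mem_insert, Finset.mem_singleton, not_or] at hp
        simp [hc, he, hei, hej, ip, dotProduct_comm, hp.2.1, hp.2.2]
    rcases hij' with ⟨hle, hsub⟩ | ⟨hlt, hiS, hjS⟩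
    · -- supported in a hyperbolic plane
      have hrest0 : rest = 0 := Finset.sum_eq_zero fun p hp => by
        have hpS : p ∉ S := fun h => (Finset.mem_sdiff.1 hp).2 (hsub h)
        have : comp v p = 0 := by simpa [hS] using hpS
        rw [this, mulVec_zero]
      rw [hrest0, add_zero] at hsplit
      have htr : ip x y + ip y x = 0 := by
        rw [hsplit] at hvv
        simp only [ip_add_left, ip_add_right, ip_cb, hee, hcc, hec, ip_symm1 hec] at hvv
        linear_combination hvv
      by_cases hy0 : y = 0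
      · rw [hy0, mulVec_zero, zero_add] at hsplit
        intro l hl
        rw [hsplit, tv_eq_up]
        exact hT c hc0 hcc _ (by rw [conjTranspose_smul, dy_conjT, hl, neg_smul])
      obtain ⟨A, hA, hA'⟩ := exists_skew_map hy0 (w := -x) (by
        rw [ip_neg_left, ip_neg_right]; linear_combination -htr)
      obtain ⟨g, hg, hgv, -⟩ := Rch.upc hT hc0 hcc hec y x hA
      rw [hA', add_neg_cancel, mulVec_zero, add_zero, ← hsplit] at hgv
      have hP : Pt N (cb β e *ᵥ y) := fun l hl => by
        rw [tv_eq_up]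
        exact hT e he0 hee _ (by rw [conjTranspose_smul, dy_conjT, hl, neg_smul])
      have h1 := hP.conj hN.mul hN.inv hN.isU (hN.inv _ hg)
      rwa [← hgv, mulVec_mulVec, show gᴴ * g = 1 from hN.isU _ hg, one_mulVec] at h1
    · -- one component less
      obtain ⟨δ, hδ, hδ'⟩ := (hU F β).exists_skew
      rw [starRingAut_apply] at hδ'
      obtain ⟨y1, x1, hy1, r1⟩ : ∃ y1 x1, y1 ≠ 0 ∧ Rch N c e y x y1 x1 := by
        by_cases hy0 : y = 0
        · have hx0 : x ≠ 0 := fun hx0 => by
            have hi0 : comp v i = 0 := by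
              have := hx.symm.trans hx0
              rwa [hy0, smul_zero, sub_zero] at this
            simp [hS, hi0] at hiS
          refine ⟨δ • x, x, smul_ne_zero hδ hx0, ?_⟩
          have := Rch.upe hT he0 hee hec y x (A := δ • (1 : Matrix β β F))
            (by rw [conjTranspose_smul, conjTranspose_one, hδ', neg_smul])
          rw [smul_mulVec, one_mulVec, hy0, zero_add] at this
          rw [hy0]
          exact this
        · exact ⟨y, x, hy0, 1, by rw [← one_kronecker_one]; exact hN.fst 1 isSU_one, one_mulVec _,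
            fun f z _ _ => one_mulVec _⟩
      set ν := ip x1 y1 + ip y1 x1 with hν
      have hνs : star ν = ν := by rw [hν, star_add, ip_conj, ip_conj, add_comm]
      obtain ⟨y2, hy20, hy2⟩ : ∃ y2 : β → F, y2 ≠ 0 ∧ ip y2 y2 = ν := by
        by_cases hν0 : ν = 0
        · obtain ⟨w, hw, hww⟩ := (hU F β).exists_isotropic (by rw [finrank_fintype_fun_eq_card]; exact hβ)
          exact ⟨w, hw, by rw [hν0]; exact hww⟩
        obtain ⟨r, hr⟩ := UField.norm ν hνs
        obtain ⟨p⟩ : Nonempty β := Fintype.card_pos_iff.1 (by omega)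
        refine ⟨Pi.single p r, fun h => hν0 ?_, by simp [ip, hr]⟩
        rw [← hr, Pi.single_eq_zero_iff.1 h, zero_mul]
      obtain ⟨x2, r2, t2⟩ := reach hN hT hβ hc0 hcc he0 hee hec hy1 hy20 x1
      obtain ⟨A, hA, hA'⟩ := exists_skew_map hy20 (w := (-(q * ζ)) • y2 - x2) (by
        rw [ip_sub_left, ip_sub_right, ip_smul_left, ip_smul_right, star_neg, star_mul', hqs, hy2]
        linear_combination ν * hq1 + ν * q * hζn - t2)
      have r3 := Rch.upc hT hc0 hcc hec y2 x2 hA
      rw [hA', add_sub_cancel] at r3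
      obtain ⟨g, hg, hgv, hgf⟩ := (r1.trans hN r2).trans hN r3
      set v' := g *ᵥ v with hv'
      have hv'eq : v' = cb β ei *ᵥ y2 + rest := by
        rw [hv', hsplit, mulVec_add, hgv, hfix hgf]
        congr 1
        simp only [he, hc, cb_add, cb_smul, add_mulVec, smul_mulVec, mulVec_smul, smul_add, smul_smul]
        match_scalars <;> first | ring1 | linear_combination hq1
      have hcomp : ∀ p, comp v' p ≠ 0 → p ∈ S.erase j := by
        intro p hp
        have e1 : comp v' p = ei p • y2 + comp rest p := by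
          rw [hv'eq]
          show comp (cb β ei *ᵥ y2) p + comp rest p = _
          rw [comp_cb]
        have e2 : comp rest p = if p ∈ ({i, j} : Finset κ) then 0 else comp v p := by
          have : comp rest p = ∑ r ∈ Finset.univ \ {i, j}, comp (cb β (Pi.single r (1 : F)) *ᵥ comp v r) p :=
            funext fun z => by simp [comp, hrest, Finset.sum_apply]
          rw [this]
          simp only [comp_cb, Pi.single_apply, ite_smul, one_smul, zero_smul, Finset.sum_ite_eq]
          by_cases h : p ∈ ({i, j} : Finset κ) <;> simp [h]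
        rcases eq_or_ne p j with rfl | hpj
        · exact absurd (by rw [e1, e2]; simp [hei, hij.symm]) hp
        rcases eq_or_ne p i with rfl | hpi
        · exact Finset.mem_erase.2 ⟨hpj, hiS⟩
        refine Finset.mem_erase.2 ⟨hpj, ?_⟩
        rw [e1, e2] at hp
        simpa [hS, hei, hpi, hpj] using hp
      have hcard : (Finset.univ.filter fun p => comp v' p ≠ 0).card ≤ n := by
        refine (Finset.card_le_card (t := S.erase j) fun p hp => hcomp p (Finset.mem_filter.1 hp).2).trans ?_
        rw [Finset.card_erase_of_mem hjS]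
        omega
      have h1 := (ih v' hcard (by rw [hv', (hN.isU _ hg).ip_map, hvv])).conj hN.mul hN.inv hN.isU (hN.inv _ hg)
      rwa [hv', mulVec_mulVec, show gᴴ * g = 1 from hN.isU _ hg, one_mulVec] at h1

end Cfsg.Agent.H30.UWreath
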