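import Cfsg.Agent.H30.UWreath.Merge

/-!
Transvections at pure vectors with one singular factor.
-/

set_option autoImplicit false
set_option maxHeartbeats 1000000
set_option linter.unusedSectionVars false
set_option linter.style.haveILetI false

universe u

namespace Cfsg.Agent.H30.UWreath

open Matrix Module Cfsg.Agent.H98.TensorUnit
open scoped Kronecker

variable {F : Type*} [Field F] [StarRing F] [UField F] [Finite F] {k : ℕ} {ι : Type u} [Fintype ι] [DecidableEq ι]
  {M : Set (Mt F ι k)}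

/-- All transvections at `x`. -/
def Pt {n : Type*} [Fintype n] [DecidableEq n] (M : Set (Matrix n n F)) (x : n → F) : Prop :=
  ∀ l : F, star l = -l → rt x l ∈ M

theorem ip_pv (u w : ι → Fin k → F) : ip (pv u) (pv w) = ∏ i, ip (u i) (w i) := by
  rw [ip, show star (pv w) = pv fun i => star (w i) from funext fun x => star_prod Finset.univ _, dot_pv]
  rfl

theorem pv_update (u : ι → Fin k → F) (d : ι) (y : Fin k → F) :
    pv (Function.update u d y) = fun x => y (x d) * ∏ i ∈ Finset.univ.erase d, u i (x i) := by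
  funext x
  rw [pv, ← Finset.mul_prod_erase _ _ (Finset.mem_univ d), Function.update_self]
  congr 1
  exact Finset.prod_congr rfl fun i hi => by rw [Function.update_of_ne (Finset.mem_erase.1 hi).1]

theorem pv_update_add_smul (u : ι → Fin k → F) (d : ι) (v y : Fin k → F) (r : F) :
    pv (Function.update u d (v + r • y)) = pv (Function.update u d v) + r • pv (Function.update u d y) := by
  rw [pv_update, pv_update, pv_update]
  funext x
  simp only [Pi.add_apply, Pi.smul_apply, smul_eq_mul]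
  ring

theorem pv_update_smul (u : ι → Fin k → F) (d : ι) (y : Fin k → F) (r : F) :
    pv (Function.update u d (r • y)) = r • pv (Function.update u d y) := by
  rw [pv_update, pv_update]
  funext x
  simp only [Pi.smul_apply, smul_eq_mul]
  ring

theorem sl_pv (a : ι) (D : Matrix (Fin k) (Fin k) F) (u : ι → Fin k → F) :
    sl a D *ᵥ pv u = pv (Function.update u a (D *ᵥ u a)) := by
  rw [sl, krn_pv]
  congr 1
  funext i
  rcases eq_or_ne i a with rfl | hi
  · simp
  · simp [Function.update_of_ne hi]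

theorem NT_univ (w : ι → Fin k → F) : NT Finset.univ w = dy (pv w) (pv w) := by
  ext x y
  rw [NT, krn_apply, dy, vecMulVec_apply, Pi.star_apply, pv, pv, star_prod, ← Finset.prod_mul_distrib]
  exact Finset.prod_congr rfl fun i hi => by rw [if_pos hi, dy, vecMulVec_apply, Pi.star_apply]

theorem rt_zero_vec {n : Type*} [Fintype n] [DecidableEq n] (l : F) : rt (0 : n → F) l = 1 := by
  simp [rt, dy]

theorem Pt.smul {n : Type*} [Fintype n] [DecidableEq n] {M : Set (Matrix n n F)} {x : n → F} (h : Pt M x) (r : F) :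
    Pt M (r • x) := fun l hl => by
  rw [rt_scale]
  exact h _ (by simp only [star_mul', star_star, hl]; ring)

theorem Pt.conj {n : Type*} [Fintype n] [DecidableEq n] {M : Set (Matrix n n F)} (hmul : ∀ g ∈ M, ∀ h ∈ M, g * h ∈ M)
    (hinv : ∀ g ∈ M, gᴴ ∈ M) (hU : ∀ g ∈ M, IsU g) {x : n → F} (h : Pt M x) {g : Matrix n n F} (hg : g ∈ M) :
    Pt M (g *ᵥ x) := fun l hl => by
  rw [← rt_conj (hU g hg)]
  exact hmul _ (hmul _ hg _ (h l hl)) _ (hinv _ hg)

theorem Pt.of_one (hG : Good F k) (hM : Ov M) {u : ι → Fin k → F} {a : ι} (ha0 : u a ≠ 0)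
    (ha : ip (u a) (u a) = 0) {m : F} (hm0 : m ≠ 0) (hm : star m = -m) (h : rt (pv u) m ∈ M) : Pt M (pv u) := by
  intro l hl
  by_cases hl0 : l = 0
  · rw [hl0, rt_zero]; exact hM.one a
  obtain ⟨x, hx⟩ := UField.norm (l / m) (by rw [star_div₀, hl, hm, neg_div_neg_eq])
  have hx0 : x ≠ 0 := fun e => div_ne_zero hl0 hm0 (by rw [← hx, e, zero_mul])
  obtain ⟨D, hD, hDc⟩ := exists_torus (κ := Fin k) (by simpa using hG.three) ha0 ha hx0
  have hDM := hM.slot a D hD
  have h1 := hM.mul _ (hM.mul _ hDM _ h) _ (hM.inv _ hDM)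
  rw [rt_conj (hM.isU _ hDM), sl_pv, hDc, pv_update_smul, Function.update_eq_self, rt_scale, hx,
    div_mul_cancel₀ _ hm0] at h1
  exact h1

theorem Pt.singular (hG : Good F k) (hM : Ov M) (a : ι) {v w : ι → Fin k → F} {γ : F}
    (hv : Sing Finset.univ v) (hw : Sing Finset.univ w) (hγ : γ ≠ 0) (h : 1 + γ • NT Finset.univ v ∈ M) :
    Pt M (pv w) := by
  have hne : (Finset.univ : Finset ι).Nonempty := ⟨a, Finset.mem_univ a⟩
  have h1 := root_move hG.three hM hne hv hw h
  have hγs : star γ = -γ := by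
    have h2 := (in_smul_NT hw h1).skew hM hne hw
    rw [conjTranspose_smul, NT_conjT, ← neg_smul] at h2
    exact smul_left_injective F (NT_ne_zero (by have := hG.three; omega) hw) h2
  refine Pt.of_one hG hM (hw a (Finset.mem_univ a)).1 (hw a (Finset.mem_univ a)).2 hγ hγs ?_
  rwa [rt, ← NT_univ]

/-- Two transvection products give the transvection at the radical. -/
theorem tri {n : Type*} [Fintype n] [DecidableEq n] {M : Set (Matrix n n F)} (hmul : ∀ g ∈ M, ∀ h ∈ M, g * h ∈ M)
    (hinv : ∀ g ∈ M, gᴴ ∈ M) {x r z : n → F} (hxx : ip x x = 0) (hrr : ip r r = 0) (hzz : ip z z = 0)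
    (hxr : ip x r = 0) (hrz : ip r z = 0) (hxz : ip x z = 1) {ρ σ : F} (hρσ : star ρ * σ + ρ * star σ ≠ 0)
    (hx : Pt M x) (hz : Pt M z) (h1 : Pt M (x + ρ • r)) (h2 : Pt M (x + σ • r)) :
    ∃ m : F, m ≠ 0 ∧ star m = -m ∧ rt r m ∈ M := by
  obtain ⟨δ, hδ, hδ'⟩ := (hU F n).exists_skew
  rw [starRingAut_apply] at hδ'
  have hrx := ip_symm0 hxr
  have hΨ : ∀ (t : F), Pt M (x + t • r) → sgm r ((δ * star t) • x) (δ * (t * star t)) ∈ M := fun t ht => by
    have h := hmul _ (ht δ hδ') _ (hx (-δ) (by rw [star_neg, hδ', neg_neg]))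
    convert h using 1
    refine Matrix.ext_iff_mulVec.2 fun v => ?_
    simp only [sgm, ← mulVec_mulVec, rt_mulVec, add_mulVec, sub_mulVec, one_mulVec, smul_mulVec, dy_mulVec,
      ip_add_left, ip_add_right, ip_smul_left, ip_smul_right, hxx, hxr, hrx, hrr, star_mul', star_star, hδ']
    match_scalars <;> ring
  set g := rt z δ with hg
  have hgU : IsU g := (rt_isSU hzz hδ').1
  have hgr : g *ᵥ r = r := by rw [hg, rt_mulVec, hrz, mul_zero, zero_smul, add_zero]
  have hgx : g *ᵥ x = x + δ • z := by rw [hg, rt_mulVec, hxz, mul_one]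
  set f1 := (δ * star ρ) • x with hf1
  set f2 := (δ * star σ) • (x + δ • z) with hf2
  have hP1 := hΨ ρ h1
  have hP2 : sgm r f2 (δ * (σ * star σ)) ∈ M := by
    have h := hmul _ (hmul _ (hz δ hδ') _ (hΨ σ h2)) _ (hinv _ (hz δ hδ'))
    rw [← hg] at h
    convert h using 1
    rw [sgm, sgm, Matrix.mul_add, Matrix.add_mul, Matrix.mul_one, hgU.inv_right, Matrix.mul_add, Matrix.mul_sub,
      Matrix.add_mul, Matrix.sub_mul, Matrix.mul_smul, Matrix.smul_mul, dy_sandwich, dy_sandwich, dy_sandwich, hgr,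
      mulVec_smul, hgx]
  have hf1r : ip f1 r = 0 := by rw [hf1, ip_smul_left, hxr, mul_zero]
  have hf2r : ip f2 r = 0 := by
    rw [hf2, ip_smul_left, ip_add_left, ip_smul_left, hxr, ip_symm0 hrz, mul_zero, add_zero, mul_zero]
  have hn1 : ip (-f1) r = 0 := by rw [ip_neg_left, hf1r, neg_zero]
  have hn2 : ip (-f2) r = 0 := by rw [ip_neg_left, hf2r, neg_zero]
  refine ⟨ip f1 f2 - ip f2 f1, ?_, by rw [star_sub, ip_conj, ip_conj, neg_sub], ?_⟩
  · have e : ip f1 f2 - ip f2 f1 = δ * δ * δ * (star ρ * σ + ρ * star σ) := by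
      simp only [hf1, hf2, ip_smul_left, ip_smul_right, ip_add_left, ip_add_right, hxx, hxz, ip_symm1 hxz,
        star_mul', star_star, hδ']
      ring
    rw [e]
    exact mul_ne_zero (mul_ne_zero (mul_ne_zero hδ hδ) hδ) hρσ
  · have hcomm := hmul _ (hmul _ (hmul _ hP1 _ hP2) _ (hinv _ hP1)) _ (hinv _ hP2)
    rw [sgm_conjT, sgm_conjT, sgm_mul hrr hf1r hf2r, sgm_mul hrr (by rw [ip_add_left, hf1r, hf2r, add_zero]) hn1,
      sgm_mul hrr (by rw [ip_add_left, ip_add_left, hf1r, hf2r, hn1, add_zero, add_zero]) hn2] at hcomm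
    convert hcomm using 1
    rw [show f1 + f2 + -f1 + -f2 = 0 by abel, sgm]
    simp only [dy, star_zero, vecMulVec_zero, zero_vecMulVec, sub_zero, zero_add, rt]
    congr 2
    simp only [hf1, hf2, ip_neg_left, ip_neg_right, ip_add_left, ip_add_right, ip_smul_left, ip_smul_right, hxx,
      hxz, hzz, ip_symm1 hxz, star_mul', star_star, hδ']
    ring

theorem exists_plane (hk : 3 ≤ k) {y : Fin k → F} (hy : ip y y ≠ 0) :
    ∃ (v w : Fin k → F) (ρ σ : F), v ≠ 0 ∧ ip v v = 0 ∧ w ≠ 0 ∧ ip w w = 0 ∧ ip v w = 1 ∧ ip y w = 0 ∧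
      star ρ * σ + ρ * star σ ≠ 0 ∧ v + ρ • y ≠ 0 ∧ ip (v + ρ • y) (v + ρ • y) = 0 ∧
      v + σ • y ≠ 0 ∧ ip (v + σ • y) (v + σ • y) = 0 := by
  have h1 := (hU F (Fin k)).finrank_le_of_perp ⊤ y
  rw [finrank_top, finrank_fintype_fun_eq_card, Fintype.card_fin, top_inf_eq] at h1
  obtain ⟨w, hw, hw0, hww⟩ := (hU F (Fin k)).exists_iso_mem (U := LinearMap.ker ((hU F (Fin k)).lin y)) (by omega)
  replace hw : ip w y = 0 := hw
  obtain ⟨e, hee, hwe⟩ := (hU F (Fin k)).exists_partner hw0 hww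
  simp only [hU_B] at hee hwe hww
  have hyw := ip_symm0 hw
  set n := ip y y with hn
  have hns : star n = n := ip_conj y y
  set v0 := (1 - ip e y / n) • y + e with hv0
  have v0w : ip v0 w = 1 := by
    rw [hv0, ip_add_left, ip_smul_left, hyw, mul_zero, zero_add, ip_symm1 hwe]
  obtain ⟨s, hs⟩ := (hU F (Fin k)).exists_trace (-ip v0 v0) (by rw [map_neg, starRingAut_apply, ip_conj])
  rw [starRingAut_apply] at hs
  set v := v0 + s • w with hv
  have hvv : ip v v = 0 := by
    simp only [hv, ip_add_left v0, ip_add_right _ v0, ip_smul_left, ip_smul_right, v0w, ip_symm1 v0w, hww]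
    linear_combination hs
  have hvw : ip v w = 1 := by rw [hv, ip_add_left, ip_smul_left, v0w, hww, mul_zero, add_zero]
  have hvy : ip v y = n := by
    rw [hv, hv0, ip_add_left, ip_add_left, ip_smul_left, ip_smul_left, hw, ← hn]
    field_simp
    ring
  have hyv : ip y v = n := by rw [← ip_conj v y, hvy, hns]
  have hsing : ∀ τ : F, τ ≠ 0 → τ + star τ = -1 →
      v + τ⁻¹ • y ≠ 0 ∧ ip (v + τ⁻¹ • y) (v + τ⁻¹ • y) = 0 := by
    intro τ hτ0 hτ
    refine ⟨fun h => ?_, ?_⟩
    · have h1 := congrArg (ip · w) h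
      simp [ip_add_left, ip_smul_left, hvw, hyw] at h1
    · have hτs : star τ ≠ 0 := star_ne_zero.2 hτ0
      simp only [ip_add_left, ip_add_right, ip_smul_left, ip_smul_right, hvv, hvy, hyv, ← hn, star_inv₀]
      field_simp
      linear_combination n * hτ
  have hv00 : v ≠ 0 := fun h => by rw [h, ip_zero_left] at hvw; exact zero_ne_one hvw
  obtain ⟨τ, hτ⟩ := (hU F (Fin k)).exists_trace (-1) (by rw [map_neg, map_one])
  rw [starRingAut_apply] at hτ
  have hτ0 : τ ≠ 0 := fun e => by rw [e, star_zero, add_zero] at hτ; exact one_ne_zero (neg_eq_zero.1 hτ.symm)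
  obtain ⟨a1, a2⟩ := hsing τ hτ0 hτ
  by_cases h2 : (2 : F) = 0
  · obtain ⟨δ, hδ, hδ'⟩ := (hU F (Fin k)).exists_skew
    rw [starRingAut_apply] at hδ'
    have hτ' : τ + δ + star (τ + δ) = -1 := by rw [star_add, hδ']; linear_combination hτ
    have hτ'0 : τ + δ ≠ 0 := fun e => by
      rw [e, star_zero, add_zero] at hτ'; exact one_ne_zero (neg_eq_zero.1 hτ'.symm)
    obtain ⟨b1, b2⟩ := hsing _ hτ'0 hτ'
    refine ⟨v, w, τ⁻¹, (τ + δ)⁻¹, hv00, hvv, hw0, hww, hvw, hyw, fun h => ?_, a1, a2, b1, b2⟩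
    have hτs : star τ ≠ 0 := star_ne_zero.2 hτ0
    have hτ's : star τ + -δ ≠ 0 := by rw [← hδ', ← star_add]; exact star_ne_zero.2 hτ'0
    rw [star_inv₀, star_inv₀, star_add, hδ'] at h
    field_simp at h
    refine hδ ?_
    linear_combination (-1 : F) * h + δ * hτ + (τ * star τ - δ * τ) * h2
  · refine ⟨v, w, τ⁻¹, τ⁻¹, hv00, hvv, hw0, hww, hvw, hyw, ?_, a1, a2, a1, a2⟩
    rw [mul_comm τ⁻¹, ← two_mul]
    exact mul_ne_zero h2 (mul_ne_zero (star_ne_zero.2 (inv_ne_zero hτ0)) (inv_ne_zero hτ0))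

/-- All pure vectors with one singular factor. -/
theorem Pt.pure (hG : Good F k) (hM : Ov M) (hS : ¬ Small M)
    (hcyc : ∀ σ : Equiv.Perm ι, σ ^ 3 = 1 → pm σ ∈ M) (a : ι) {u : ι → Fin k → F} (ha0 : u a ≠ 0)
    (ha : ip (u a) (u a) = 0) : Pt M (pv u) := by
  obtain ⟨v0, γ, hv0, hγ, hroot⟩ := exists_full_root hG hM hS hcyc
  suffices key : ∀ (J : Finset ι), a ∉ J → ∀ u : ι → Fin k → F, (∀ i ∉ J, u i ≠ 0 ∧ ip (u i) (u i) = 0) →
      Pt M (pv u) from key (Finset.univ.erase a) (Finset.notMem_erase a _) u fun i hi => by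
    obtain rfl : i = a := by simpa using hi
    exact ⟨ha0, ha⟩
  intro J
  induction J using Finset.induction with
  | empty => intro _ u hu; exact Pt.singular hG hM a hv0 (fun i _ => hu i (Finset.notMem_empty i)) hγ hroot
  | insert d J hd ih =>
    intro haJ u hu
    rw [Finset.mem_insert, not_or] at haJ
    obtain ⟨had, haJ⟩ := haJ
    by_cases hz : ∃ i, u i = 0
    · obtain ⟨i, hi⟩ := hz
      intro l _
      rw [pv_eq_zero i hi, rt_zero_vec]
      exact hM.one a
    push Not at hz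
    by_cases hy : ip (u d) (u d) = 0
    · refine ih haJ u fun i hi => ?_
      rcases eq_or_ne i d with rfl | hid
      · exact ⟨hz i, hy⟩
      · exact hu i (by simp [hid, hi])
    obtain ⟨ua0, uaa⟩ := hu a (by simp [had, haJ])
    obtain ⟨v, w, ρ, σ, hv0', hvv, hw0, hww, hvw, hyw, hρσ, a1, a2, b1, b2⟩ := exists_plane hG.three hy
    choose p hp using fun i => (show ∃ p : Fin k → F, p ≠ 0 ∧ ip (u i) p = 1 ∧
        (ip (u i) (u i) = 0 → ip p p = 0) from by
      by_cases hi : ip (u i) (u i) = 0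
      · obtain ⟨e, he, he'⟩ := (hU F (Fin k)).exists_partner (hz i) hi
        exact ⟨e, fun h => zero_ne_one (α := F) (by rw [← he', h, hU_B, ip_zero_right]), he', fun _ => he⟩
      · obtain ⟨e, he⟩ := (hU F (Fin k)).exists_one (hz i)
        exact ⟨e, fun h => zero_ne_one (α := F) (by rw [← he, h, hU_B, ip_zero_right]), he, fun h => absurd h hi⟩)
    have hsing : ∀ t : Fin k → F, t ≠ 0 → ip t t = 0 → Pt M (pv (Function.update u d t)) := fun t ht0 ht =>
      ih haJ _ fun i hi => by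
        rcases eq_or_ne i d with rfl | hid
        · simp [ht0, ht]
        · rw [Function.update_of_ne hid]; exact hu i (by simp [hid, hi])
    have hzP : Pt M (pv (Function.update p d w)) := ih haJ _ fun i hi => by
      rcases eq_or_ne i d with rfl | hid
      · simp [hw0, hww]
      · rw [Function.update_of_ne hid]; exact ⟨(hp i).1, (hp i).2.2 (hu i (by simp [hid, hi])).2⟩
    have hda : d ≠ a := Ne.symm had
    obtain ⟨m, hm0, hm, hr⟩ := tri (n := ι → Fin k) hM.mul hM.inv (x := pv (Function.update u d v)) (r := pv u)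
      (z := pv (Function.update p d w)) (ρ := ρ) (σ := σ)
      (by rw [ip_pv]; exact Finset.prod_eq_zero (Finset.mem_univ d) (by simp [hvv]))
      (by rw [ip_pv]; exact Finset.prod_eq_zero (Finset.mem_univ a) uaa)
      (by rw [ip_pv]; exact Finset.prod_eq_zero (Finset.mem_univ d) (by simp [hww]))
      (by rw [ip_pv]; exact Finset.prod_eq_zero (Finset.mem_univ a) (by rw [Function.update_of_ne had]; exact uaa))
      (by rw [ip_pv]; exact Finset.prod_eq_zero (Finset.mem_univ d) (by simp [hyw]))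
      (by
        rw [ip_pv]
        refine Finset.prod_eq_one fun i _ => ?_
        rcases eq_or_ne i d with rfl | hid
        · simp [hvw]
        · rw [Function.update_of_ne hid, Function.update_of_ne hid, (hp i).2.1])
      hρσ (hsing v hv0' hvv) hzP
      (by
        have h := hsing _ a1 a2
        rwa [pv_update_add_smul, Function.update_eq_self] at h)
      (by
        have h := hsing _ b1 b2
        rwa [pv_update_add_smul, Function.update_eq_self] at h)
    exact Pt.of_one hG hM ua0 uaa hm0 hm hr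

end Cfsg.Agent.H30.UWreath
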